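import Groth.Agent.Lib.MagnetGr25.Alg
import Groth.Prelude.Def_Magnet4
import Mathlib.RingTheory.Ideal.Quotient.Operations
import Mathlib.RingTheory.Nilpotent.Basic

/-! # Truncations of monoid algebras along a weight -/

set_option autoImplicit false

universe u

noncomputable section

namespace GrothLib.MagnetGr

open Magnet

variable {M : Type} [AddCommMonoid M] {N : AddSubmonoid M} (d : M →+ ℤ) (E : Type u) [CommRing E]

/-- The weight of an exponent. -/
abbrev wt (k : Multiplicative N) : ℤ := d (k.toAdd : M)

theorem wt_mul (k l : Multiplicative N) : wt d (k * l) = wt d k + wt d l := by simp [wt]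

variable (N) in
/-- The ideal of functions of weight at least `n`. -/
def wtIdeal (n : ℕ) : Ideal (MA E N) := Ideal.span {z | ∃ k : Multiplicative N, (n : ℤ) ≤ wt d k ∧ z = MonoidAlgebra.single k 1}

theorem single_mem_wtIdeal (n : ℕ) (k : Multiplicative N) (h : (n : ℤ) ≤ wt d k) (r : E) :
    MonoidAlgebra.single k r ∈ wtIdeal N d E n := by
  have : (MonoidAlgebra.single k r : MA E N) = MonoidAlgebra.single 1 r * MonoidAlgebra.single k 1 := by
    rw [MonoidAlgebra.single_mul_single, one_mul, mul_one]
  rw [this]
  exact Ideal.mul_mem_left _ _ (Ideal.subset_span ⟨k, h, rfl⟩)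

variable {d} (hd : ∀ k : Multiplicative N, 0 ≤ wt d k)

include hd in
theorem mem_wtIdeal_iff (n : ℕ) (z : MA E N) :
    z ∈ wtIdeal N d E n ↔ ∀ k, wt d k < n → z.coeff k = 0 := by
  constructor
  · intro hz
    induction hz using Submodule.span_induction with
    | mem z hz =>
      obtain ⟨k, hk, rfl⟩ := hz
      intro l hl
      rw [MonoidAlgebra.coeff_single, Finsupp.single_eq_of_ne]
      rintro rfl
      omega
    | zero => simp
    | add x y _ _ hx hy => intro k hk; simp [hx k hk, hy k hk]
    | smul r x _ hx =>
      intro k hk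
      rw [smul_eq_mul]
      classical
      rw [MonoidAlgebra.coeff_mul, Finsupp.sum]
      refine Finset.sum_eq_zero fun i _ => ?_
      rw [Finsupp.sum]
      refine Finset.sum_eq_zero fun l _ => ?_
      split_ifs with h
      · rw [hx l ?_, mul_zero]
        have := wt_mul d i l
        have := hd i
        rw [h] at *
        omega
      · rfl
  · intro h
    rw [← z.sum_coeff_single, Finsupp.sum]
    refine Ideal.sum_mem _ fun k hk => single_mem_wtIdeal d E n k ?_ _
    by_contra hc
    exact Finsupp.mem_support_iff.1 hk (h k (by omega))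

theorem wtIdeal_mono {n m : ℕ} (h : n ≤ m) : wtIdeal N d E m ≤ wtIdeal N d E n := by
  refine Ideal.span_mono ?_
  rintro _ ⟨k, hk, rfl⟩
  exact ⟨k, by omega, rfl⟩

include hd in
theorem eq_of_forall_sub_mem {z w : MA E N} (h : ∀ n : ℕ, 1 ≤ n → z - w ∈ wtIdeal N d E n) : z = w := by
  refine ext_coeff fun k => ?_
  have := (mem_wtIdeal_iff E hd ((wt d k).toNat + 1) (z - w)).1 (h _ (by omega)) k (by have := hd k; omega)
  rw [MonoidAlgebra.coeff_sub, Finsupp.sub_apply, sub_eq_zero] at this
  exact this

theorem wtIdeal_mul (n m : ℕ) : wtIdeal N d E n * wtIdeal N d E m ≤ wtIdeal N d E (n + m) := by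
  rw [wtIdeal, wtIdeal, Ideal.span_mul_span']
  refine Ideal.span_le.2 ?_
  rintro _ ⟨_, ⟨k, hk, rfl⟩, _, ⟨l, hl, rfl⟩, rfl⟩
  refine Ideal.subset_span ⟨k * l, ?_, by change _ * _ = _; rw [MonoidAlgebra.single_mul_single, one_mul]⟩
  rw [wt_mul]
  push_cast
  omega

theorem wtIdeal_pow (n : ℕ) : wtIdeal N d E 1 ^ (n + 1) ≤ wtIdeal N d E (n + 1) := by
  induction n with
  | zero => simp
  | succ n ih =>
    rw [pow_succ]
    exact (mul_le_mul' ih le_rfl).trans (wtIdeal_mul E _ _)

/-- The character extended by zero from a face. -/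
def extChar {F : AddSubmonoid M} (hF : IsFace N F) {E' : Type u} [CommRing E'] (χ : Multiplicative F →* E') :
    Multiplicative N →* E' :=
  (evC (RingHom.id E') χ : MA E' F →* E').comp (faceMonoidHom E' hF)

theorem extChar_of_mem {F : AddSubmonoid M} (hF : IsFace N F) {E' : Type u} [CommRing E']
    (χ : Multiplicative F →* E') (k : Multiplicative N) (h : (k.toAdd : M) ∈ F) :
    extChar hF χ k = χ (Multiplicative.ofAdd ⟨_, h⟩) := by
  change evC (RingHom.id E') χ (faceMonoidHom E' hF (Multiplicative.ofAdd k.toAdd)) = _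
  rw [faceMonoidHom_apply_of_mem E' hF _ h, evC_single, RingHom.id_apply, one_mul]

theorem extChar_of_not_mem {F : AddSubmonoid M} (hF : IsFace N F) {E' : Type u} [CommRing E']
    (χ : Multiplicative F →* E') (k : Multiplicative N) (h : (k.toAdd : M) ∉ F) : extChar hF χ k = 0 := by
  change evC (RingHom.id E') χ (faceMonoidHom E' hF (Multiplicative.ofAdd k.toAdd)) = _
  rw [faceMonoidHom_apply_of_not_mem E' hF _ h, map_zero]

/-- The projection to the face. -/
def projF {F : AddSubmonoid M} (hF : IsFace N F) : MA E N →+* MA E F := evC cst (extChar hF uni)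

theorem projF_surjective {F : AddSubmonoid M} (hF : IsFace N F) : Function.Surjective (projF E hF) := by
  intro z
  induction z using MonoidAlgebra.induction_linear with
  | zero => exact ⟨0, map_zero _⟩
  | add x y hx hy =>
    obtain ⟨x', rfl⟩ := hx
    obtain ⟨y', rfl⟩ := hy
    exact ⟨x' + y', map_add _ _ _⟩
  | single k r =>
    refine ⟨MonoidAlgebra.single (Multiplicative.ofAdd (⟨k.toAdd.1, hF.le k.toAdd.2⟩ : N)) r, ?_⟩
    rw [projF, evC_single, extChar_of_mem hF _ _ k.toAdd.2]
    change MonoidAlgebra.single 1 r * MonoidAlgebra.single _ 1 = _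
    rw [MonoidAlgebra.single_mul_single, one_mul, mul_one]
    rfl

include hd in
theorem ker_projF {F : AddSubmonoid M} (hF : IsFace N F) (hdF : ∀ k : Multiplicative N, wt d k = 0 ↔ (k.toAdd : M) ∈ F) :
    RingHom.ker (projF E hF) = wtIdeal N d E 1 := by
  classical
  apply le_antisymm
  · intro z hz
    rw [mem_wtIdeal_iff E hd]
    intro k hk
    have hkF : (k.toAdd : M) ∈ F := (hdF k).1 (by have := hd k; push_cast at hk; omega)
    let kF : Multiplicative F := Multiplicative.ofAdd ⟨_, hkF⟩
    have key : ∀ w : MA E N, (projF E hF w).coeff kF = w.coeff k := by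
      intro w
      induction w using MonoidAlgebra.induction_linear with
      | zero => simp
      | add x y hx hy => simp [map_add, hx, hy]
      | single l r =>
        rw [projF, evC_single]
        by_cases hl : (l.toAdd : M) ∈ F
        · rw [extChar_of_mem hF _ _ hl]
          change (MonoidAlgebra.single 1 r * MonoidAlgebra.single (Multiplicative.ofAdd (⟨_, hl⟩ : F)) 1 : MA E F).coeff kF = _
          rw [MonoidAlgebra.single_mul_single, one_mul,
            mul_one, MonoidAlgebra.coeff_single, Finsupp.single_apply, MonoidAlgebra.coeff_single, Finsupp.single_apply]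
          have : (Multiplicative.ofAdd (⟨_, hl⟩ : F) = kF) ↔ l = k := by
            simp [kF, Subtype.ext_iff]
          by_cases e : l = k
          · rw [if_pos (this.2 e), if_pos e]
          · rw [if_neg (mt this.1 e), if_neg e]
        · rw [extChar_of_not_mem hF _ _ hl, mul_zero, MonoidAlgebra.coeff_zero, MonoidAlgebra.coeff_single,
            Finsupp.single_eq_of_ne]
          · rfl
          rintro rfl
          exact hl hkF
    rw [← key, show projF E hF z = 0 from hz]
    simp
  · refine Ideal.span_le.2 ?_
    rintro _ ⟨k, hk, rfl⟩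
    change projF E hF _ = 0
    rw [projF, evC_single, extChar_of_not_mem hF _ _ (fun h => by rw [← hdF] at h; omega), mul_zero]

end GrothLib.MagnetGr
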