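import Groth.Agent.Lib.MagnetGr25.Attr
import Groth.Agent.Lib.MagnetGr25.Trunc

/-! # Points of the face morphism -/

set_option autoImplicit false
set_option backward.isDefEq.respectTransparency false
set_option backward.isDefEq.respectTransparency.types false

universe u

open CategoryTheory MonoidalCategory CartesianMonoidalCategory MonObj AlgebraicGeometry Opposite

noncomputable section

namespace GrothLib.MagnetGr

open Magnet MagnetPts

variable {S : Scheme.{u}} {M : Type} [AddCommMonoid M] {N F : AddSubmonoid M}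

/-- The face morphism on points extends characters by zero. -/
theorem amsPoint_faceMap (hF : IsFace N F) {C : Type u} [CommRing C] (p : Spec (CommRingCat.of C) ⟶ S)
    (χ : Multiplicative F →* C) :
    amsPoint ↥F p χ ≫ AMonS.faceMap S hF = amsPoint ↥N p (extChar hF χ) := by
  apply hom_ext_fst
  rw [Over.comp_left, Category.assoc]
  erw [show (AMonS.faceMap S hF).left ≫ Limits.pullback.fst _ _ =
      Limits.pullback.fst _ _ ≫ (AMon.faceMap (ULift.{u} ℤ) hF).left from Limits.pullback.lift_fst _ _ _]
  rw [reassoc_of% amsPoint_fst, amsPoint_fst, AMon.faceMap_left]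
  erw [← Spec.map_comp]
  congr 1
  apply CommRingCat.hom_ext
  refine MonoidAlgebra.ringHom_ext (fun r => hz_ext _ _ r) fun k => ?_
  refine Eq.trans ?_ (lift_ringHom_of _ k).symm
  rw [CommRingCat.hom_comp, CommRingCat.hom_ofHom, CommRingCat.hom_ofHom, RingHom.comp_apply]
  by_cases h : (k.toAdd : M) ∈ F
  · rw [extChar_of_mem hF _ _ h]
    refine (congrArg _ (faceAlgHom_single_of_mem (ULift.{u} ℤ) hF k.toAdd h 1)).trans ?_
    exact lift_ringHom_of χ _
  · rw [extChar_of_not_mem hF _ _ h]
    exact (congrArg _ (faceAlgHom_single_of_not_mem (ULift.{u} ℤ) hF k.toAdd h 1)).trans (map_zero _)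

variable {X Y : Over S} {a : MonAct (AMonS S M) X} {b : MonAct (AMonS S M) Y}
variable {E : Type u} [CommRing E] {s : Spec (CommRingCat.of E) ⟶ S}

theorem ev_face (hF : IsFace N F) (γ : AMonS S N ⊗ Over.mk s ⟶ X) {E' : Type u} [CommRing E'] (j : E →+* E')
    (χ : Multiplicative F →* E') :
    ev ((AMonS.faceMap S hF ▷ Over.mk s) ≫ γ) j χ = ev γ j (extChar hF χ) := by
  rw [ev, ev, pt, pt, lift_whiskerRight_assoc, amsPoint_faceMap]

theorem ev_comp (γ : AMonS S N ⊗ Over.mk s ⟶ X) (f : X ⟶ Y) {E' : Type u} [CommRing E'] (j : E →+* E')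
    (χ : Multiplicative N →* E') : ev (γ ≫ f) j χ = ev γ j χ ≫ f.left := by
  simp [ev]

theorem comp_extChar (hF : IsFace N F) {E' E'' : Type u} [CommRing E'] [CommRing E''] (φ : E' →+* E'')
    (χ : Multiplicative F →* E') : (φ : E' →* E'').comp (extChar hF χ) = extChar hF ((φ : E' →* E'').comp χ) := by
  refine MonoidHom.ext fun k => ?_
  by_cases h : (k.toAdd : M) ∈ F
  · rw [MonoidHom.comp_apply, extChar_of_mem hF _ _ h, extChar_of_mem hF _ _ h]
    rfl
  · rw [MonoidHom.comp_apply, extChar_of_not_mem hF _ _ h, extChar_of_not_mem hF _ _ h]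
    exact map_zero φ

end GrothLib.MagnetGr
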