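import Groth.Agent.Lib.MagnetGr25.Orb
import Mathlib.RingTheory.Localization.Away.Basic
import Mathlib.RingTheory.Spectrum.Prime.Topology

/-! # Affine charts of actions of diagonalizable monoid schemes and their gradings -/

set_option autoImplicit false
set_option backward.isDefEq.respectTransparency false
set_option backward.isDefEq.respectTransparency.types false

universe u

open CategoryTheory MonoidalCategory CartesianMonoidalCategory AlgebraicGeometry Opposite

noncomputable section

namespace GrothLib.MagnetGr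

open Magnet MagnetPts

variable {S : Scheme.{u}} {M : Type} [AddCommMonoid M] {X Y : Over S} (a : MonAct (AMonS S M) X)

/-- A stable affine chart, with its coaction. -/
structure Chart where
  /-- The ring. -/
  A : Type u
  [ring : CommRing A]
  /-- The inclusion. -/
  inc : Spec (CommRingCat.of A) ⟶ X.left
  [isOpen : IsOpenImmersion inc]
  /-- The coaction. -/
  δ : A →+* MA A M
  hδ : Spec.map (CommRingCat.ofHom δ) ≫ inc = orb a (Spec.map (CommRingCat.ofHom cst) ≫ inc) uni

attribute [instance] Chart.ring Chart.isOpen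

theorem specMap_comp {R R' R'' : Type u} [CommRing R] [CommRing R'] [CommRing R''] (φ : R →+* R') (ψ : R' →+* R'')
    {Z : Scheme.{u}} (g : Spec (CommRingCat.of R) ⟶ Z) :
    Spec.map (CommRingCat.ofHom ψ) ≫ Spec.map (CommRingCat.ofHom φ) ≫ g =
      Spec.map (CommRingCat.ofHom (ψ.comp φ)) ≫ g := by
  rw [← Spec.map_comp_assoc]
  rfl

theorem specMap_inj {R R' : Type u} [CommRing R] [CommRing R'] {φ ψ : R →+* R'}
    {Z : Scheme.{u}} (g : Spec (CommRingCat.of R) ⟶ Z) [Mono g]
    (h : Spec.map (CommRingCat.ofHom φ) ≫ g = Spec.map (CommRingCat.ofHom ψ) ≫ g) : φ = ψ := by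
  rw [cancel_mono] at h
  exact congrArg CommRingCat.Hom.hom (Spec.map_injective h)

namespace Chart

variable {a} (U : Chart a)

theorem exists_pt {R : Type u} [CommRing R] (x : Spec (CommRingCat.of R) ⟶ X.left)
    (h : Set.range x.base ⊆ Set.range U.inc.base) :
    ∃ φ : U.A →+* R, Spec.map (CommRingCat.ofHom φ) ≫ U.inc = x := by
  obtain ⟨φ, hφ⟩ := Spec.map_surjective (IsOpenImmersion.lift U.inc x h)
  exact ⟨φ.hom, by rw [CommRingCat.ofHom_hom, hφ, IsOpenImmersion.lift_fac]⟩

theorem orb_pt {E : Type u} [CommRing E] (φ : U.A →+* E) (χ : Multiplicative M →* E) :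
    orb a (Spec.map (CommRingCat.ofHom φ) ≫ U.inc) χ =
      Spec.map (CommRingCat.ofHom ((evC φ χ).comp U.δ)) ≫ U.inc := by
  rw [← specMap_comp, U.hδ, comp_orb, specMap_comp, evC_comp_cst, evC_comp_uni]

theorem δ_one (x : U.A) : evC (RingHom.id U.A) 1 (U.δ x) = x := by
  have h := U.orb_pt (RingHom.id U.A) 1
  rw [orb_one] at h
  exact (RingHom.congr_fun (specMap_inj U.inc h) x).symm

theorem sum_coeff (x : U.A) : ∑ m ∈ (U.δ x).coeff.support, (U.δ x).coeff m = x := by
  conv_rhs => rw [← U.δ_one x, evC_one_apply]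
  rfl

theorem coeff_diag (p : MA U.A M) (m : Multiplicative M) :
    (evC ((cst : MA U.A M →+* MA (MA U.A M) M).comp cst)
      (uni * ((cst : MA U.A M →+* MA (MA U.A M) M) : MA U.A M →* MA (MA U.A M) M).comp uni) p).coeff m =
      MonoidAlgebra.single m (p.coeff m) := by
  induction p using MonoidAlgebra.induction_linear with
  | zero => simp
  | add x y hx hy => simp [map_add, hx, hy]
  | single k r =>
    rw [evC_single]
    simp only [MonoidHom.mul_apply, MonoidHom.coe_comp, Function.comp_apply, RingHom.coe_comp,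
      MonoidAlgebra.of_apply, MonoidHom.coe_coe]
    simp only [MonoidAlgebra.singleOneRingHom, RingHom.coe_mk, MonoidHom.coe_mk, OneHom.coe_mk,
      MonoidAlgebra.single_mul_single, mul_one, one_mul, MonoidAlgebra.coeff_single]
    by_cases h : k = m
    · subst h; simp
    · simp [Finsupp.single_eq_of_ne (Ne.symm h)]

theorem δ_coeff (x : U.A) (m : Multiplicative M) :
    U.δ ((U.δ x).coeff m) = MonoidAlgebra.single m ((U.δ x).coeff m) := by
  let cc : U.A →+* MA (MA U.A M) M := (cst : MA U.A M →+* MA (MA U.A M) M).comp cst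
  let d : Multiplicative M →* MA (MA U.A M) M :=
    ((cst : MA U.A M →+* MA (MA U.A M) M) : MA U.A M →* MA (MA U.A M) M).comp uni
  have h1 : evC cc d = cst := hom_ext_cst (evC_comp_cst _ _) (evC_comp_uni _ _)
  have h := orb_orb a (Spec.map (CommRingCat.ofHom cc) ≫ U.inc) uni d
  rw [U.orb_pt, U.orb_pt, U.orb_pt, h1] at h
  have h2 := RingHom.congr_fun (specMap_inj U.inc h) x
  change evC ((cst : MA U.A M →+* MA (MA U.A M) M).comp U.δ) uni (U.δ x) = evC cc (uni * d) (U.δ x) at h2
  have h3 : evC ((cst : MA U.A M →+* MA (MA U.A M) M).comp U.δ) uni = MonoidAlgebra.mapRingHom (Multiplicative M) U.δ :=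
    hom_ext_cst
      ((evC_comp_cst _ _).trans (RingHom.ext fun r => by simp [MonoidAlgebra.singleOneRingHom]))
      ((evC_comp_uni _ _).trans (MonoidHom.ext fun k => by simp))
  rw [h3] at h2
  have h4 := congrArg (fun q : MA (MA U.A M) M => q.coeff m) h2
  rw [coeff_diag, MonoidAlgebra.coeff_mapRingHom] at h4
  exact h4

theorem coeff_coeff (x : U.A) (m n : Multiplicative M) [Decidable (m = n)] :
    (U.δ ((U.δ x).coeff m)).coeff n = if m = n then (U.δ x).coeff m else 0 := by
  rw [U.δ_coeff, MonoidAlgebra.coeff_single, Finsupp.single_apply]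

end Chart

/-- Stable affine opens give charts. -/
theorem exists_chart (V : X.left.Opens) (hV : IsAffineOpen V)
    (hst : (CartesianMonoidalCategory.snd (AMonS S M) X).left ⁻¹ᵁ V ≤ a.act.left ⁻¹ᵁ V) :
    ∃ U : Chart a, Set.range U.inc.base = (V : Set X.left) := by
  let A := Γ(X.left, V)
  let inc : Spec (CommRingCat.of A) ⟶ X.left := hV.fromSpec
  haveI : IsOpenImmersion inc := hV.isOpenImmersion_fromSpec
  let L : Spec (CommRingCat.of (MA A M)) ⟶ X.left :=
    orb a (Spec.map (CommRingCat.ofHom (cst : A →+* MA A M)) ≫ inc) uni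
  have hL : Set.range L.base ⊆ Set.range inc.base := by
    rintro _ ⟨w, rfl⟩
    rw [show Set.range inc.base = (V : Set X.left) from hV.range_fromSpec]
    let lf := lift (amsPoint M ((Spec.map (CommRingCat.ofHom (cst : A →+* MA A M)) ≫ inc) ≫ X.hom) uni)
      (Over.homMk (Spec.map (CommRingCat.ofHom (cst : A →+* MA A M)) ≫ inc) rfl : Over.mk _ ⟶ X)
    refine hst (show (snd (AMonS S M) X).left.base (lf.left.base w) ∈ V from ?_)
    have : (lf ≫ snd (AMonS S M) X).left.base w ∈ V := by
      rw [lift_snd]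
      exact hV.range_fromSpec.le ⟨_, rfl⟩
    exact this
  obtain ⟨δ, hδ⟩ := Spec.map_surjective (IsOpenImmersion.lift inc L hL)
  exact ⟨⟨A, inc, δ.hom, by rw [CommRingCat.ofHom_hom, hδ, IsOpenImmersion.lift_fac]⟩, hV.range_fromSpec⟩

/-- The preimage of an open of the base is stable. -/
theorem stable_preimage (W : S.Opens) :
    (CartesianMonoidalCategory.snd (AMonS S M) X).left ⁻¹ᵁ (X.hom ⁻¹ᵁ W) ≤ a.act.left ⁻¹ᵁ (X.hom ⁻¹ᵁ W) := by
  rw [← Scheme.Hom.comp_preimage, ← Scheme.Hom.comp_preimage, Over.w, Over.w]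

/-- For a scheme affine over the base, the affine opens of the base give charts. -/
theorem exists_chart_of_isAffineHom [IsAffineHom X.hom] (W : S.Opens) (hW : IsAffineOpen W) :
    ∃ U : Chart a, Set.range U.inc.base = X.hom.base ⁻¹' (W : Set S) :=
  exists_chart a (X.hom ⁻¹ᵁ W) (hW.preimage X.hom) (stable_preimage a W)

end GrothLib.MagnetGr
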