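import Groth.Agent.Lib.MagnetGr25.Attr
import Groth.Agent.Lib.MagnetGr25.Chart
import Groth.Agent.Lib.MagnetSep25.Basic
import Mathlib.AlgebraicGeometry.AffineTransitionLimit
import Mathlib.AlgebraicGeometry.Morphisms.FinitePresentation
import Mathlib.Algebra.Category.Ring.FilteredColimits
import Mathlib.CategoryTheory.Limits.Types.Filtered
import Mathlib.Algebra.Group.Submonoid.Membership

/-! # Attractors of a directed union of magnets -/

set_option autoImplicit false
set_option backward.isDefEq.respectTransparency false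
set_option backward.isDefEq.respectTransparency.types false

universe u

open CategoryTheory CategoryTheory.Limits MonoidalCategory CartesianMonoidalCategory AlgebraicGeometry Opposite

noncomputable section

namespace GrothLib.MagnetGr

open Magnet MagnetPts

variable {M : Type} [AddCommMonoid M]

/-- The inclusion of monoid algebras. -/
def inclR (E : Type u) [CommRing E] {N L : AddSubmonoid M} (h : N ≤ L) : MA E N →+* MA E L :=
  MonoidAlgebra.mapDomainRingHom E (AddMonoidHom.toMultiplicative (AddSubmonoid.inclusion h))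

@[simp] theorem inclR_single {E : Type u} [CommRing E] {N L : AddSubmonoid M} (h : N ≤ L) (k : Multiplicative N)
    (r : E) : inclR E h (MonoidAlgebra.single k r) =
      MonoidAlgebra.single (AddMonoidHom.toMultiplicative (AddSubmonoid.inclusion h) k) r := by
  simp [inclR, MonoidAlgebra.mapDomainRingHom]

theorem inclR_injective (E : Type u) [CommRing E] {N L : AddSubmonoid M} (h : N ≤ L) :
    Function.Injective (inclR E h) :=
  MonoidAlgebra.mapDomain_injective fun _ _ e =>
    Multiplicative.toAdd.injective (AddSubmonoid.inclusion_injective h e :)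

theorem inclR_comp (E : Type u) [CommRing E] {N L K : AddSubmonoid M} (h : N ≤ L) (h' : L ≤ K) :
    (inclR E h').comp (inclR E h) = inclR E (h.trans h') :=
  MonoidAlgebra.ringHom_ext (fun r => by simp only [RingHom.comp_apply, inclR_single]; rfl)
    fun k => by simp only [RingHom.comp_apply, inclR_single]; rfl

theorem evC_inclR {E E' : Type u} [CommRing E] [CommRing E'] {N L : AddSubmonoid M} (h : N ≤ L) (j : E →+* E')
    (χ : Multiplicative L →* E') : (evC j χ).comp (inclR E h) =
      evC j (χ.comp (AddMonoidHom.toMultiplicative (AddSubmonoid.inclusion h))) :=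
  MonoidAlgebra.ringHom_ext (fun r => by simp) fun k => by simp

theorem inclR_comp_cst (E : Type u) [CommRing E] {N L : AddSubmonoid M} (h : N ≤ L) :
    (inclR E h).comp (cst : E →+* MA E N) = cst :=
  RingHom.ext fun r => (inclR_single h 1 r).trans (by rw [map_one]; rfl)

variable {S : Scheme.{u}} {X : Over S} (a : MonAct (AMonS S M) X)

theorem attrMap_app_val {N L : AddSubmonoid M} (h : N ≤ L) (T : Over S) (φ : (attr a N).obj (op T)) :
    ((attrMap a h).app (op T) φ).1 = (AMonS.map S (AddSubmonoid.inclusion h) ▷ T) ≫ φ.1 := rfl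

/-- For separated targets the maps of attractors are injective. -/
theorem attrMap_injective [IsSeparated X.hom] {N L : AddSubmonoid M} (h : N ≤ L) (T : Over S) :
    Function.Injective ((attrMap a h).app (op T)) := fun φ ψ e =>
  Subtype.ext (MagnetSep.ext_map (S := S) (AddSubmonoid.inclusion h) (AddSubmonoid.inclusion_injective h) φ.1 ψ.1
    (congrArg Subtype.val e))

theorem ev_map {N L : AddSubmonoid M} (h : N ≤ L) {E : Type u} [CommRing E] {s : Spec (CommRingCat.of E) ⟶ S}
    (γ : AMonS S N ⊗ Over.mk s ⟶ X) {E' : Type u} [CommRing E'] (j : E →+* E') (χ : Multiplicative L →* E') :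
    ev ((AMonS.map S (AddSubmonoid.inclusion h) ▷ Over.mk s) ≫ γ) j χ =
      ev γ j (χ.comp (AddMonoidHom.toMultiplicative (AddSubmonoid.inclusion h))) := by
  rw [ev, ev, pt, pt, lift_whiskerRight_assoc, amsPoint_map]

variable {a} {J : Type u} [Preorder J] [IsDirected J (· ≤ ·)] [Nonempty J] {N : J → AddSubmonoid M} (hN : Monotone N)
  {L : AddSubmonoid M} (hle : ∀ i, N i ≤ L) (hmem : ∀ x ∈ L, ∃ i, x ∈ N i)
  {E : Type u} [CommRing E] {s : Spec (CommRingCat.of E) ⟶ S}

variable (E) in
/-- The monoid algebras of the directed family. -/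
def unionDiag : J ⥤ CommRingCat.{u} where
  obj i := CommRingCat.of (MA E (N i))
  map h := CommRingCat.ofHom (inclR E (hN h.le))
  map_id i := CommRingCat.hom_ext (MonoidAlgebra.ringHom_ext (fun r => by
      simp only [CommRingCat.hom_ofHom, inclR_single]; rfl) fun k => by
      simp only [CommRingCat.hom_ofHom, inclR_single]; rfl)
  map_comp h h' := CommRingCat.hom_ext (inclR_comp E (hN h.le) (hN h'.le)).symm

variable (E) in
/-- Their union. -/
def unionCocone : Cocone (unionDiag hN E) where
  pt := CommRingCat.of (MA E L)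
  ι := { app := fun i => CommRingCat.ofHom (inclR E (hle i))
         naturality := fun i k h => CommRingCat.hom_ext (inclR_comp E (hN h.le) (hle k)) }

variable (E) in
/-- The union is the colimit. -/
def isColimitUnionCocone : IsColimit (unionCocone hN hle E) := by
  haveI := reflectsColimit_of_reflectsIsomorphisms (unionDiag hN E) (forget CommRingCat)
  refine isColimitOfReflects (forget CommRingCat) (Types.FilteredColimit.isColimitOf' _ _ (fun z => ?_) ?_)
  · suffices h : ∀ z : MA E L, ∃ (i : J) (w : MA E (N i)), z = inclR E (hle i) w from h z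
    clear z
    intro z
    induction z using MonoidAlgebra.induction_linear with
    | zero => exact ⟨Classical.arbitrary J, 0, (map_zero _).symm⟩
    | add x y hx hy =>
      obtain ⟨i, x', rfl⟩ := hx
      obtain ⟨k, y', rfl⟩ := hy
      obtain ⟨l, hil, hkl⟩ := exists_ge_ge i k
      refine ⟨l, inclR E (hN hil) x' + inclR E (hN hkl) y', ?_⟩
      rw [map_add, ← RingHom.comp_apply, inclR_comp, ← RingHom.comp_apply, inclR_comp]
    | single k r =>
      obtain ⟨i, hi⟩ := hmem _ k.toAdd.2
      exact ⟨i, MonoidAlgebra.single (Multiplicative.ofAdd (⟨_, hi⟩ : N i)) r, by rw [inclR_single]; rfl⟩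
  · intro i x y h
    exact ⟨i, 𝟙 i, by rw [inclR_injective E (hle i) h]⟩

include hN hle hmem in
/-- A family over the union comes from some member. -/
theorem exists_pt_of_union [LocallyOfFinitePresentation X.hom]
    (θ : Spec (CommRingCat.of (MA E L)) ⟶ X.left) (hθ : θ ≫ X.hom = str s cst) :
    ∃ (i : J) (g : Spec (CommRingCat.of (MA E (N i))) ⟶ X.left), g ≫ X.hom = str s cst ∧
      Spec.map (CommRingCat.ofHom (inclR E (hle i))) ≫ g = θ := by
  let c := Scheme.Spec.mapCone (unionCocone hN hle E).op
  have hc : IsLimit c := isLimitOfPreserves Scheme.Spec (isColimitUnionCocone hN hle hmem E).op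
  let t : (unionDiag hN E).op ⋙ Scheme.Spec ⟶ (Functor.const Jᵒᵖ).obj S :=
    { app := fun i => str s (cst : E →+* MA E (N i.unop))
      naturality := fun i k h => by
        change Spec.map (CommRingCat.ofHom (inclR E (hN h.unop.le))) ≫ _ = _ ≫ 𝟙 S
        rw [Category.comp_id, str, str, specMap_comp, inclR_comp_cst] }
  haveI : ∀ {i k} (h : i ⟶ k), IsAffineHom (((unionDiag hN E).op ⋙ Scheme.Spec).map h) := fun h => by
    change IsAffineHom (Spec.map _)
    infer_instance
  haveI : ∀ i, CompactSpace (((unionDiag hN E).op ⋙ Scheme.Spec).obj i) := fun i => by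
    change CompactSpace (Spec _)
    infer_instance
  haveI : ∀ i, QuasiSeparatedSpace (((unionDiag hN E).op ⋙ Scheme.Spec).obj i) := fun i => by
    change QuasiSeparatedSpace (Spec _)
    infer_instance
  obtain ⟨i, g, hg, hg'⟩ := Scheme.exists_π_app_comp_eq_of_locallyOfFinitePresentation
    ((unionDiag hN E).op ⋙ Scheme.Spec) t X.hom c hc θ (by
      ext i
      change Spec.map (CommRingCat.ofHom (inclR E (hle i.unop))) ≫ str s cst = θ ≫ X.hom
      rw [hθ, str, str, specMap_comp, inclR_comp_cst])
  exact ⟨i.unop, g, hg', hg⟩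

include hN hle hmem in
/-- The attractor of a directed union is the union of the attractors, on affine schemes. -/
theorem exists_attr_of_union [LocallyOfFinitePresentation X.hom] [IsSeparated X.hom]
    (φ : (attr a L).obj (op (Over.mk s))) :
    ∃ (i : J) (ψ : (attr a (N i)).obj (op (Over.mk s))), (attrMap a (hle i)).app (op (Over.mk s)) ψ = φ := by
  obtain ⟨i, g, hg, hgθ⟩ := exists_pt_of_union (s := s) hN hle hmem (ev φ.1 (cst : E →+* MA E L) uni) (ev_hom _ _ _)
  let γ := ofUniv g hg
  have hev : ∀ {E' : Type u} [CommRing E'] (j : E →+* E') (χ : Multiplicative L →* E'),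
      ev γ j (χ.comp (AddMonoidHom.toMultiplicative (AddSubmonoid.inclusion (hle i)))) = ev φ.1 j χ := by
    intro E' _ j χ
    rw [ev_ofUniv, ev_eq_univ φ.1, ← hgθ, specMap_comp, evC_inclR]
  have huniv : orb a (ev γ ((cst : MA E (N i) →+* MA (MA E (N i)) M).comp cst)
      (((cst : MA E (N i) →+* MA (MA E (N i)) M) : MA E (N i) →* MA (MA E (N i)) M).comp uni)) uni =
      ev γ ((cst : MA E (N i) →+* MA (MA E (N i)) M).comp cst) (res (N i) uni *
        ((cst : MA E (N i) →+* MA (MA E (N i)) M) : MA E (N i) →* MA (MA E (N i)) M).comp uni) := by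
    let P := MonoidAlgebra.mapRingHom (Multiplicative M) (inclR E (hle i))
    have hP : Function.Injective P := fun x y h => MonoidAlgebra.coeff_injective (Finsupp.ext fun k =>
      inclR_injective E (hle i) (by
        have := congrArg (fun q : MA (MA E L) M => q.coeff k) h
        simp only [P, MonoidAlgebra.coeff_mapRingHom] at this
        exact this))
    have := MagnetSep.isSTD_specMap (CommRingCat.ofHom P) hP
    refine Chow.ext_of_stdDominant (Spec.map (CommRingCat.ofHom P)) X.hom ?_ ?_
    · rw [orb_hom, ev_hom, ev_hom]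
    · have hj : P.comp ((cst : MA E (N i) →+* MA (MA E (N i)) M).comp cst) =
          (cst : MA E L →+* MA (MA E L) M).comp cst := RingHom.ext fun r => by
        simp [P, MonoidAlgebra.singleOneRingHom]
      have hu : (P : MA (MA E (N i)) M →* MA (MA E L) M).comp uni = uni := MonoidHom.ext fun k => by simp [P]
      have hx : (P : MA (MA E (N i)) M →* MA (MA E L) M).comp
            ((((cst : MA E (N i) →+* MA (MA E (N i)) M) : MA E (N i) →* MA (MA E (N i)) M).comp uni)) =
          ((((cst : MA E L →+* MA (MA E L) M) : MA E L →* MA (MA E L) M).comp uni)).comp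
            (AddMonoidHom.toMultiplicative (AddSubmonoid.inclusion (hle i))) :=
        MonoidHom.ext fun k => by simp [P, MonoidAlgebra.singleOneRingHom]
      rw [comp_orb, comp_ev, comp_ev, hj, hu, MonoidHom.comp_mul, hx]
      rw [show (P : MA (MA E (N i)) M →* MA (MA E L) M).comp (res (N i) uni) =
          (res L (uni : Multiplicative M →* MA (MA E L) M)).comp
            (AddMonoidHom.toMultiplicative (AddSubmonoid.inclusion (hle i))) from
        MonoidHom.ext fun k => by simp [P]]
      rw [← MonoidHom.mul_comp, hev, hev, orb_ev a φ.2]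
  have hγ : MonAct.IsEquivariant ((subAct S M (N i)).prod (MonAct.trivial (AMonS S M) (Over.mk s))) a γ := by
    refine isEquivariant_of_orb_ev a fun {E'} _ j χ u => ?_
    have h := congrArg (Spec.map (CommRingCat.ofHom (evC (evC j χ) u)) ≫ ·) huniv
    simp only [comp_orb, comp_ev, ← RingHom.comp_assoc, evC_comp_cst, evC_comp_uni, MonoidHom.comp_mul,
      ← MonoidHom.comp_assoc] at h
    have e1 : (((evC (evC j χ) u : MA (MA E (N i)) M →+* E') : MA (MA E (N i)) M →* E').comp
        ((cst : MA E (N i) →+* MA (MA E (N i)) M) : MA E (N i) →* MA (MA E (N i)) M)) =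
        ((evC j χ : MA E (N i) →+* E') : MA E (N i) →* E') := MonoidHom.ext fun z =>
      RingHom.congr_fun (evC_comp_cst (evC j χ) u) z
    rw [e1, evC_comp_uni] at h
    exact h
  refine ⟨i, ⟨γ, hγ⟩, Subtype.ext (hom_ext_univ ?_)⟩
  rw [attrMap_app_val, ev_map, hev]

end GrothLib.MagnetGr
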