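import Groth.Agent.Lib.MagnetGr25.Trunc
import Mathlib.AlgebraicGeometry.Morphisms.ClosedImmersion
import Mathlib.RingTheory.Nilpotent.Lemmas
import Mathlib.RingTheory.Spectrum.Prime.Topology

/-! # Truncations as thickenings of the face -/

set_option autoImplicit false

universe u

open CategoryTheory AlgebraicGeometry PrimeSpectrum

noncomputable section

namespace GrothLib.MagnetGr

open Magnet

theorem cst_apply {A : Type u} [CommRing A] {P : Type} [AddCommMonoid P] (r : A) :
    (cst : A →+* MA A P) r = MonoidAlgebra.single 1 r := rfl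

theorem thick_of_surjective {A B : Type u} [CommRing A] [CommRing B] (ρ : A →+* B) (h : Function.Surjective ρ)
    (hn : ∀ a, ρ a = 0 → IsNilpotent a) :
    IsClosedImmersion (Spec.map (CommRingCat.ofHom ρ)) ∧ Surjective (Spec.map (CommRingCat.ofHom ρ)) := by
  refine ⟨IsClosedImmersion.spec_of_surjective _ h, ⟨fun p => ?_⟩⟩
  have hp : ∀ q : PrimeSpectrum A, q ∈ Set.range (PrimeSpectrum.comap ρ) := fun q => by
    rw [range_comap_of_surjective _ ρ h, PrimeSpectrum.mem_zeroLocus]
    intro a ha
    obtain ⟨k, hk⟩ := hn a ha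
    exact q.isPrime.mem_of_pow_mem k (hk ▸ zero_mem _)
  exact hp p

theorem mapRingHom_thick {A B : Type u} [CommRing A] [CommRing B] (ρ : A →+* B) (h : Function.Surjective ρ)
    (hn : ∀ a, ρ a = 0 → IsNilpotent a) (M : Type) [AddCommMonoid M] :
    Function.Surjective (MonoidAlgebra.mapRingHom (Multiplicative M) ρ) ∧
      ∀ z, MonoidAlgebra.mapRingHom (Multiplicative M) ρ z = 0 → IsNilpotent z := by
  constructor
  · intro z
    induction z using MonoidAlgebra.induction_linear with
    | zero => exact ⟨0, map_zero _⟩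
    | add x y hx hy =>
      obtain ⟨x', rfl⟩ := hx
      obtain ⟨y', rfl⟩ := hy
      exact ⟨x' + y', map_add _ _ _⟩
    | single k r =>
      obtain ⟨r', rfl⟩ := h r
      exact ⟨MonoidAlgebra.single k r', MonoidAlgebra.mapRingHom_single _ _ _⟩
  · intro z hz
    rw [← z.sum_coeff_single, Finsupp.sum]
    refine isNilpotent_sum fun k _ => ?_
    obtain ⟨e, he⟩ := hn (z.coeff k) (by
      have := congrArg (fun q : MA B M => q.coeff k) hz
      simpa using this)
    exact ⟨e, by rw [MonoidAlgebra.single_pow, he, MonoidAlgebra.single_zero]⟩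

variable {M : Type} [AddCommMonoid M] {N F : AddSubmonoid M} {d : M →+ ℤ} (E : Type u) [CommRing E]

variable (N d) in
/-- The truncation. -/
abbrev Tr (n : ℕ) : Type u := MA E N ⧸ wtIdeal N d E (n + 1)

variable (N d) in
/-- The quotient map. -/
abbrev trq (n : ℕ) : MA E N →+* Tr N d E n := Ideal.Quotient.mk _

variable (hF : IsFace N F) (hd : ∀ k : Multiplicative N, 0 ≤ wt d k)
  (hdF : ∀ k : Multiplicative N, wt d k = 0 ↔ (k.toAdd : M) ∈ F)

/-- The projection of a truncation to the face. -/
def trρ (n : ℕ) : Tr N d E n →+* MA E F :=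
  Ideal.Quotient.lift _ (projF E hF) fun z hz =>
    ((ker_projF E hd hF hdF).ge (wtIdeal_mono E (by omega) hz) :)

theorem trρ_comp_trq (n : ℕ) : (trρ E hF hd hdF n).comp (trq N d E n) = projF E hF :=
  Ideal.Quotient.lift_comp_mk _ _ _

theorem trρ_surjective (n : ℕ) : Function.Surjective (trρ E hF hd hdF n) := fun y => by
  obtain ⟨z, rfl⟩ := projF_surjective E hF y
  exact ⟨trq N d E n z, RingHom.congr_fun (trρ_comp_trq E hF hd hdF n) z⟩

theorem trρ_nil (n : ℕ) (x : Tr N d E n) (hx : trρ E hF hd hdF n x = 0) : IsNilpotent x := by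
  obtain ⟨z, rfl⟩ := Ideal.Quotient.mk_surjective x
  have hz : z ∈ RingHom.ker (projF E hF) :=
    (RingHom.congr_fun (trρ_comp_trq E hF hd hdF n) z).symm.trans hx
  rw [ker_projF E hd hF hdF] at hz
  refine ⟨n + 1, ?_⟩
  rw [← map_pow, Ideal.Quotient.eq_zero_iff_mem]
  exact wtIdeal_pow E n (Ideal.pow_mem_pow hz _)

/-- The transition maps. -/
def trπ {n m : ℕ} (h : n ≤ m) : Tr N d E m →+* Tr N d E n :=
  Ideal.Quotient.lift _ (trq N d E n) fun z hz =>
    Ideal.Quotient.eq_zero_iff_mem.2 (wtIdeal_mono E (by omega) hz)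

theorem trπ_comp_trq {n m : ℕ} (h : n ≤ m) : (trπ E h).comp (trq N d E m) = trq N d E n :=
  Ideal.Quotient.lift_comp_mk _ _ _

theorem trρ_comp_trπ {n m : ℕ} (h : n ≤ m) :
    (trρ E hF hd hdF n).comp (trπ E h) = trρ E hF hd hdF m :=
  Ideal.Quotient.ringHom_ext (by rw [RingHom.comp_assoc, trπ_comp_trq, trρ_comp_trq, trρ_comp_trq])

/-- Maps on truncations from characters vanishing in high weight. -/
theorem wtIdeal_le_ker {E' : Type u} [CommRing E'] (j : E →+* E') (χ : Multiplicative N →* E') (n : ℕ)
    (hχ : ∀ k : Multiplicative N, (n : ℤ) < wt d k → χ k = 0) : wtIdeal N d E (n + 1) ≤ RingHom.ker (evC j χ) := by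
  refine Ideal.span_le.2 ?_
  rintro _ ⟨k, hk, rfl⟩
  change evC j χ _ = 0
  rw [evC_single, hχ k (by push_cast at hk; omega), mul_zero]

open Classical in
/-- The homogeneous component. -/
def sec (m : Multiplicative M) (z : MA E N) : MA E N :=
  if h : m.toAdd ∈ N then MonoidAlgebra.single (Multiplicative.ofAdd (⟨m.toAdd, h⟩ : N))
    (z.coeff (Multiplicative.ofAdd (⟨m.toAdd, h⟩ : N))) else 0

theorem sec_of_mem (m : Multiplicative M) (z : MA E N) (h : m.toAdd ∈ N) :
    sec E m z = MonoidAlgebra.single (Multiplicative.ofAdd (⟨m.toAdd, h⟩ : N))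
      (z.coeff (Multiplicative.ofAdd (⟨m.toAdd, h⟩ : N))) := dif_pos h

theorem sec_of_not_mem (m : Multiplicative M) (z : MA E N) (h : m.toAdd ∉ N) : sec E m z = 0 := dif_neg h

theorem sec_add (m : Multiplicative M) (z w : MA E N) : sec E m (z + w) = sec E m z + sec E m w := by
  by_cases h : m.toAdd ∈ N
  · simp [sec_of_mem E m _ h]
  · simp [sec_of_not_mem E m _ h]

include hd in
theorem sec_eq_of_trq_eq (m : Multiplicative M) (z w : MA E N) (n : ℕ) (hn : d m.toAdd ≤ n)
    (h : trq N d E n (sec E m z) = trq N d E n (sec E m w)) : sec E m z = sec E m w := by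
  by_cases hm : m.toAdd ∈ N
  · rw [Ideal.Quotient.eq, mem_wtIdeal_iff E hd] at h
    have := h (Multiplicative.ofAdd ⟨m.toAdd, hm⟩) (by simp [wt]; omega)
    rw [sec_of_mem E m z hm, sec_of_mem E m w hm] at this ⊢
    rw [MonoidAlgebra.coeff_sub, Finsupp.sub_apply, MonoidAlgebra.coeff_single, MonoidAlgebra.coeff_single,
      Finsupp.single_eq_same, Finsupp.single_eq_same, sub_eq_zero] at this
    rw [this]
  · rw [sec_of_not_mem E m z hm, sec_of_not_mem E m w hm]

/-- The coaction on a truncation. -/
def trγ (n : ℕ) : Tr N d E n →+* MA (Tr N d E n) M :=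
  Ideal.Quotient.lift _
    (evC ((cst : Tr N d E n →+* MA (Tr N d E n) M).comp ((trq N d E n).comp cst))
      ((uni : Multiplicative M →* MA (Tr N d E n) M).comp (AddMonoidHom.toMultiplicative N.subtype) *
        ((cst : Tr N d E n →+* MA (Tr N d E n) M) : Tr N d E n →* MA (Tr N d E n) M).comp
          ((trq N d E n : MA E N →* Tr N d E n).comp uni)))
    (wtIdeal_le_ker E _ _ n fun k hk => by
      have : trq N d E n (MonoidAlgebra.single k 1) = 0 :=
        Ideal.Quotient.eq_zero_iff_mem.2 (single_mem_wtIdeal d E _ k (by push_cast; omega) 1)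
      simp only [MonoidHom.mul_apply, MonoidHom.coe_comp, Function.comp_apply, MonoidAlgebra.of_apply,
        MonoidHom.coe_coe, this, map_zero, mul_zero])

theorem trγ_single (n : ℕ) (k : Multiplicative N) (r : E) :
    trγ E n (trq N d E n (MonoidAlgebra.single k r)) =
      MonoidAlgebra.single (AddMonoidHom.toMultiplicative N.subtype k) (trq N d E n (MonoidAlgebra.single k r)) := by
  have hk : (MonoidAlgebra.single k r : MA E N) = MonoidAlgebra.single 1 r * MonoidAlgebra.single k 1 := by
    rw [MonoidAlgebra.single_mul_single, one_mul, mul_one]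
  conv_rhs => rw [hk, map_mul]
  change evC _ _ (MonoidAlgebra.single k r) = _
  rw [evC_single]
  simp only [MonoidHom.mul_apply, MonoidHom.coe_comp, Function.comp_apply, RingHom.coe_comp, cst_apply,
    MonoidHom.coe_coe, MonoidAlgebra.of_apply, MonoidAlgebra.single_mul_single, _root_.one_mul, _root_.mul_one, ← map_mul]

theorem coeff_trγ (n : ℕ) (z : MA E N) (m : Multiplicative M) :
    (trγ E n (trq N d E n z)).coeff m = trq N d E n (sec E m z) := by
  induction z using MonoidAlgebra.induction_linear with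
  | zero =>
    by_cases h : m.toAdd ∈ N
    · simp [sec_of_mem E m _ h]
    · simp [sec_of_not_mem E m _ h]
  | add x y hx hy => simp [map_add, sec_add, hx, hy]
  | single k r =>
    rw [trγ_single, MonoidAlgebra.coeff_single]
    by_cases hk : AddMonoidHom.toMultiplicative N.subtype k = m
    · subst hk
      rw [Finsupp.single_eq_same, sec_of_mem E _ _ (show (AddMonoidHom.toMultiplicative N.subtype k).toAdd ∈ N from k.toAdd.2)]
      congr 1
      rw [MonoidAlgebra.coeff_single]
      exact (congrArg _ (Finsupp.single_eq_same)).symm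
    · rw [Finsupp.single_eq_of_ne (Ne.symm hk)]
      by_cases h : m.toAdd ∈ N
      · rw [sec_of_mem E m _ h, MonoidAlgebra.coeff_single, Finsupp.single_eq_of_ne, MonoidAlgebra.single_zero,
          map_zero]
        rintro rfl
        exact hk rfl
      · rw [sec_of_not_mem E m _ h, map_zero]

theorem mapRingHom_trρ_trγ (n : ℕ) :
    (MonoidAlgebra.mapRingHom (Multiplicative M) (trρ E hF hd hdF n)).comp (trγ E n) =
      (evC ((cst : MA E F →+* MA (MA E F) M).comp cst)
        ((uni : Multiplicative M →* MA (MA E F) M).comp (AddMonoidHom.toMultiplicative F.subtype) *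
          ((cst : MA E F →+* MA (MA E F) M) : MA E F →* MA (MA E F) M).comp uni)).comp (trρ E hF hd hdF n) := by
  refine Ideal.Quotient.ringHom_ext (MonoidAlgebra.ringHom_ext (fun r => ?_) fun k => ?_)
  · have h0 : ((1 : Multiplicative N).toAdd : M) ∈ F := F.zero_mem
    simp only [RingHom.comp_apply]
    rw [trγ_single, MonoidAlgebra.mapRingHom_single]
    rw [show ∀ w : MA E N, trρ E hF hd hdF n (trq N d E n w) = projF E hF w from fun w => rfl, projF, evC_single,
      extChar_of_mem hF _ _ h0]
    change _ = evC _ _ (MonoidAlgebra.single 1 r * MonoidAlgebra.single _ 1)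
    rw [MonoidAlgebra.single_mul_single, one_mul, mul_one, evC_single]
    simp only [MonoidHom.mul_apply, MonoidHom.coe_comp, Function.comp_apply, RingHom.coe_comp, cst_apply,
    MonoidHom.coe_coe, MonoidAlgebra.of_apply, MonoidAlgebra.single_mul_single, _root_.one_mul, _root_.mul_one, ← map_mul]
    rfl
  · simp only [RingHom.comp_apply]
    rw [trγ_single, MonoidAlgebra.mapRingHom_single]
    rw [show ∀ w : MA E N, trρ E hF hd hdF n (trq N d E n w) = projF E hF w from fun w => rfl, projF, evC_single,
      map_one, one_mul]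
    by_cases h : (k.toAdd : M) ∈ F
    · rw [extChar_of_mem hF _ _ h]
      change _ = evC _ _ (MonoidAlgebra.single _ 1)
      rw [evC_single, map_one, one_mul]
      simp only [MonoidHom.mul_apply, MonoidHom.coe_comp, Function.comp_apply, RingHom.coe_comp, cst_apply,
    MonoidHom.coe_coe, MonoidAlgebra.of_apply, MonoidAlgebra.single_mul_single, _root_.one_mul, _root_.mul_one, ← map_mul]
      rfl
    · rw [extChar_of_not_mem hF _ _ h, map_zero, MonoidAlgebra.single_zero]

end GrothLib.MagnetGr
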