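import Groth.Agent.Lib.MagnetGr25.Attr
import Groth.Agent.Lib.MagnetGr25.Face
import Groth.Agent.Lib.MagnetGr25.Thick
import Mathlib.AlgebraicGeometry.Morphisms.FormallyUnramified

/-! # Attractors and formally unramified morphisms -/

set_option autoImplicit false
set_option backward.isDefEq.respectTransparency false
set_option backward.isDefEq.respectTransparency.types false

universe u

open CategoryTheory MonoidalCategory CartesianMonoidalCategory AlgebraicGeometry Opposite

noncomputable section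

namespace GrothLib.MagnetGr

open Magnet MagnetPts

theorem isNilpotent_ker_specMap {A B : Type u} [CommRing A] [CommRing B] (ρ : A →+* B)
    (h : ∀ x y, ρ x = 0 → ρ y = 0 → x * y = 0) : IsNilpotent (Spec.map (CommRingCat.ofHom ρ)).ker := by
  refine ⟨2, Scheme.IdealSheafData.ext_of_isAffine ?_⟩
  rw [Scheme.IdealSheafData.ideal_pow]
  change _ = ((⊥ : Scheme.IdealSheafData _)).ideal _
  rw [Scheme.IdealSheafData.ideal_bot, Pi.pow_apply, Scheme.Hom.ker_apply, Pi.bot_apply, eq_bot_iff, pow_two, Ideal.mul_le]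
  intro x hx y hy
  let e := (Scheme.ΓSpecIso (CommRingCat.of A)).hom
  have he : ∀ x, (Spec.map (CommRingCat.ofHom ρ)).appTop x = 0 → ρ (e.hom x) = 0 := by
    intro x hx
    have := congrArg (fun φ : _ ⟶ CommRingCat.of B => φ.hom x) (Scheme.ΓSpecIso_naturality (CommRingCat.ofHom ρ))
    simp only [CommRingCat.hom_comp, RingHom.comp_apply] at this
    rw [hx, map_zero] at this
    exact this.symm
  refine ((ConcreteCategory.isIso_iff_bijective e).1 inferInstance).1 ?_
  change e.hom (x * y) = e.hom 0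
  rw [map_mul, map_zero]
  exact h _ _ (he x hx) (he y hy)

theorem mapRingHom_mul_eq_zero {A : Type u} [CommRing A] (I : Ideal A) (hI : I ^ 2 = ⊥) (N : Type) [AddCommMonoid N]
    (x y : MA A N) (hx : MonoidAlgebra.mapRingHom (Multiplicative N) (Ideal.Quotient.mk I) x = 0)
    (hy : MonoidAlgebra.mapRingHom (Multiplicative N) (Ideal.Quotient.mk I) y = 0) : x * y = 0 := by
  have hmem : ∀ (z : MA A N), MonoidAlgebra.mapRingHom (Multiplicative N) (Ideal.Quotient.mk I) z = 0 →
      ∀ k, z.coeff k ∈ I := fun z hz k => by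
    have := congrArg (fun q : MA (A ⧸ I) N => q.coeff k) hz
    simp only [MonoidAlgebra.coeff_mapRingHom, MonoidAlgebra.coeff_zero, Finsupp.zero_apply] at this
    exact Ideal.Quotient.eq_zero_iff_mem.1 this
  rw [← x.sum_coeff_single, ← y.sum_coeff_single, Finsupp.sum, Finsupp.sum, Finset.sum_mul_sum]
  refine Finset.sum_eq_zero fun k _ => Finset.sum_eq_zero fun l _ => ?_
  have : x.coeff k * y.coeff l ∈ I ^ 2 := by rw [pow_two]; exact Ideal.mul_mem_mul (hmem x hx k) (hmem y hy l)
  rw [hI] at this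
  rw [MonoidAlgebra.single_mul_single, (Ideal.mem_bot).1 this, MonoidAlgebra.single_zero]

variable {S : Scheme.{u}} {M : Type} [AddCommMonoid M] {N : AddSubmonoid M}

theorem pt_base {E E' : Type u} [CommRing E] [CommRing E'] {s : Spec (CommRingCat.of E) ⟶ S}
    (i : E →+* E') {E'' : Type u} [CommRing E''] (j : E' →+* E'') (χ : Multiplicative N →* E'') :
    @Eq (Spec (CommRingCat.of E'') ⟶ (AMonS S N ⊗ Over.mk s).left)
      ((pt (str s i) j χ).left ≫ (AMonS S N ◁ toT s i).left) (pt s (j.comp i) χ).left := by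
  refine hom_ext_left _ _ ?_ ?_
  · rw [Category.assoc, ← Over.comp_left, whiskerLeft_snd, Over.comp_left, ← Category.assoc, ← Over.comp_left,
      pt_snd]
    refine Eq.trans ?_ (congrArg CommaMorphism.left (pt_snd s (j.comp i) χ)).symm
    change Spec.map _ ≫ Spec.map _ = Spec.map _
    rw [← Spec.map_comp]
    rfl
  · rw [Category.assoc]
    erw [← Category.assoc (AMonS S N ◁ toT s i).left]
    rw [← Over.comp_left, whiskerLeft_fst, ← Category.assoc, ← Over.comp_left, pt_fst, amsPoint_fst,
      ← Category.assoc, ← Over.comp_left, pt_fst, amsPoint_fst]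

theorem ev_base {X : Over S} {E E' : Type u} [CommRing E] [CommRing E'] {s : Spec (CommRingCat.of E) ⟶ S}
    (i : E →+* E') (γ : AMonS S N ⊗ Over.mk s ⟶ X) {E'' : Type u} [CommRing E''] (j : E' →+* E'')
    (χ : Multiplicative N →* E'') :
    ev (s := str s i) ((AMonS S N ◁ toT s i) ≫ γ) j χ = ev γ (j.comp i) χ := by
  have key := pt_base (N := N) (s := s) i j χ
  rw [ev, ev, Over.comp_left, Over.comp_left, Over.comp_left, reassoc_of% key]

/-- Families agreeing on a square zero thickening and after an unramified map agree. -/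
theorem eq_of_unramified {X Y : Over S} (f : X ⟶ Y) [FormallyUnramified f.left] {A : Type u} [CommRing A]
    (I : Ideal A) (hI : I ^ 2 = ⊥) {s : Spec (CommRingCat.of A) ⟶ S} {φ₁ φ₂ : AMonS S N ⊗ Over.mk s ⟶ X}
    (h : (AMonS S N ◁ toT s (Ideal.Quotient.mk I)) ≫ φ₁ = (AMonS S N ◁ toT s (Ideal.Quotient.mk I)) ≫ φ₂)
    (hf : φ₁ ≫ f = φ₂ ≫ f) : φ₁ = φ₂ := by
  let q := Ideal.Quotient.mk I
  let P := MonoidAlgebra.mapRingHom (Multiplicative N) q
  have hP : Function.Surjective P := fun z => by
    induction z using MonoidAlgebra.induction_linear with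
    | zero => exact ⟨0, map_zero _⟩
    | add x y hx hy =>
      obtain ⟨x', rfl⟩ := hx
      obtain ⟨y', rfl⟩ := hy
      exact ⟨x' + y', map_add _ _ _⟩
    | single k r =>
      obtain ⟨r', rfl⟩ := Ideal.Quotient.mk_surjective r
      exact ⟨MonoidAlgebra.single k r', MonoidAlgebra.mapRingHom_single _ _ _⟩
  have : IsClosedImmersion (Spec.map (CommRingCat.ofHom P)) := IsClosedImmersion.spec_of_surjective _ hP
  refine hom_ext_univ (FormallyUnramified.hom_ext (Spec.map (CommRingCat.ofHom P))
    (isNilpotent_ker_specMap P (mapRingHom_mul_eq_zero I hI ↥N)) f.left ?_ ?_)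
  · have e : P.comp cst = (cst : A ⧸ I →+* MA (A ⧸ I) N).comp q :=
      RingHom.ext fun r => by simp [P, MonoidAlgebra.singleOneRingHom]
    rw [comp_ev, comp_ev, e, ← ev_base, ← ev_base, h]
  · rw [← ev_comp, ← ev_comp, hf]

end GrothLib.MagnetGr
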