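import Groth.Agent.Lib.MagnetGr25.Average
import Groth.Agent.Lib.MagnetGr25.Unram
import Groth.Agent.Lib.MagnetGr25.Face
import Groth.Agent.Lib.MagnetGr25.Union
import Groth.Agent.S1488
import Mathlib.AlgebraicGeometry.Morphisms.Smooth

/-! # Equivariant lifting along smooth morphisms -/

set_option autoImplicit false
set_option backward.isDefEq.respectTransparency false
set_option backward.isDefEq.respectTransparency.types false

universe u

open CategoryTheory CategoryTheory.Limits MonoidalCategory AlgebraicGeometry Opposite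

noncomputable section

namespace GrothLib.MagnetGr

open Magnet MagnetPts

/-- Lifting along a smooth morphism, for any square-zero surjection. -/
theorem exists_lift_of_smooth {X Y : Scheme.{u}} (f : X ⟶ Y) [Smooth f] {R B : Type u} [CommRing R] [CommRing B]
    (q : R →+* B) (hq : Function.Surjective q) (hJ : RingHom.ker q ^ 2 = ⊥) (x : Spec (CommRingCat.of B) ⟶ X)
    (y : Spec (CommRingCat.of R) ⟶ Y) (h : Spec.map (CommRingCat.ofHom q) ≫ y = x ≫ f) :
    ∃ L : Spec (CommRingCat.of R) ⟶ X, Spec.map (CommRingCat.ofHom q) ≫ L = x ∧ L ≫ f = y := by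
  let e := RingHom.quotientKerEquivOfSurjective hq
  have he : e.symm.toRingHom.comp q = Ideal.Quotient.mk (RingHom.ker q) := RingHom.ext fun r => e.symm_apply_eq.2 rfl
  have he' : e.toRingHom.comp (Ideal.Quotient.mk (RingHom.ker q)) = q := RingHom.ext fun r => rfl
  obtain ⟨L, hL₁, hL₂⟩ := ((Groth.Agent.S1488.result f).1 ‹_›).2 R (RingHom.ker q) hJ
    (Spec.map (CommRingCat.ofHom e.symm.toRingHom) ≫ x) y (by rw [← he, Category.assoc, ← h, specMap_comp])
  refine ⟨L, ?_, hL₂⟩
  rw [← he', ← specMap_comp, hL₁, specMap_comp, show e.toRingHom.comp e.symm.toRingHom = RingHom.id _ from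
    RingHom.ext fun r => e.apply_symm_apply r, show CommRingCat.ofHom (RingHom.id B) = 𝟙 _ from rfl, Spec.map_id,
    Category.id_comp]

section Fibre

variable {P B A' C : Type u} [CommRing P] [CommRing B] [CommRing A'] [CommRing C]
  {f : P →+* B} {g : P →+* A'} {q : B →+* C} {p : A' →+* C}

/-- Fibre squares stay so over monoid algebras. -/
theorem fibreSquare_MA (h : Misc6.FibreSquare f g q p) (M : Type) [AddCommMonoid M] :
    Misc6.FibreSquare (MonoidAlgebra.mapRingHom (Multiplicative M) f) (MonoidAlgebra.mapRingHom (Multiplicative M) g)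
      (MonoidAlgebra.mapRingHom (Multiplicative M) q) (MonoidAlgebra.mapRingHom (Multiplicative M) p) := by
  classical
  refine ⟨RingHom.ext fun z => ext_coeff fun m => ?_, fun x hx hy => ext_coeff fun m => ?_, fun b a e => ?_,
    fun z => ?_⟩
  · simp only [RingHom.comp_apply, MonoidAlgebra.coeff_mapRingHom]
    exact RingHom.congr_fun h.w _
  · refine h.inj _ ?_ ?_
    · simpa only [MonoidAlgebra.coeff_mapRingHom, MonoidAlgebra.coeff_zero, Finsupp.zero_apply] using
        congrArg (fun w : MA B M => w.coeff m) hx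
    · simpa only [MonoidAlgebra.coeff_mapRingHom, MonoidAlgebra.coeff_zero, Finsupp.zero_apply] using
        congrArg (fun w : MA A' M => w.coeff m) hy
  · have hm : ∀ m, q (b.coeff m) = p (a.coeff m) := fun m => by
      simpa only [MonoidAlgebra.coeff_mapRingHom] using congrArg (fun w : MA C M => w.coeff m) e
    choose x hx₁ hx₂ using fun m => h.ex _ _ (hm m)
    let s := b.coeff.support ∪ a.coeff.support
    refine ⟨∑ m ∈ s, MonoidAlgebra.single m (x m), ext_coeff fun k => ?_, ext_coeff fun k => ?_⟩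
    all_goals
      rw [MonoidAlgebra.coeff_mapRingHom, MonoidAlgebra.coeff_sum, Finsupp.finset_sum_apply]
      simp only [MonoidAlgebra.coeff_single, Finsupp.single_apply, Finset.sum_ite_eq']
      split_ifs with hk
      · first | exact hx₁ k | exact hx₂ k
      · rw [map_zero]
        simp only [s, Finset.mem_union, not_or, Finsupp.notMem_support_iff] at hk
        first | exact hk.1.symm | exact hk.2.symm
  · induction z using MonoidAlgebra.induction_linear with
    | zero => exact ⟨0, map_zero _⟩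
    | add a b ha hb =>
      obtain ⟨a', rfl⟩ := ha
      obtain ⟨b', rfl⟩ := hb
      exact ⟨a' + b', map_add _ _ _⟩
    | single m r =>
      obtain ⟨r', rfl⟩ := h.surj r
      exact ⟨MonoidAlgebra.single m r', MonoidAlgebra.mapRingHom_single _ _ _⟩

end Fibre

variable {S : Scheme.{u}} {M : Type} [AddCommGroup M] {X Y : Over S} {N : AddSubmonoid M}
variable {A : Type u} [CommRing A] (I : Ideal A)

/-- The reduction of coefficients. -/
abbrev redN (N : AddSubmonoid M) : MA A N →+* MA (A ⧸ I) N :=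
  MonoidAlgebra.mapRingHom (Multiplicative N) (Ideal.Quotient.mk I)

theorem redN_surjective (N : AddSubmonoid M) : Function.Surjective (redN I N) := by
  intro z
  induction z using MonoidAlgebra.induction_linear with
  | zero => exact ⟨0, map_zero _⟩
  | add x y hx hy =>
    obtain ⟨x', rfl⟩ := hx
    obtain ⟨y', rfl⟩ := hy
    exact ⟨x' + y', map_add _ _ _⟩
  | single k r =>
    obtain ⟨r', rfl⟩ := Ideal.Quotient.mk_surjective r
    exact ⟨MonoidAlgebra.single k r', MonoidAlgebra.mapRingHom_single _ _ _⟩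

theorem coeff_mem_of_redN {z : MA A N} (hz : redN I N z = 0) (k : Multiplicative N) : z.coeff k ∈ I := by
  have h := congrArg (fun w : MA (A ⧸ I) N => w.coeff k) hz
  simp only [MonoidAlgebra.coeff_mapRingHom, MonoidAlgebra.coeff_zero, Finsupp.zero_apply] at h
  exact Ideal.Quotient.eq_zero_iff_mem.1 h

theorem redN_single {k : Multiplicative N} {r : A} (hr : r ∈ I) : redN I N (MonoidAlgebra.single k r) = 0 := by
  simp [Ideal.Quotient.eq_zero_iff_mem.2 hr]

variable {I} (hI : I ^ 2 = ⊥)

include hI in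
theorem ker_sq_of_le {B : Type u} [CommRing B] (q : MA A N →+* B) (hq : RingHom.ker q ≤ RingHom.ker (redN I N)) :
    RingHom.ker q ^ 2 = ⊥ := by
  rw [eq_bot_iff, pow_two, Ideal.mul_le]
  intro x hx y hy
  exact (Submodule.mem_bot _).2
    (mapRingHom_mul_eq_zero I hI ↥N x y (RingHom.mem_ker.1 (hq hx)) (RingHom.mem_ker.1 (hq hy)))

theorem stable_of_monomial {B : Type u} [CommRing B] (q : MA A N →+* B)
    (hmon : ∀ z, q z = 0 → ∀ k, q (MonoidAlgebra.single k (z.coeff k)) = 0)
    {E : Type u} [CommRing E] (j : A →+* E) (χ : Multiplicative N →* E) (g : Multiplicative M →* E)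
    (h : RingHom.ker q ≤ RingHom.ker (evC j χ)) : RingHom.ker q ≤ RingHom.ker (evC j (res N g * χ)) := by
  intro z hz
  rw [RingHom.mem_ker, ← z.sum_coeff_single, Finsupp.sum, map_sum]
  refine Finset.sum_eq_zero fun k _ => ?_
  have h₁ := RingHom.mem_ker.1 (h (RingHom.mem_ker.2 (hmon z (RingHom.mem_ker.1 hz) k)))
  rw [evC_single] at h₁
  rw [evC_single, MonoidHom.mul_apply, ← _root_.mul_assoc, mul_right_comm, h₁, zero_mul]

variable {str : Spec (CommRingCat.of A) ⟶ S}

theorem exists_quot_of_ker_le {E : Type u} [CommRing E] (j : A →+* E) (χ : Multiplicative N →* E)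
    (h : RingHom.ker (redN I N) ≤ RingHom.ker (evC j χ)) :
    ∃ jb : A ⧸ I →+* E, jb.comp (Ideal.Quotient.mk I) = j := by
  have hj : ∀ r, r ∈ I → j r = 0 := fun r hr => by
    have h₁ := RingHom.mem_ker.1 (h (RingHom.mem_ker.2 (redN_single (k := 1) I hr)))
    simpa using h₁
  exact ⟨Ideal.Quotient.lift I j hj, RingHom.ext fun r => Ideal.Quotient.lift_mk I j hj⟩

theorem evC_redN {E : Type u} [CommRing E] (jb : A ⧸ I →+* E) (χ : Multiplicative N →* E) :
    (evC jb χ).comp (redN I N) = evC (jb.comp (Ideal.Quotient.mk I)) χ :=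
  hom_ext_cst (RingHom.ext fun r => by simp [MonoidAlgebra.singleOneRingHom]) (MonoidHom.ext fun m => by simp)

/-- The reduction of a lift is equivariant. -/
theorem equivariant_red {a : MonAct (AMonS S M) X} {γ : AMonS S N ⊗ Over.mk (MagnetGr.str str (Ideal.Quotient.mk I)) ⟶ X}
    (hγ : MonAct.IsEquivariant ((subAct S M N).prod (MonAct.trivial (AMonS S M) _)) a γ)
    (L : Spec (CommRingCat.of (MA A N)) ⟶ X.left)
    (hL : Spec.map (CommRingCat.ofHom (redN I N)) ≫ L = ev γ (cst : A ⧸ I →+* MA (A ⧸ I) N) uni)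
    {E : Type u} [CommRing E] (j : A →+* E) (χ : Multiplicative N →* E) (g : Multiplicative M →* E)
    (h : RingHom.ker (redN I N) ≤ RingHom.ker (evC j χ)) :
    orb a (Spec.map (CommRingCat.ofHom (evC j χ)) ≫ L) g =
      Spec.map (CommRingCat.ofHom (evC j (res N g * χ))) ≫ L := by
  obtain ⟨jb, rfl⟩ := exists_quot_of_ker_le j χ h
  rw [← evC_redN jb χ, ← evC_redN jb (res N g * χ), ← specMap_comp, ← specMap_comp, hL, ← ev_eq_univ γ,
    ← ev_eq_univ γ, orb_ev a hγ]

theorem ev_toT {γ : AMonS S N ⊗ Over.mk str ⟶ X} {E : Type u} [CommRing E] (jb : A ⧸ I →+* E)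
    (χ : Multiplicative N →* E) :
    ev (s := MagnetGr.str str (Ideal.Quotient.mk I)) ((AMonS S N ◁ toT str (Ideal.Quotient.mk I)) ≫ γ) jb χ =
      Spec.map (CommRingCat.ofHom ((evC jb χ).comp (redN I N))) ≫ ev γ (cst : A →+* MA A N) uni := by
  rw [ev_base, evC_redN, ← ev_eq_univ]

include hI in
/-- Equivariant lifting along an equivariant smooth morphism. -/
theorem exists_lift_postcomp {aX : MonAct (AMonS S M) X} {aY : MonAct (AMonS S M) Y} {f : X ⟶ Y}
    (hf : MonAct.IsEquivariant aX aY f) [Smooth f.left]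
    (x : (attr aX N).obj (op (Over.mk (MagnetGr.str str (Ideal.Quotient.mk I))))) (y : (attr aY N).obj (op (Over.mk str)))
    (h : x.1 ≫ f = (AMonS S N ◁ toT str (Ideal.Quotient.mk I)) ≫ y.1) :
    ∃ l : (attr aX N).obj (op (Over.mk str)),
      (AMonS S N ◁ toT str (Ideal.Quotient.mk I)) ≫ l.1 = x.1 ∧ l.1 ≫ f = y.1 := by
  let θy := ev y.1 (cst : A →+* MA A N) uni
  let θx := ev x.1 (cst : A ⧸ I →+* MA (A ⧸ I) N) uni
  have hJ := ker_sq_of_le hI (redN I N) le_rfl
  have hw : Spec.map (CommRingCat.ofHom (redN I N)) ≫ θy = θx ≫ f.left := by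
    rw [← ev_comp, h, ev_toT, evC_cst_uni, RingHom.id_comp]
  obtain ⟨L, hL₁, hL₂⟩ := exists_lift_of_smooth f.left (redN I N) (redN_surjective I N) hJ θx θy hw
  obtain ⟨L', hL'₁, hL'₂, hL'₃⟩ := exists_average aX (redN_surjective I N) hJ
    (stable_of_monomial (redN I N) fun z hz k => redN_single I (coeff_mem_of_redN I hz k)) L
    (equivariant_red x.2 L hL₁)
  have hL'y : L' ≫ f.left = θy := by
    refine hL'₃ f.left θy hL₂ ?_
    rw [transl, orb_comp_equivariant aX hf, Category.assoc, hL₂, twist, ← ev_eq_univ y.1, orb_ev aY y.2,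
      ← _root_.mul_assoc, ← MonoidHom.mul_comp, inv_mul_uni, MonoidHom.one_comp, _root_.one_mul,
      comp_ev y.1]
  have hs : L' ≫ X.hom = MagnetGr.str str (cst : A →+* MA A N) := by
    rw [← Over.w f, ← Category.assoc, hL'y]
    exact ev_hom _ _ _
  refine ⟨⟨ofUniv L' hs, isEquivariant_of_orb_ev aX fun {E} _ j χ g => ?_⟩, ?_, ?_⟩
  · rw [ev_ofUniv, ev_ofUniv]
    exact hL'₂ j χ g
  · refine hom_ext_univ ?_
    rw [ev_base, ev_ofUniv, ← evC_redN, evC_cst_uni, RingHom.id_comp, hL'₁, hL₁]
  · refine hom_ext_univ ?_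
    rw [ev_comp, ev_ofUniv, evC_cst_uni, show CommRingCat.ofHom (RingHom.id (MA A N)) = 𝟙 _ from rfl, Spec.map_id,
      Category.id_comp, hL'y]

variable {F : AddSubmonoid M} (hF : IsFace N F)

theorem coeff_projF (z : MA A N) (k : Multiplicative F) :
    (projF A hF z).coeff k = z.coeff (Multiplicative.ofAdd ⟨(k.toAdd : M), hF.le k.toAdd.2⟩) := by
  classical
  induction z using MonoidAlgebra.induction_linear with
  | zero => simp
  | add a b ha hb => simp [map_add, ha, hb]
  | single m r =>
    rw [projF, evC_single]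
    by_cases hm : (m.toAdd : M) ∈ F
    · rw [extChar_of_mem hF _ _ hm]
      change (MonoidAlgebra.single 1 r * MonoidAlgebra.single _ 1 : MA A F).coeff k = _
      rw [MonoidAlgebra.single_mul_single, _root_.one_mul, _root_.mul_one, MonoidAlgebra.coeff_single,
        MonoidAlgebra.coeff_single, Finsupp.single_apply, Finsupp.single_apply]
      have hiff : Multiplicative.ofAdd (⟨(m.toAdd : M), hm⟩ : ↥F) = k ↔
          m = Multiplicative.ofAdd (⟨(k.toAdd : M), hF.le k.toAdd.2⟩ : ↥N) :=
        ⟨fun e => Multiplicative.toAdd.injective (Subtype.ext (congrArg (fun q : Multiplicative F => (q.toAdd : M)) e)),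
          fun e => Multiplicative.toAdd.injective (Subtype.ext (congrArg (fun q : Multiplicative N => (q.toAdd : M)) e))⟩
      simp only [hiff]
    · rw [extChar_of_not_mem hF _ _ hm, mul_zero, MonoidAlgebra.coeff_zero, Finsupp.zero_apply,
        MonoidAlgebra.coeff_single, Finsupp.single_eq_of_ne]
      intro e
      exact hm (congrArg (fun q : Multiplicative N => (q.toAdd : M)) e ▸ k.toAdd.2)

theorem evC_projF {E : Type u} [CommRing E] (j : A →+* E) (χ : Multiplicative F →* E) :
    (evC j χ).comp (projF A hF) = evC j (extChar hF χ) := by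
  rw [projF, comp_evC, evC_comp_cst]
  congr 1
  rw [comp_extChar, evC_comp_uni]

theorem res_mul_extChar {E : Type u} [CommRing E] (g : Multiplicative M →* E) (χ : Multiplicative F →* E) :
    res N g * extChar hF χ = extChar hF (res F g * χ) := by
  refine MonoidHom.ext fun k => ?_
  by_cases h : (k.toAdd : M) ∈ F
  · rw [MonoidHom.mul_apply, extChar_of_mem hF _ _ h, extChar_of_mem hF _ _ h]
    rfl
  · rw [MonoidHom.mul_apply, extChar_of_not_mem hF _ _ h, extChar_of_not_mem hF _ _ h, mul_zero]

variable (I) in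
/-- The reduction and the restriction to the face together. -/
abbrev glueMap : MA A N →+* MA (A ⧸ I) N × MA A F := (redN I N).prod (projF A hF)

include hI in
/-- Equivariant lifting along a face projection. -/
theorem exists_lift_face {aX : MonAct (AMonS S M) X} [Smooth X.hom]
    (x : (attr aX N).obj (op (Over.mk (MagnetGr.str str (Ideal.Quotient.mk I))))) (y : (attr aX F).obj (op (Over.mk str)))
    (h : (AMonS.faceMap S hF ▷ _) ≫ x.1 = (AMonS S F ◁ toT str (Ideal.Quotient.mk I)) ≫ y.1) :
    ∃ l : (attr aX N).obj (op (Over.mk str)),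
      (AMonS S N ◁ toT str (Ideal.Quotient.mk I)) ≫ l.1 = x.1 ∧ (AMonS.faceMap S hF ▷ Over.mk str) ≫ l.1 = y.1 := by
  classical
  let B := (glueMap I hF).range
  let q : MA A N →+* B := (glueMap I hF).rangeRestrict
  have hq : Function.Surjective q := (glueMap I hF).rangeRestrict_surjective
  let p₁ : B →+* MA (A ⧸ I) N := (RingHom.fst _ _).comp B.subtype
  let p₂ : B →+* MA A F := (RingHom.snd _ _).comp B.subtype
  have hp₁ : p₁.comp q = redN I N := rfl
  have hp₂ : p₂.comp q = projF A hF := rfl
  have hqz : ∀ z, q z = 0 ↔ redN I N z = 0 ∧ projF A hF z = 0 := fun z =>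
    ⟨fun e => ⟨congrArg p₁ e, congrArg p₂ e⟩, fun e => Subtype.ext (Prod.ext e.1 e.2)⟩
  have hJ : RingHom.ker q ^ 2 = ⊥ := ker_sq_of_le hI q fun z hz => RingHom.mem_ker.2 ((hqz z).1 (RingHom.mem_ker.1 hz)).1
  have hmon : ∀ z, q z = 0 → ∀ k, q (MonoidAlgebra.single k (z.coeff k)) = 0 := fun z hz k => by
    obtain ⟨h₁, h₂⟩ := (hqz z).1 hz
    refine (hqz _).2 ⟨redN_single I (coeff_mem_of_redN I h₁ k), ext_coeff fun k' => ?_⟩
    rw [coeff_projF, MonoidAlgebra.coeff_zero, Finsupp.zero_apply, MonoidAlgebra.coeff_single, Finsupp.single_apply]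
    split_ifs with e
    · rw [e, ← coeff_projF hF, h₂]; rfl
    · rfl
  let qF := redN I F
  let pF : MA (A ⧸ I) N →+* MA (A ⧸ I) F := projF (A ⧸ I) hF
  have hcomm : qF.comp (projF A hF) = pF.comp (redN I N) := RingHom.ext fun z => ext_coeff fun k => by
    simp [qF, pF, coeff_projF]
  let incl : MA A F →+* MA A N := inclR A hF.le
  have hincl : (projF A hF).comp incl = RingHom.id _ := RingHom.ext fun z => ext_coeff fun k => by
    simp only [RingHom.comp_apply, coeff_projF, RingHom.id_apply, incl, inclR]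
    exact Finsupp.mapDomain_apply (fun a b e => Multiplicative.toAdd.injective
      (AddSubmonoid.inclusion_injective hF.le e :)) z.coeff k
  have hsq : Misc6.FibreSquare p₁ p₂ pF qF := by
    refine ⟨?_, fun w h₁ h₂ => Subtype.ext (Prod.ext h₁ h₂), fun u v e => ?_, redN_surjective I F⟩
    · refine RingHom.ext fun w => ?_
      obtain ⟨z, rfl⟩ := hq w
      exact (RingHom.congr_fun hcomm z).symm
    · obtain ⟨z, rfl⟩ := redN_surjective I N u
      let d := v - projF A hF z
      have hd : qF d = 0 := by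
        rw [map_sub, ← RingHom.comp_apply qF, hcomm, RingHom.comp_apply, e, sub_self]
      refine ⟨q (z + incl d), ?_, ?_⟩
      · change redN I N (z + incl d) = redN I N z
        rw [map_add, add_eq_left]
        refine ext_coeff fun k => ?_
        rw [MonoidAlgebra.coeff_mapRingHom, MonoidAlgebra.coeff_zero, Finsupp.zero_apply]
        refine Ideal.Quotient.eq_zero_iff_mem.2 ?_
        by_cases hk : (k.toAdd : M) ∈ F
        · let k' : Multiplicative F := Multiplicative.ofAdd ⟨_, hk⟩
          have := RingHom.congr_fun hincl d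
          have h' := congrArg (fun w : MA A F => w.coeff k') this
          simp only [RingHom.comp_apply, coeff_projF, RingHom.id_apply] at h'
          rw [show k = Multiplicative.ofAdd (⟨(k'.toAdd : M), hF.le k'.toAdd.2⟩ : ↥N) from rfl, h']
          exact coeff_mem_of_redN I hd k'
        · have h0 : (incl d).coeff k = 0 := by
            refine Finsupp.mapDomain_of_notMem_range d.coeff k fun ⟨k', e⟩ => hk ?_
            exact congrArg (fun q : Multiplicative N => (q.toAdd : M)) e ▸ k'.toAdd.2
          rw [h0]; exact zero_mem _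
      · change projF A hF (z + incl d) = v
        rw [map_add, ← RingHom.comp_apply (projF A hF) incl, hincl, RingHom.id_apply]
        exact add_sub_cancel _ _
  let θx := ev x.1 (cst : A ⧸ I →+* MA (A ⧸ I) N) uni
  let θy := ev y.1 (cst : A →+* MA A F) uni
  have hsqp := Misc6.isPushout_spec (f := CommRingCat.ofHom p₁) (g := CommRingCat.ofHom p₂) (q := CommRingCat.ofHom pF)
    (p := CommRingCat.ofHom qF) hsq
  have hxy : Spec.map (CommRingCat.ofHom qF) ≫ θy = Spec.map (CommRingCat.ofHom pF) ≫ θx := by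
    have h' := congrArg (fun γ => ev γ (cst : A ⧸ I →+* MA (A ⧸ I) F) uni) h
    simp only [ev_face, ev_base] at h'
    refine Eq.trans ?_ (h'.symm.trans ?_)
    · rw [ev_eq_univ y.1, show qF = evC ((cst : A ⧸ I →+* MA (A ⧸ I) F).comp (Ideal.Quotient.mk I)) uni from
        hom_ext_cst (RingHom.ext fun r => by simp [qF, MonoidAlgebra.singleOneRingHom])
          (MonoidHom.ext fun m => by simp [qF])]
    · rw [ev_eq_univ x.1]
      rfl
  let θ : Spec (CommRingCat.of B) ⟶ X.left := hsqp.desc θy θx hxy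
  have hθ₂ : Spec.map (CommRingCat.ofHom p₂) ≫ θ = θy := hsqp.inl_desc _ _ _
  have hθ₁ : Spec.map (CommRingCat.ofHom p₁) ≫ θ = θx := hsqp.inr_desc _ _ _
  have hθX : Spec.map (CommRingCat.ofHom q) ≫ MagnetGr.str str (cst : A →+* MA A N) = θ ≫ X.hom := by
    refine hsqp.hom_ext ?_ ?_
    · rw [reassoc_of% hθ₂, ev_hom, MagnetGr.str, specMap_comp, specMap_comp, hp₂]
      congr 3
      exact RingHom.ext fun r => by simp [projF, MonoidAlgebra.singleOneRingHom]
    · rw [reassoc_of% hθ₁, ev_hom, MagnetGr.str, MagnetGr.str, specMap_comp, specMap_comp, hp₁]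
      change _ = Spec.map _ ≫ Spec.map _ ≫ str
      rw [specMap_comp]
      congr 3
      exact RingHom.ext fun r => by simp [MonoidAlgebra.singleOneRingHom]
  obtain ⟨L, hL₁, hL₂⟩ := exists_lift_of_smooth X.hom q hq hJ θ _ hθX
  have hLx : Spec.map (CommRingCat.ofHom (redN I N)) ≫ L = θx := by rw [← hp₁, ← specMap_comp, hL₁, hθ₁]
  have hLy : Spec.map (CommRingCat.ofHom (projF A hF)) ≫ L = θy := by rw [← hp₂, ← specMap_comp, hL₁, hθ₂]
  have heqy : ∀ {E : Type u} [CommRing E] (j : A →+* E) (χ : Multiplicative F →* E) (g : Multiplicative M →* E),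
      orb aX (Spec.map (CommRingCat.ofHom (evC j (extChar hF χ))) ≫ L) g =
        Spec.map (CommRingCat.ofHom (evC j (res N g * extChar hF χ))) ≫ L := by
    intro E _ j χ g
    rw [res_mul_extChar, ← evC_projF, ← evC_projF, ← specMap_comp, ← specMap_comp, hLy, ← ev_eq_univ, ← ev_eq_univ,
      orb_ev aX y.2]
  let j₀ : A →+* MA B M := ((cst : B →+* MA B M).comp q).comp cst
  let χ₀ : Multiplicative N →* MA B M :=
    ((((cst : B →+* MA B M).comp q : MA A N →+* MA B M)) : MA A N →* MA B M).comp uni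
  have huniv : orb aX (Spec.map (CommRingCat.ofHom (evC j₀ χ₀)) ≫ L) uni =
      Spec.map (CommRingCat.ofHom (evC j₀ (res N (uni : Multiplicative M →* MA B M) * χ₀))) ≫ L := by
    have hpo := Misc6.isPushout_spec (f := CommRingCat.ofHom (MonoidAlgebra.mapRingHom (Multiplicative M) p₁))
      (g := CommRingCat.ofHom (MonoidAlgebra.mapRingHom (Multiplicative M) p₂))
      (q := CommRingCat.ofHom (MonoidAlgebra.mapRingHom (Multiplicative M) pF))
      (p := CommRingCat.ofHom (MonoidAlgebra.mapRingHom (Multiplicative M) qF)) (fibreSquare_MA hsq M)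
    refine hpo.hom_ext ?_ ?_
    · rw [comp_orb, specMap_comp, specMap_comp, comp_evC, comp_evC, MonoidHom.comp_mul]
      have e₁ : ((MonoidAlgebra.mapRingHom (Multiplicative M) p₂ : MA B M →+* MA (MA A F) M) :
          MA B M →* MA (MA A F) M).comp χ₀ = extChar hF
            ((((cst : MA A F →+* MA (MA A F) M)) : MA A F →* MA (MA A F) M).comp uni) := by
        rw [← comp_extChar]
        refine MonoidHom.ext fun m => ?_
        simp only [χ₀, MonoidHom.comp_apply, MonoidHom.coe_coe, RingHom.comp_apply]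
        simp [MonoidAlgebra.singleOneRingHom]
        change projF A hF (MonoidAlgebra.single m 1) = _
        rw [projF, evC_single, map_one, _root_.one_mul]
      rw [e₁]
      exact heqy _ _ _
    · rw [comp_orb, specMap_comp, specMap_comp, comp_evC, comp_evC, MonoidHom.comp_mul]
      refine equivariant_red x.2 L hLx _ _ _ ?_
      intro z hz
      rw [RingHom.mem_ker, ← comp_evC]
      have h₀ : evC j₀ χ₀ = (cst : B →+* MA B M).comp q := hom_ext_cst (evC_comp_cst _ _) (evC_comp_uni _ _)
      rw [h₀, RingHom.comp_apply, RingHom.comp_apply]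
      change MonoidAlgebra.mapRingHom (Multiplicative M) p₁ (MonoidAlgebra.single 1 (q z)) = 0
      rw [MonoidAlgebra.mapRingHom_single]
      rw [show p₁ (q z) = redN I N z from rfl, RingHom.mem_ker.1 hz]
      simp
  have heq : ∀ {E : Type u} [CommRing E] (j : A →+* E) (χ : Multiplicative N →* E) (g : Multiplicative M →* E),
      RingHom.ker q ≤ RingHom.ker (evC j χ) →
      orb aX (Spec.map (CommRingCat.ofHom (evC j χ)) ≫ L) g =
        Spec.map (CommRingCat.ofHom (evC j (res N g * χ))) ≫ L := by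
    intro E _ j χ g hk
    obtain ⟨ψ, hψ⟩ : ∃ ψ : B →+* E, ψ.comp q = evC j χ :=
      ⟨RingHom.liftOfSurjective q hq ⟨_, hk⟩, RingHom.liftOfSurjective_comp _ _ _⟩
    have h' := congrArg (Spec.map (CommRingCat.ofHom (evC ψ g)) ≫ ·) huniv
    simp only [comp_orb, specMap_comp, comp_evC, evC_comp_uni, MonoidHom.comp_mul, ← MonoidHom.comp_assoc] at h'
    have ej : (evC ψ g).comp j₀ = j := by
      rw [show j₀ = ((cst : B →+* MA B M).comp q).comp cst from rfl, ← RingHom.comp_assoc, ← RingHom.comp_assoc,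
        evC_comp_cst, hψ, evC_comp_cst]
    have eχ : ((evC ψ g : MA B M →+* E) : MA B M →* E).comp χ₀ = χ := by
      refine MonoidHom.ext fun m => ?_
      change evC ψ g (cst (q (uni m))) = χ m
      rw [← RingHom.comp_apply (evC ψ g) cst, evC_comp_cst, ← RingHom.comp_apply ψ q, hψ]
      exact DFunLike.congr_fun (evC_comp_uni j χ) m
    rw [ej, eχ] at h'
    convert h' using 4
  obtain ⟨L', hL'₁, hL'₂, hL'₃⟩ := exists_average aX hq hJ (stable_of_monomial q hmon) L heq
  have hs : L' ≫ X.hom = MagnetGr.str str (cst : A →+* MA A N) := by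
    refine hL'₃ X.hom _ hL₂ ?_
    rw [transl, orb_hom, Category.assoc, hL₂, MagnetGr.str, specMap_comp, specMap_comp]
    congr 3
    exact (evC_comp_cst _ _).trans rfl
  refine ⟨⟨ofUniv L' hs, isEquivariant_of_orb_ev aX fun {E} _ j χ g => ?_⟩, ?_, ?_⟩
  · rw [ev_ofUniv, ev_ofUniv]
    exact hL'₂ j χ g
  · refine hom_ext_univ ?_
    rw [ev_base, ev_ofUniv, ← evC_redN, evC_cst_uni, RingHom.id_comp, ← hp₁, ← specMap_comp, hL'₁, specMap_comp,
      hp₁, hLx]
  · refine hom_ext_univ ?_
    rw [ev_face, ev_ofUniv, ← evC_projF, evC_cst_uni, RingHom.id_comp, ← hp₂, ← specMap_comp, hL'₁, specMap_comp,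
      hp₂, hLy]

end GrothLib.MagnetGr
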