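import Groth.Agent.Lib.MagnetGr25.Attr
import Groth.Agent.Lib.MagnetGr25.Chart
import Mathlib.RingTheory.Ideal.Maps

/-! # The attractor of an affine chart is the closed subscheme cut out by the degrees outside the magnet -/

set_option autoImplicit false
set_option backward.isDefEq.respectTransparency false
set_option backward.isDefEq.respectTransparency.types false

universe u

open CategoryTheory MonoidalCategory CartesianMonoidalCategory AlgebraicGeometry Opposite

noncomputable section

namespace GrothLib.MagnetGr

open Magnet MagnetPts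

variable {S : Scheme.{u}} {M : Type} [AddCommMonoid M] {X : Over S} {a : MonAct (AMonS S M) X}

/-- The inclusion `E[N] → E[M]`. -/
def incN (E : Type u) [CommRing E] (N : AddSubmonoid M) : MA E N →+* MA E M :=
  MonoidAlgebra.mapDomainRingHom E (AddMonoidHom.toMultiplicative N.subtype)

theorem incN_injective (E : Type u) [CommRing E] (N : AddSubmonoid M) : Function.Injective (incN E N) :=
  MonoidAlgebra.mapDomain_injective fun _ _ h => Multiplicative.toAdd.injective (Subtype.ext h :)

@[simp] theorem incN_single {E : Type u} [CommRing E] {N : AddSubmonoid M} (n : Multiplicative N) (r : E) :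
    incN E N (MonoidAlgebra.single n r) =
      MonoidAlgebra.single (AddMonoidHom.toMultiplicative N.subtype n) r := by
  simp [incN, MonoidAlgebra.mapDomainRingHom]

theorem evC_incN {E E' : Type u} [CommRing E] [CommRing E'] {N : AddSubmonoid M} (j : E →+* E')
    (g : Multiplicative M →* E') : (evC j g).comp (incN E N) = evC j (res N g) :=
  hom_ext_cst (RingHom.ext fun r => by simp [MonoidAlgebra.singleOneRingHom]) (MonoidHom.ext fun n => by simp)

theorem mem_range_incN {E : Type u} [CommRing E] {N : AddSubmonoid M} (z : MA E M)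
    (hz : ∀ m : Multiplicative M, m.toAdd ∉ N → z.coeff m = 0) : z ∈ (incN E N).range := by
  rw [← z.sum_coeff_single, Finsupp.sum]
  refine sum_mem fun m hm => ?_
  have : m.toAdd ∈ N := not_not.1 fun h => Finsupp.mem_support_iff.1 hm (hz m h)
  exact ⟨MonoidAlgebra.single (Multiplicative.ofAdd ⟨m.toAdd, this⟩) (z.coeff m), by rw [incN_single]; rfl⟩

theorem coeff_incN_of_not_mem {E : Type u} [CommRing E] {N : AddSubmonoid M} (z : MA E N) (m : Multiplicative M)
    (hm : m.toAdd ∉ N) : (incN E N z).coeff m = 0 := by
  induction z using MonoidAlgebra.induction_linear with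
  | zero => simp
  | add x y hx hy => simp [map_add, hx, hy]
  | single k r =>
    rw [incN_single, MonoidAlgebra.coeff_single, Finsupp.single_eq_of_ne]
    rintro rfl
    exact hm k.toAdd.2

namespace Chart

variable (U : Chart a) (N : AddSubmonoid M)

/-- The ideal of the attractor in a chart. -/
def attrIdeal : Ideal U.A := Ideal.span {y | ∃ (z : U.A) (m : Multiplicative M), m.toAdd ∉ N ∧ (U.δ z).coeff m = y}

variable {N} {E : Type u} [CommRing E] (x : U.A →+* E) (hx : U.attrIdeal N ≤ RingHom.ker x)

include hx in
theorem mapRingHom_mem_range (z : U.A) :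
    MonoidAlgebra.mapRingHom (Multiplicative M) x (U.δ z) ∈ (incN E N).range :=
  mem_range_incN _ fun m hm => by
    rw [MonoidAlgebra.coeff_mapRingHom]
    exact hx (Ideal.subset_span ⟨z, m, hm, rfl⟩)

/-- The coordinate ring map of the family attached to a point of the attractor. -/
def theta : U.A →+* MA E N :=
  (RingEquiv.ofBijective (incN E N).rangeRestrict
    ⟨fun _ _ h => incN_injective E N (congrArg Subtype.val h), (incN E N).rangeRestrict_surjective⟩).symm.toRingHom.comp
    (((MonoidAlgebra.mapRingHom (Multiplicative M) x).comp U.δ).codRestrict (incN E N).range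
      (U.mapRingHom_mem_range x hx))

theorem incN_theta (z : U.A) : incN E N (U.theta x hx z) = MonoidAlgebra.mapRingHom (Multiplicative M) x (U.δ z) := by
  let e := RingEquiv.ofBijective (incN E N).rangeRestrict
    ⟨fun _ _ h => incN_injective E N (congrArg Subtype.val h), (incN E N).rangeRestrict_surjective⟩
  exact congrArg Subtype.val (e.apply_symm_apply
    ((((MonoidAlgebra.mapRingHom (Multiplicative M) x).comp U.δ).codRestrict (incN E N).range
      (U.mapRingHom_mem_range x hx)) z))

theorem evC_theta {E' : Type u} [CommRing E'] (j : E →+* E') (g : Multiplicative M →* E') :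
    (evC j (res N g)).comp (U.theta x hx) = (evC (j.comp x) g).comp U.δ := by
  rw [← evC_incN, RingHom.comp_assoc]
  refine RingHom.ext fun z => ?_
  change evC j g (incN E N (U.theta x hx z)) = evC (j.comp x) g (U.δ z)
  rw [U.incN_theta]
  have : (evC j g).comp (MonoidAlgebra.mapRingHom (Multiplicative M) x) = evC (j.comp x) g :=
    hom_ext_cst (RingHom.ext fun r => by simp [MonoidAlgebra.singleOneRingHom]) (MonoidHom.ext fun n => by simp)
  exact RingHom.congr_fun this _

theorem theta_one : (evC (RingHom.id E) (1 : Multiplicative N →* E)).comp (U.theta x hx) = x := by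
  refine RingHom.ext fun z => ?_
  have h1 : (res N (1 : Multiplicative M →* E)) = 1 := MonoidHom.ext fun _ => rfl
  rw [← h1, U.evC_theta, RingHom.id_comp]
  change evC x 1 (U.δ z) = x z
  rw [evC_one_apply, U.sum_coeff]

/-- Compatibility of `theta` with the coaction. -/
theorem orb_theta {E' : Type u} [CommRing E'] (j : E →+* E') (χ : Multiplicative N →* E')
    (g : Multiplicative M →* E') :
    (evC ((evC j χ).comp (U.theta x hx)) g).comp U.δ = (evC j (res N g * χ)).comp (U.theta x hx) := by
  classical
  refine RingHom.ext fun z => ?_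
  conv_lhs => rw [← U.sum_coeff z]
  conv_rhs => rw [← U.sum_coeff z]
  rw [map_sum, map_sum]
  refine Finset.sum_congr rfl fun m _ => ?_
  set y := (U.δ z).coeff m with hy
  change evC ((evC j χ).comp (U.theta x hx)) g (U.δ y) = evC j (res N g * χ) (U.theta x hx y)
  rw [hy, U.δ_coeff, ← hy, evC_single]
  have hθ : incN E N (U.theta x hx y) = MonoidAlgebra.single m (x y) := by
    rw [U.incN_theta, hy, U.δ_coeff, MonoidAlgebra.mapRingHom_single]
  by_cases hm : m.toAdd ∈ N
  · have hθ' : U.theta x hx y = MonoidAlgebra.single (Multiplicative.ofAdd (⟨m.toAdd, hm⟩ : N)) (x y) :=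
      incN_injective E N (by rw [hθ, incN_single]; rfl)
    simp only [RingHom.comp_apply, hθ', evC_single, MonoidHom.mul_apply]
    change j (x y) * χ _ * g m = j (x y) * (g m * χ _)
    ring
  · have h0 : x y = 0 := hx (Ideal.subset_span ⟨z, m, hm, rfl⟩)
    have hθ' : U.theta x hx y = 0 := incN_injective E N (by rw [hθ, h0, MonoidAlgebra.single_zero, map_zero])
    simp [RingHom.comp_apply, hθ']

end Chart

variable {N : AddSubmonoid M} {E : Type u} [CommRing E] {s : Spec (CommRingCat.of E) ⟶ S}

/-- A point of the attractor ideal's vanishing locus gives a point of the attractor. -/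
theorem exists_attr_theta (U : Chart a) {W : S.Opens} (hW : IsAffineOpen W)
    (hU : Set.range (U.inc ≫ X.hom).base ⊆ (W : Set S)) (x : U.A →+* E)
    (hs : Spec.map (CommRingCat.ofHom x) ≫ U.inc ≫ X.hom = s) (hx : U.attrIdeal N ≤ RingHom.ker x) :
    ∃ φ : (attr a N).obj (op (Over.mk s)), ev φ.1 (cst : E →+* MA E N) uni =
      Spec.map (CommRingCat.ofHom (U.theta x hx)) ≫ U.inc := by
  let θ := Spec.map (CommRingCat.ofHom (U.theta x hx)) ≫ U.inc
  have hθ : θ ≫ X.hom = str s (cst : E →+* MA E N) := by
    have hp : orb a (Spec.map (CommRingCat.ofHom ((cst : E →+* MA E M).comp x)) ≫ U.inc) uni =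
        Spec.map (CommRingCat.ofHom (incN E N)) ≫ θ := by
      rw [U.orb_pt, specMap_comp]
      congr 3
      refine RingHom.ext fun z => ?_
      change evC (cst.comp x) uni (U.δ z) = incN E N (U.theta x hx z)
      rw [U.incN_theta]
      have : evC ((cst : E →+* MA E M).comp x) uni = MonoidAlgebra.mapRingHom (Multiplicative M) x :=
        hom_ext_cst ((evC_comp_cst _ _).trans (RingHom.ext fun r => by simp [MonoidAlgebra.singleOneRingHom]))
          ((evC_comp_uni _ _).trans (MonoidHom.ext fun k => by simp))
      exact RingHom.congr_fun this _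
    have := congrArg (· ≫ X.hom) hp
    simp only [orb_hom, Category.assoc] at this
    have hst : Spec.map (CommRingCat.ofHom (incN E N)) ≫ str s (cst : E →+* MA E N) =
        Spec.map (CommRingCat.ofHom (incN E N)) ≫ θ ≫ X.hom := by
      rw [← this, str, specMap_comp, ← hs, specMap_comp]
      congr 3
      exact RingHom.ext fun z => by simp [MonoidAlgebra.singleOneRingHom]
    haveI := hW.isOpenImmersion_fromSpec
    have hr1 : Set.range (str s (cst : E →+* MA E N)).base ⊆ Set.range hW.fromSpec.base := by
      rw [hW.range_fromSpec]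
      rintro _ ⟨w, rfl⟩
      rw [str, ← hs, specMap_comp]
      exact hU ⟨_, rfl⟩
    have hr2 : Set.range (θ ≫ X.hom).base ⊆ Set.range hW.fromSpec.base := by
      rw [hW.range_fromSpec]
      rintro _ ⟨w, rfl⟩
      exact hU ⟨_, rfl⟩
    obtain ⟨u, hu⟩ := Spec.map_surjective (IsOpenImmersion.lift hW.fromSpec _ hr1)
    obtain ⟨v, hv⟩ := Spec.map_surjective (IsOpenImmersion.lift hW.fromSpec _ hr2)
    have hu' : Spec.map u ≫ hW.fromSpec = str s (cst : E →+* MA E N) := by rw [hu, IsOpenImmersion.lift_fac]
    have hv' : Spec.map v ≫ hW.fromSpec = θ ≫ X.hom := by rw [hv, IsOpenImmersion.lift_fac]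
    rw [← hu', ← hv', ← Spec.map_comp_assoc, ← Spec.map_comp_assoc, cancel_mono] at hst
    have huv := Spec.map_injective hst
    have : u = v := CommRingCat.hom_ext (RingHom.ext fun r => incN_injective E N
      (congrArg (fun q => q.hom r) huv))
    rw [← hu', ← hv', this]
  refine ⟨⟨ofUniv θ hθ, isEquivariant_of_orb_ev a fun j χ g => ?_⟩, ?_⟩
  · rw [ev_ofUniv, ev_ofUniv, specMap_comp, U.orb_pt, specMap_comp]
    exact congrArg (fun v => Spec.map (CommRingCat.ofHom v) ≫ U.inc) (U.orb_theta x hx j χ g)
  · rw [ev_ofUniv, evC_cst_uni]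
    exact (congrArg (· ≫ θ) (Spec.map_id _)).trans (Category.id_comp θ)

/-- A point of the attractor ideal's vanishing locus gives a point of the attractor. -/
theorem exists_attr_of_le (U : Chart a) {W : S.Opens} (hW : IsAffineOpen W)
    (hU : Set.range (U.inc ≫ X.hom).base ⊆ (W : Set S)) (x : U.A →+* E)
    (hs : Spec.map (CommRingCat.ofHom x) ≫ U.inc ≫ X.hom = s) (hx : U.attrIdeal N ≤ RingHom.ker x) :
    ∃ φ : (attr a N).obj (op (Over.mk s)), ((attrToX a N).app (op (Over.mk s)) φ).left =
      Spec.map (CommRingCat.ofHom x) ≫ U.inc := by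
  obtain ⟨φ, hφ⟩ := exists_attr_theta U hW hU x hs hx
  exact ⟨φ, by rw [attrToX_app, ev_eq_univ, hφ, specMap_comp, U.theta_one]⟩

/-- The value at the unit of a point of the attractor lies in the vanishing locus of the ideal. -/
theorem le_ker_of_attr (U : Chart a) (φ : (attr a N).obj (op (Over.mk s))) (θ : U.A →+* MA E N)
    (hθ : Spec.map (CommRingCat.ofHom θ) ≫ U.inc = ev φ.1 (cst : E →+* MA E N) uni) :
    ∃ x : U.A →+* E, ((attrToX a N).app (op (Over.mk s)) φ).left = Spec.map (CommRingCat.ofHom x) ≫ U.inc ∧
      U.attrIdeal N ≤ RingHom.ker x := by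
  let x : U.A →+* E := (evC (RingHom.id E) (1 : Multiplicative N →* E)).comp θ
  refine ⟨x, by rw [attrToX_app, ev_eq_univ, ← hθ, specMap_comp], ?_⟩
  have hev : ev φ.1 (cst : E →+* MA E M) (1 : Multiplicative N →* MA E M) =
      Spec.map (CommRingCat.ofHom ((cst : E →+* MA E M).comp x)) ≫ U.inc := by
    rw [ev_eq_univ, ← hθ, specMap_comp]
    rw [show (cst : E →+* MA E M).comp x = ((cst : E →+* MA E M).comp (evC (RingHom.id E) 1)).comp θ from rfl,
      comp_evC, RingHom.comp_id, MonoidHom.comp_one]
  have h := orb_ev a φ.2 (cst : E →+* MA E M) (1 : Multiplicative N →* MA E M) uni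
  rw [hev, U.orb_pt, _root_.mul_one, ev_eq_univ, ← hθ, specMap_comp, ← evC_incN, evC_cst_uni, RingHom.id_comp] at h
  have h2 := specMap_inj U.inc h
  rw [Chart.attrIdeal, Ideal.span_le]
  rintro _ ⟨z, m, hm, rfl⟩
  have h3 := congrArg (fun q : MA E M => q.coeff m) (RingHom.congr_fun h2 z)
  have he : evC ((cst : E →+* MA E M).comp x) uni = MonoidAlgebra.mapRingHom (Multiplicative M) x :=
    hom_ext_cst ((evC_comp_cst _ _).trans (RingHom.ext fun r => by simp [MonoidAlgebra.singleOneRingHom]))
      ((evC_comp_uni _ _).trans (MonoidHom.ext fun k => by simp))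
  rw [he] at h3
  simp only [RingHom.comp_apply, MonoidAlgebra.coeff_mapRingHom, coeff_incN_of_not_mem _ _ hm] at h3
  exact h3

end GrothLib.MagnetGr
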