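import Mathlib.Algebra.MonoidAlgebra.Lift
import Mathlib.Algebra.MonoidAlgebra.MapDomain
import Mathlib.Algebra.MonoidAlgebra.Module
import Mathlib.Algebra.Group.TypeTags.Hom

/-! # Monoid algebras as universal rings of characters -/

set_option autoImplicit false

universe u

noncomputable section

namespace GrothLib.MagnetGr

/-- The monoid algebra of an additively written monoid. -/
abbrev MA (E : Type u) [CommRing E] (M : Type) [AddCommMonoid M] : Type u := MonoidAlgebra E (Multiplicative M)

variable {A E : Type u} [CommRing A] [CommRing E] {M : Type} [AddCommMonoid M]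

/-- Constants. -/
abbrev cst : E →+* MA E M := MonoidAlgebra.singleOneRingHom

/-- The universal character. -/
abbrev uni : Multiplicative M →* MA E M := MonoidAlgebra.of E (Multiplicative M)

/-- Evaluation at a character. -/
def evC (φ : A →+* E) (χ : Multiplicative M →* E) : MA A M →+* E :=
  MonoidAlgebra.liftNCRingHom φ χ fun _ _ => Commute.all _ _

@[simp] theorem evC_single (φ : A →+* E) (χ : Multiplicative M →* E) (m : Multiplicative M) (x : A) :
    evC φ χ (MonoidAlgebra.single m x) = φ x * χ m := MonoidAlgebra.liftNCRingHom_single _ _ _ _ _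

theorem evC_comp_cst (φ : A →+* E) (χ : Multiplicative M →* E) : (evC φ χ).comp cst = φ :=
  RingHom.ext fun x => by simp [MonoidAlgebra.singleOneRingHom]

theorem evC_comp_uni (φ : A →+* E) (χ : Multiplicative M →* E) :
    (evC φ χ : MA A M →* E).comp uni = χ :=
  MonoidHom.ext fun m => by simp

theorem hom_ext_cst {f g : MA A M →+* E} (h₁ : f.comp cst = g.comp cst)
    (h₂ : (f : MA A M →* E).comp uni = (g : MA A M →* E).comp uni) : f = g :=
  MonoidAlgebra.ringHom_ext' h₁ h₂

theorem evC_cst_uni : evC (cst : E →+* MA E M) uni = RingHom.id _ :=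
  hom_ext_cst (evC_comp_cst _ _) (evC_comp_uni _ _)

theorem comp_evC {E' : Type u} [CommRing E'] (h : E →+* E') (φ : A →+* E) (χ : Multiplicative M →* E) :
    h.comp (evC φ χ) = evC (h.comp φ) ((h : E →* E').comp χ) :=
  hom_ext_cst (by rw [RingHom.comp_assoc, evC_comp_cst, evC_comp_cst]) (MonoidHom.ext fun m => by simp)

theorem evC_one_apply (φ : A →+* E) (x : MA A M) :
    evC φ (1 : Multiplicative M →* E) x = φ (∑ m ∈ x.coeff.support, x.coeff m) := by
  conv_lhs => rw [← x.sum_coeff_single, Finsupp.sum, map_sum]
  simp [map_sum]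

theorem ext_coeff {x y : MA A M} (h : ∀ m, x.coeff m = y.coeff m) : x = y :=
  MonoidAlgebra.coeff_injective (Finsupp.ext h)

end GrothLib.MagnetGr
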