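import Groth.Agent.Lib.MagnetGr25.Global
import Mathlib.AlgebraicGeometry.Morphisms.FiniteType
import Mathlib.Data.Set.Finite.Powerset

/-! # Attractors of affine schemes of finite type depend on finitely many degrees -/

set_option autoImplicit false
set_option backward.isDefEq.respectTransparency false
set_option backward.isDefEq.respectTransparency.types false

universe u

open CategoryTheory CategoryTheory.Limits MonoidalCategory CartesianMonoidalCategory MonObj AlgebraicGeometry Opposite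

noncomputable section

namespace GrothLib.MagnetGr

open Magnet MagnetPts

variable {S : Scheme.{u}} {M : Type} [AddCommMonoid M] {X : Over S} {a : MonAct (AMonS S M) X}

theorem exists_base_map' (U : Chart a) {W : S.Opens} (hW : IsAffineOpen W)
    (hU : Set.range (U.inc ≫ X.hom).base ⊆ (W : Set S)) [LocallyOfFiniteType X.hom] :
    ∃ r : Γ(S, W) →+* U.A, Spec.map (CommRingCat.ofHom r) ≫ hW.fromSpec = U.inc ≫ X.hom ∧
      r.FiniteType ∧ U.δ.comp r = (cst : U.A →+* MA U.A M).comp r := by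
  haveI := hW.isOpenImmersion_fromSpec
  have hr : Set.range (U.inc ≫ X.hom) ⊆ Set.range hW.fromSpec := by rw [hW.range_fromSpec]; exact hU
  obtain ⟨r, hr'⟩ := Spec.map_surjective (IsOpenImmersion.lift hW.fromSpec _ hr)
  have hfac : Spec.map r ≫ hW.fromSpec = U.inc ≫ X.hom := by rw [hr', IsOpenImmersion.lift_fac]
  refine ⟨r.hom, hfac, ?_, ?_⟩
  · haveI : LocallyOfFiniteType (Spec.map r ≫ hW.fromSpec) := by rw [hfac]; infer_instance
    have := locallyOfFiniteType_of_comp (Spec.map r) hW.fromSpec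
    exact (HasRingHomProperty.Spec_iff (P := @LocallyOfFiniteType)).1 this
  · have h : Spec.map (CommRingCat.ofHom U.δ) ≫ Spec.map r ≫ hW.fromSpec =
        Spec.map (CommRingCat.ofHom (cst : U.A →+* MA U.A M)) ≫ Spec.map r ≫ hW.fromSpec := by
      rw [hfac, reassoc_of% U.hδ, orb_hom, Category.assoc]
    rw [← Spec.map_comp_assoc, ← Spec.map_comp_assoc, cancel_mono] at h
    exact congrArg CommRingCat.Hom.hom (Spec.map_injective h)

theorem exists_base_map (U : Chart a) {W : S.Opens} (hW : IsAffineOpen W)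
    (hU : Set.range (U.inc ≫ X.hom).base ⊆ (W : Set S)) [LocallyOfFiniteType X.hom] :
    ∃ r : Γ(S, W) →+* U.A, r.FiniteType ∧ U.δ.comp r = (cst : U.A →+* MA U.A M).comp r :=
  let ⟨r, _, h⟩ := exists_base_map' U hW hU
  ⟨r, h⟩

/-- Finitely many degrees suffice in a chart. -/
theorem exists_degrees (U : Chart a) {W : S.Opens} (hW : IsAffineOpen W)
    (hU : Set.range (U.inc ≫ X.hom).base ⊆ (W : Set S)) [LocallyOfFiniteType X.hom] :
    ∃ D : Set M, D.Finite ∧ ∀ (N L : AddSubmonoid M), D ∩ ↑N ⊆ ↑L → U.attrIdeal L ≤ U.attrIdeal N := by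
  classical
  obtain ⟨r, hr, hδr⟩ := exists_base_map U hW hU
  letI := r.toAlgebra
  obtain ⟨s, hs⟩ := (hr : Algebra.FiniteType Γ(S, W) U.A).out
  refine ⟨↑((s.biUnion fun x => (U.δ x).coeff.support).image Multiplicative.toAdd), Finset.finite_toSet _,
    fun N L hNL => ?_⟩
  let q := Ideal.Quotient.mk (U.attrIdeal N)
  let Φ : U.A →+* MA (U.A ⧸ U.attrIdeal N) M := (MonoidAlgebra.mapRingHom (Multiplicative M) q).comp U.δ
  have key : ∀ z, Φ z ∈ (incN (U.A ⧸ U.attrIdeal N) L).range := by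
    intro z
    have hz : z ∈ Algebra.adjoin Γ(S, W) (s : Set U.A) := by rw [hs]; trivial
    induction hz using Algebra.adjoin_induction with
    | mem x hx =>
      refine mem_range_incN _ fun m hm => ?_
      change (MonoidAlgebra.mapRingHom (Multiplicative M) q (U.δ x)).coeff m = 0
      rw [MonoidAlgebra.coeff_mapRingHom]
      change q ((U.δ x).coeff m) = 0
      rw [Ideal.Quotient.eq_zero_iff_mem]
      by_cases h0 : (U.δ x).coeff m = 0
      · rw [h0]; exact zero_mem _
      refine Ideal.subset_span ⟨x, m, fun hmN => hm (hNL ⟨?_, hmN⟩), rfl⟩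
      exact Finset.mem_coe.2 (Finset.mem_image_of_mem _ (Finset.mem_biUnion.2 ⟨x, hx, Finsupp.mem_support_iff.2 h0⟩))
    | algebraMap c =>
      refine ⟨MonoidAlgebra.single 1 (q (r c)), ?_⟩
      change incN _ L _ = MonoidAlgebra.mapRingHom (Multiplicative M) q (U.δ (r c))
      rw [incN_single, map_one, ← RingHom.comp_apply U.δ r, hδr]
      simp [MonoidAlgebra.singleOneRingHom]
    | add x y _ _ hx hy => rw [map_add]; exact add_mem hx hy
    | mul x y _ _ hx hy => rw [map_mul]; exact mul_mem hx hy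
  rw [Chart.attrIdeal, Ideal.span_le]
  rintro _ ⟨z, m, hm, rfl⟩
  obtain ⟨w, hw⟩ := key z
  have h := congrArg (fun p : MA (U.A ⧸ U.attrIdeal N) M => p.coeff m) hw
  rw [coeff_incN_of_not_mem w m hm] at h
  change 0 = (MonoidAlgebra.mapRingHom (Multiplicative M) q (U.δ z)).coeff m at h
  rw [MonoidAlgebra.coeff_mapRingHom] at h
  exact Ideal.Quotient.eq_zero_iff_mem.1 h.symm

theorem attrToX_attrMap {N L : AddSubmonoid M} (h : N ≤ L) (T : Over S) (φ : (attr a N).obj (op T)) :
    (attrToX a L).app (op T) ((attrMap a h).app (op T) φ) = (attrToX a N).app (op T) φ := by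
  change lift (toUnit T ≫ η[AMonS S L]) (𝟙 T) ≫ (AMonS.map S (AddSubmonoid.inclusion h) ▷ T) ≫ φ.1 = _
  rw [lift_whiskerRight_assoc, Category.assoc, IsMonHom.one_hom]
  rfl

variable (a) in
/-- Only finitely many degrees matter. -/
theorem exists_degrees_global [CompactSpace S] [IsAffineHom X.hom] [LocallyOfFiniteType X.hom] :
    ∃ D : Set M, D.Finite ∧ ∀ (N L : AddSubmonoid M), D ∩ ↑N ⊆ ↑L → ∀ (T : Over S) (x : T ⟶ X),
      InAttr a N x → InAttr a L x := by
  classical
  obtain ⟨κ, hκ, 𝒲⟩ : ∃ (κ : Type u) (_ : Finite κ), ∃ W : κ → S.Opens, (∀ i, IsAffineOpen (W i)) ∧ ∀ x : S, ∃ i, x ∈ W i := by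
    choose W hW hxW _ using fun x : S => exists_isAffineOpen_mem_and_subset (x := x) (U := ⊤) trivial
    obtain ⟨t, ht⟩ := isCompact_univ.elim_finite_subcover (fun x : S => (W x : Set S)) (fun x => (W x).isOpen)
      (fun x _ => Set.mem_iUnion.2 ⟨x, hxW x⟩)
    refine ⟨t, inferInstance, fun i => W i, fun i => hW i, fun x => ?_⟩
    obtain ⟨y, hy, hxy⟩ := Set.mem_iUnion₂.1 (ht (Set.mem_univ x))
    exact ⟨⟨y, hy⟩, hxy⟩
  obtain ⟨W, hW, hcov⟩ := 𝒲
  choose U hU using fun i => exists_chart_of_isAffineHom a (W i) (hW i)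
  have hrange : ∀ i, Set.range ((U i).inc ≫ X.hom).base ⊆ (W i : Set S) := fun i => by
    rintro _ ⟨p, rfl⟩
    exact ((hU i).le ⟨p, rfl⟩ :)
  choose D hD hDle using fun i => exists_degrees (U i) (hW i) (hrange i)
  refine ⟨⋃ i, D i, Set.finite_iUnion hD, fun N L hNL T x hx => ?_⟩
  have hloc : ∀ p : T.left, ∃ (i : κ) (V : T.left.Opens), IsAffineOpen V ∧ p ∈ V ∧ V ≤ T.hom ⁻¹ᵁ W i := by
    intro p
    obtain ⟨i, hi⟩ := hcov (T.hom p)
    obtain ⟨V, hV, hpV, hVW⟩ := exists_isAffineOpen_mem_and_subset (x := p) (U := T.hom ⁻¹ᵁ W i) hi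
    exact ⟨i, V, hV, hpV, hVW⟩
  choose i V hV hpV hVW using hloc
  let 𝒱 : T.left.OpenCover := Scheme.Cover.mkOfCovers T.left (fun p => Spec (CommRingCat.of Γ(T.left, V p)))
    (fun p => (hV p).fromSpec) (fun p => ⟨p, (hV p).range_fromSpec.ge (hpV p)⟩)
    (fun p => (hV p).isOpenImmersion_fromSpec)
  refine InAttr.of_cover x 𝒱 fun p => ?_
  have hs : Set.range ((hV p).fromSpec ≫ T.hom) ⊆ (W (i p) : Set S) := by
    rintro _ ⟨q, rfl⟩
    exact hVW p ((hV p).range_fromSpec.le ⟨q, rfl⟩)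
  obtain ⟨w, hw⟩ := factor_of_inAttr_spec (N := N) (U (i p)) (V := (W (i p) : Set S))
    (by rw [Set.image_univ]; exact hU (i p)) hs _
    (hx.comp (Over.homMk (hV p).fromSpec rfl : Over.mk ((hV p).fromSpec ≫ T.hom) ⟶ T))
  refine inAttr_spec_of_factor (U (i p)) (hW (i p)) (hrange (i p)) _
    (w ≫ Spec.map (CommRingCat.ofHom (Ideal.Quotient.factor
      (hDle (i p) N L (fun m hm => hNL ⟨Set.mem_iUnion.2 ⟨i p, hm.1⟩, hm.2⟩))))) ?_
  rw [Category.assoc, specMap_comp, Ideal.Quotient.factor_comp_mk]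
  exact hw

variable (a) in
theorem finite_pure [CompactSpace S] [IsAffineHom X.hom] [LocallyOfFiniteType X.hom] :
    Set.Finite {N : AddSubmonoid M | ∀ L : AddSubmonoid M,
      (∀ T : Over S, Set.range (fun φ => (attrToX a N).app (op T) φ) =
        Set.range (fun φ => (attrToX a L).app (op T) φ)) → N ≤ L} := by
  obtain ⟨D, hD, hle⟩ := exists_degrees_global a
  refine (hD.finite_subsets.image AddSubmonoid.closure).subset fun N hN => ?_
  refine ⟨D ∩ ↑N, Set.inter_subset_left, ?_⟩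
  let L := AddSubmonoid.closure (D ∩ ↑N)
  have hLN : L ≤ N := AddSubmonoid.closure_le.2 Set.inter_subset_right
  refine le_antisymm hLN (hN L fun T => Set.ext fun x => ⟨fun hx => ?_, fun hx => ?_⟩)
  · exact hle N L AddSubmonoid.subset_closure T x hx
  · obtain ⟨φ, rfl⟩ := hx
    exact ⟨(attrMap a hLN).app (op T) φ, attrToX_attrMap hLN T φ⟩

end GrothLib.MagnetGr
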