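import Groth.Agent.Lib.MagnetGr25.AttrRep
import Groth.Agent.Lib.MagnetGr25.Pure
import Groth.Agent.S18285
import Mathlib.AlgebraicGeometry.Morphisms.Flat

/-! # Points of attractors lift étale locally to a fixed point reflecting atlas -/

set_option autoImplicit false
set_option backward.isDefEq.respectTransparency false
set_option backward.isDefEq.respectTransparency.types false

universe u

open CategoryTheory CategoryTheory.Limits MonoidalCategory CartesianMonoidalCategory AlgebraicGeometry Opposite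

noncomputable section

namespace GrothLib.MagnetGr

open Magnet

variable {S : Scheme.{u}} {M : Type} [AddCommGroup M]

/-- The subgroup of units of a magnet. -/
def unitSub (N : AddSubmonoid M) : AddSubgroup M where
  toAddSubmonoid := unitFace N
  neg_mem' := fun {x} hx => by
    obtain ⟨h₁, y, hy, hxy⟩ := hx
    obtain rfl : y = -x := (neg_eq_of_add_eq_zero_right hxy).symm
    exact ⟨hy, x, h₁, neg_add_cancel x⟩

theorem unitSub_eq (N : AddSubmonoid M) : (unitSub N).toAddSubmonoid = unitFace N := rfl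

variable [AddGroup.FG M] {X U : Over S} {a : MonAct (AMonS S M) X} {aU : MonAct (AMonS S M) U} {f : U ⟶ X}

/-- Lifting to the atlas, étale locally. -/
theorem exists_local_lift [IsAffineHom U.hom] [Etale f.left] [Surjective f.left]
    [IsSeparated X.hom] [LocallyOfFinitePresentation X.hom]
    (hf : MonAct.IsEquivariant aU a f) {N : AddSubmonoid M} (Z : AddSubgroup M)
    (hN : unitFace N = (⊥ : AddSubmonoid (M ⧸ Z)).comap (QuotientAddGroup.mk' Z))
    {hfZ : MonAct.IsEquivariant (aU.restrict (AMonS.map S (QuotientAddGroup.mk' Z)))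
      (a.restrict (AMonS.map S (QuotientAddGroup.mk' Z))) f}
    (hfpr : IsPullback (MonAct.fixedPsh.map f hfZ)
      (MonAct.fixedPshι (aU.restrict (AMonS.map S (QuotientAddGroup.mk' Z))))
      (MonAct.fixedPshι (a.restrict (AMonS.map S (QuotientAddGroup.mk' Z)))) (yoneda.map f))
    {T : Over S} (φ : (attr a N).obj (op T)) :
    ∃ (T' : Over S) (c : T' ⟶ T) (ψ : (attr aU N).obj (op T')), Etale c.left ∧ Surjective c.left ∧
      (MonAct.eqvHom.postcomp (subAct S M N) f hf).app (op T') ψ = (attr a N).map c.op φ := by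
  obtain ⟨εX, hεX⟩ := exists_attr_iso_fixed a (QuotientAddGroup.mk' Z) (unitFace N) hN
  obtain ⟨εU, hεU⟩ := exists_attr_iso_fixed aU (QuotientAddGroup.mk' Z) (unitFace N) hN
  let φ₀ := (attrFace a (isFace_unitFace N)).app (op T) φ
  let x₀ : T ⟶ X := (attrToX a (unitFace N)).app (op T) φ₀
  let T' : Over S := Over.mk (pullback.fst x₀.left f.left ≫ T.hom)
  let c : T' ⟶ T := Over.homMk (pullback.fst x₀.left f.left) rfl
  let y : T' ⟶ U := Over.homMk (pullback.snd x₀.left f.left) (by
    change pullback.snd x₀.left f.left ≫ U.hom = pullback.fst x₀.left f.left ≫ T.hom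
    rw [← Over.w f, ← pullback.condition_assoc, Over.w x₀])
  have hy : c ≫ x₀ = y ≫ f := Over.OverMorphism.ext pullback.condition
  let z := (εX.hom).app (op T') ((attr a (unitFace N)).map c.op φ₀)
  have hz : (MonAct.fixedPshι (a.restrict (AMonS.map S (QuotientAddGroup.mk' Z)))).app (op T') z = y ≫ f := by
    rw [← hy, ← attrToX_map, ← hεX]
    rfl
  obtain ⟨w, hw₁, hw₂⟩ := ((Limits.Types.isPullback_iff _ _ _ _).1
    (hfpr.map ((evaluation _ _).obj (op T')))).2.2 z y hz
  change (MonAct.fixedPshι (aU.restrict (AMonS.map S (QuotientAddGroup.mk' Z)))).app (op T') w = y at hw₂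
  let ψ₀ := (εU.app (op T')).inv w
  have hψ₀ : (attrToX aU (unitFace N)).app (op T') ψ₀ = y := by
    rw [← hw₂, ← hεU]
    exact congrArg ((MonAct.fixedPshι (aU.restrict (AMonS.map S (QuotientAddGroup.mk' Z)))).app (op T'))
      (εU.inv_hom_id_app_apply (op T') w)
  have hface : (attrFace a (isFace_unitFace N)).app (op T') ((attr a N).map c.op φ) =
      (MonAct.eqvHom.postcomp (subAct S M (unitFace N)) f hf).app (op T') ψ₀ := by
    refine Groth.Agent.S18285.result S M X a (unitFace N) T' ?_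
    change (attrToX a (unitFace N)).app (op T') _ = (attrToX a (unitFace N)).app (op T') _
    rw [NatTrans.naturality_apply, attrToX_map]
    refine hy.trans ?_
    rw [← hψ₀]
    exact Category.assoc (lift (toUnit T' ≫ MonObj.one) (𝟙 T')) ψ₀.1 f
  obtain ⟨ψ, hψ, -⟩ := ((Limits.Types.isPullback_iff _ _ _ _).1
    ((isPullback_face hf (isFace_unitFace N) (Or.inr ⟨‹_›, ‹_›⟩)).map ((evaluation _ _).obj (op T')))).2.2
      ((attr a N).map c.op φ) ψ₀ hface
  exact ⟨T', c, ψ, MorphismProperty.pullback_fst _ _ ‹_›, MorphismProperty.pullback_fst _ _ ‹_›, hψ⟩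

theorem attrToX_postcomp (hf : MonAct.IsEquivariant aU a f) (N : AddSubmonoid M) {T : Over S}
    (ψ : (attr aU N).obj (op T)) :
    (attrToX a N).app (op T) ((MonAct.eqvHom.postcomp (subAct S M N) f hf).app (op T) ψ) =
      (attrToX aU N).app (op T) ψ ≫ f :=
  (Category.assoc (lift (toUnit T ≫ MonObj.one) (𝟙 T)) ψ.1 f).symm

theorem descend_image [IsSeparated X.hom] {L : AddSubmonoid M} {T T' : Over S} (c : T' ⟶ T) [Etale c.left]
    [Surjective c.left] (x : T ⟶ X) (θ : (attr a L).obj (op T')) (hθ : (attrToX a L).app (op T') θ = c ≫ x) :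
    ∃ φ : (attr a L).obj (op T), (attrToX a L).app (op T) φ = x := by
  obtain ⟨φ, hφ, -⟩ := existsUnique_desc_attr a L c θ fun R p q e => Groth.Agent.S18285.result S M X a L R (by
    change (attrToX a L).app (op R) _ = (attrToX a L).app (op R) _
    rw [attrToX_map, attrToX_map, hθ, ← Category.assoc, e, Category.assoc])
  haveI : Epi c.left := Flat.epi_of_flat_of_surjective _
  haveI : Epi c := (Over.forget S).epi_of_epi_map (inferInstanceAs (Epi c.left))
  refine ⟨φ, (cancel_epi c).1 ?_⟩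
  rw [← attrToX_map, hφ, hθ]

theorem image_le [IsAffineHom U.hom] [Etale f.left] [Surjective f.left] [IsSeparated X.hom]
    [LocallyOfFinitePresentation X.hom] (hf : MonAct.IsEquivariant aU a f) {N L : AddSubmonoid M} (Z : AddSubgroup M)
    (hN : unitFace N = (⊥ : AddSubmonoid (M ⧸ Z)).comap (QuotientAddGroup.mk' Z))
    {hfZ : MonAct.IsEquivariant (aU.restrict (AMonS.map S (QuotientAddGroup.mk' Z)))
      (a.restrict (AMonS.map S (QuotientAddGroup.mk' Z))) f}
    (hfpr : IsPullback (MonAct.fixedPsh.map f hfZ)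
      (MonAct.fixedPshι (aU.restrict (AMonS.map S (QuotientAddGroup.mk' Z))))
      (MonAct.fixedPshι (a.restrict (AMonS.map S (QuotientAddGroup.mk' Z)))) (yoneda.map f))
    (hU : ∀ (T : Over S) (ψ : (attr aU N).obj (op T)), ∃ ψ' : (attr aU L).obj (op T),
      (attrToX aU L).app (op T) ψ' = (attrToX aU N).app (op T) ψ)
    (T : Over S) (φ : (attr a N).obj (op T)) :
    ∃ φ' : (attr a L).obj (op T), (attrToX a L).app (op T) φ' = (attrToX a N).app (op T) φ := by
  obtain ⟨T', c, ψ, hc, hc', hψ⟩ := exists_local_lift hf Z hN hfpr φ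
  obtain ⟨ψ', hψ'⟩ := hU T' ψ
  exact descend_image c _ ((MonAct.eqvHom.postcomp (subAct S M L) f hf).app (op T') ψ')
    (by rw [attrToX_postcomp, hψ', ← attrToX_postcomp hf, hψ, attrToX_map])

theorem unitFace_eq_comap (N : AddSubmonoid M) (Z : AddSubgroup M) (hZ : Z.toAddSubmonoid = unitFace N) :
    unitFace N = (⊥ : AddSubmonoid (M ⧸ Z)).comap (QuotientAddGroup.mk' Z) := by
  rw [← hZ]
  ext m
  simp

theorem image_eq [IsAffineHom U.hom] [Etale f.left] [Surjective f.left] [IsSeparated X.hom]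
    [LocallyOfFinitePresentation X.hom] (hf : MonAct.IsEquivariant aU a f)
    (hfZ : ∀ Z : AddSubgroup M, MonAct.IsEquivariant (aU.restrict (AMonS.map S (QuotientAddGroup.mk' Z)))
      (a.restrict (AMonS.map S (QuotientAddGroup.mk' Z))) f)
    (hfpr : ∀ Z : AddSubgroup M, IsPullback (MonAct.fixedPsh.map f (hfZ Z))
      (MonAct.fixedPshι (aU.restrict (AMonS.map S (QuotientAddGroup.mk' Z))))
      (MonAct.fixedPshι (a.restrict (AMonS.map S (QuotientAddGroup.mk' Z)))) (yoneda.map f))
    {N L : AddSubmonoid M}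
    (hU : ∀ T : Over S, Set.range (fun φ => (attrToX aU N).app (op T) φ) =
      Set.range (fun φ => (attrToX aU L).app (op T) φ)) (T : Over S) :
    Set.range (fun φ => (attrToX a N).app (op T) φ) = Set.range (fun φ => (attrToX a L).app (op T) φ) := by
  refine subset_antisymm ?_ ?_ <;> rintro _ ⟨φ, rfl⟩
  · exact image_le hf (unitSub N) (unitFace_eq_comap N _ rfl) (hfpr _) (fun T ψ => (hU T).le ⟨ψ, rfl⟩) T φ
  · exact image_le hf (unitSub L) (unitFace_eq_comap L _ rfl) (hfpr _) (fun T ψ => (hU T).ge ⟨ψ, rfl⟩) T φ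

theorem exists_fg_attrMap_iso [CompactSpace S] [IsAffineHom U.hom] [Etale f.left] [Surjective f.left]
    [IsSeparated X.hom] [LocallyOfFinitePresentation X.hom] (hf : MonAct.IsEquivariant aU a f) (N : AddSubmonoid M)
    (Z : AddSubgroup M) (hZ : Z.toAddSubmonoid = unitFace N)
    {hfZ : MonAct.IsEquivariant (aU.restrict (AMonS.map S (QuotientAddGroup.mk' Z)))
      (a.restrict (AMonS.map S (QuotientAddGroup.mk' Z))) f}
    (hfpr : IsPullback (MonAct.fixedPsh.map f hfZ)
      (MonAct.fixedPshι (aU.restrict (AMonS.map S (QuotientAddGroup.mk' Z))))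
      (MonAct.fixedPshι (a.restrict (AMonS.map S (QuotientAddGroup.mk' Z)))) (yoneda.map f)) :
    ∃ (Nc : AddSubmonoid M) (h : Nc ≤ N), Nc.FG ∧ (∀ m : M, (m ∈ Nc ∧ -m ∈ Nc) ↔ (m ∈ N ∧ -m ∈ N)) ∧
      IsIso (attrMap a h) := by
  classical
  haveI : LocallyOfFiniteType U.hom := by rw [← Over.w f]; infer_instance
  obtain ⟨D, hD, hle⟩ := exists_degrees_global aU
  obtain ⟨G, hG⟩ : Z.toAddSubmonoid.FG := by
    rw [← AddSubgroup.fg_iff_addSubmonoid_fg]
    haveI : Module.Finite ℤ M := Module.Finite.iff_addGroup_fg.mpr inferInstance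
    haveI : IsNoetherian ℤ M := isNoetherian_of_isNoetherianRing_of_finite ℤ M
    have := IsNoetherian.noetherian (AddSubgroup.toIntSubmodule Z)
    rw [Submodule.fg_iff_addSubgroup_fg] at this
    exact this
  let Nc : AddSubmonoid M := AddSubmonoid.closure (D ∩ ↑N ∪ ↑G)
  have hGN : (G : Set M) ⊆ N := fun m hm =>
    (show m ∈ unitFace N from hZ ▸ hG ▸ AddSubmonoid.subset_closure hm).1
  have h : Nc ≤ N := AddSubmonoid.closure_le.2 (Set.union_subset Set.inter_subset_right hGN)
  have hsub : Z.toAddSubmonoid ≤ Nc := hG.ge.trans (AddSubmonoid.closure_mono Set.subset_union_right)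
  refine ⟨Nc, h, ⟨(hD.inter_of_left ↑N).toFinset ∪ G, by simp [Nc]⟩, fun m => ⟨fun hm => ⟨h hm.1, h hm.2⟩, fun hm => ?_⟩, ?_⟩
  · have hmZ : m ∈ Z.toAddSubmonoid := hZ ▸ (⟨hm.1, -m, hm.2, add_neg_cancel m⟩ : m ∈ unitFace N)
    exact ⟨hsub hmZ, hsub (Z.neg_mem hmZ)⟩
  haveI : ∀ T, IsIso ((attrMap a h).app T) := fun T => by
    obtain ⟨T, rfl⟩ : ∃ T', T = op T' := ⟨T.unop, rfl⟩
    rw [isIso_iff_bijective]
    refine ⟨attrMap_injective a h T, fun φ => ?_⟩
    obtain ⟨φ', hφ'⟩ := image_le (L := Nc) hf Z (unitFace_eq_comap N Z hZ) hfpr (fun T ψ =>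
      hle N Nc (fun x hx => AddSubmonoid.subset_closure (Or.inl hx)) T _ ⟨ψ, rfl⟩) T φ
    refine ⟨φ', Groth.Agent.S18285.result S M X a N T ?_⟩
    exact (attrToX_attrMap h T φ').trans hφ'
  exact NatIso.isIso_of_isIso_app _

end GrothLib.MagnetGr
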