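import Groth.Agent.Lib.MagnetPts25.Basic
import Groth.Agent.Lib.MagnetGr25.Alg
import Groth.Prelude.Def_Magnet3
import Mathlib.AlgebraicGeometry.Cover.Open

/-! # Orbits of actions of diagonalizable monoid schemes, on affine points -/

set_option autoImplicit false
set_option backward.isDefEq.respectTransparency false
set_option backward.isDefEq.respectTransparency.types false

universe u

open CategoryTheory MonoidalCategory CartesianMonoidalCategory MonObj AlgebraicGeometry Opposite

noncomputable section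

namespace GrothLib.MagnetGr

open Magnet MagnetPts

variable {S : Scheme.{u}} {M : Type} [AddCommMonoid M] {X Y : Over S} (a : MonAct (AMonS S M) X)

/-- The point `χ • x`. -/
def orb {E : Type u} [CommRing E] (x : Spec (CommRingCat.of E) ⟶ X.left) (χ : Multiplicative M →* E) :
    Spec (CommRingCat.of E) ⟶ X.left :=
  (lift (amsPoint M (x ≫ X.hom) χ) (Over.homMk x rfl : Over.mk (x ≫ X.hom) ⟶ X) ≫ a.act).left

theorem orb_eq {E : Type u} [CommRing E] {p : Spec (CommRingCat.of E) ⟶ S} (x : Over.mk p ⟶ X)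
    (χ : Multiplicative M →* E) : orb a x.left χ = (lift (amsPoint M p χ) x ≫ a.act).left := by
  have key : ∀ (xl : Spec (CommRingCat.of E) ⟶ X.left) (h : xl ≫ X.hom = p),
      orb a xl χ = (lift (amsPoint M p χ) (Over.homMk xl h : Over.mk p ⟶ X) ≫ a.act).left := by
    rintro xl rfl
    rfl
  exact key x.left (Over.w x)

theorem orb_hom {E : Type u} [CommRing E] (x : Spec (CommRingCat.of E) ⟶ X.left) (χ : Multiplicative M →* E) :
    orb a x χ ≫ X.hom = x ≫ X.hom :=
  Over.w (lift (amsPoint M (x ≫ X.hom) χ) (Over.homMk x rfl : Over.mk (x ≫ X.hom) ⟶ X) ≫ a.act)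

theorem orb_one {E : Type u} [CommRing E] (x : Spec (CommRingCat.of E) ⟶ X.left) : orb a x 1 = x := by
  have h1 := (amsPoint M (x ≫ X.hom)).map_one
  rw [orb]
  erw [h1]
  rw [MonAct.lift_one_act]
  rfl

theorem orb_orb {E : Type u} [CommRing E] (x : Spec (CommRingCat.of E) ⟶ X.left) (c d : Multiplicative M →* E) :
    orb a (orb a x d) c = orb a x (c * d) := by
  change orb a (lift (amsPoint M (x ≫ X.hom) d) (Over.homMk x rfl : Over.mk (x ≫ X.hom) ⟶ X) ≫ a.act).left c = _
  rw [orb_eq a (lift (amsPoint M (x ≫ X.hom) d) (Over.homMk x rfl : Over.mk (x ≫ X.hom) ⟶ X) ≫ a.act) c,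
    ← MonAct.lift_mul_act, ← map_mul]
  rfl

theorem comp_orb {E E' : Type u} [CommRing E] [CommRing E'] (x : Spec (CommRingCat.of E) ⟶ X.left)
    (χ : Multiplicative M →* E) (φ : E →+* E') :
    Spec.map (CommRingCat.ofHom φ) ≫ orb a x χ =
      orb a (Spec.map (CommRingCat.ofHom φ) ≫ x) ((φ : E →* E').comp χ) := by
  let v : Over.mk ((Spec.map (CommRingCat.ofHom φ) ≫ x) ≫ X.hom) ⟶ Over.mk (x ≫ X.hom) :=
    Over.homMk (Spec.map (CommRingCat.ofHom φ)) (Category.assoc _ _ _).symm
  change (v ≫ lift (amsPoint M (x ≫ X.hom) χ) (Over.homMk x rfl : Over.mk (x ≫ X.hom) ⟶ X) ≫ a.act).left = _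
  rw [comp_lift_assoc, amsPoint_comp]
  rfl

theorem orb_comp_equivariant {b : MonAct (AMonS S M) Y} {f : X ⟶ Y} (hf : MonAct.IsEquivariant a b f)
    {E : Type u} [CommRing E] (x : Spec (CommRingCat.of E) ⟶ X.left) (χ : Multiplicative M →* E) :
    orb a x χ ≫ f.left = orb b (x ≫ f.left) χ := by
  have h := (MonAct.isEquivariant_iff _ _ _).1 hf _ (amsPoint M (x ≫ X.hom) χ)
    (Over.homMk x rfl : Over.mk (x ≫ X.hom) ⟶ X)
  refine Eq.trans ?_ (orb_eq b ((Over.homMk x rfl : Over.mk (x ≫ X.hom) ⟶ X) ≫ f) χ).symm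
  rw [← h]
  simp [orb]

theorem orb_restrict {N : Type} [AddCommMonoid N] (g : M →+ N) {E : Type u} [CommRing E]
    (x : Spec (CommRingCat.of E) ⟶ X.left) (χ : Multiplicative N →* E) :
    orb (a.restrict (AMonS.map S g)) x χ = orb a x (χ.comp (AddMonoidHom.toMultiplicative g)) := by
  rw [orb, MonAct.lift_restrict_act, amsPoint_map]
  rfl

end GrothLib.MagnetGr
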