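import Groth.Agent.Lib.MagnetGr25.Space
import Groth.Agent.Lib.MagnetGr25.Orb

/-! # Affine points of attractors -/

set_option autoImplicit false
set_option backward.isDefEq.respectTransparency false
set_option backward.isDefEq.respectTransparency.types false

universe u

open CategoryTheory MonoidalCategory CartesianMonoidalCategory MonObj AlgebraicGeometry Opposite

noncomputable section

namespace GrothLib.MagnetGr

open Magnet MagnetPts

variable {S : Scheme.{u}} {M : Type} [AddCommMonoid M] {X : Over S} (a : MonAct (AMonS S M) X)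
variable {N : AddSubmonoid M} {E : Type u} [CommRing E] {s : Spec (CommRingCat.of E) ⟶ S}

/-- The value of a family at the point `(χ, j)`. -/
def ev (γ : AMonS S N ⊗ Over.mk s ⟶ X) {E' : Type u} [CommRing E'] (j : E →+* E') (χ : Multiplicative N →* E') :
    Spec (CommRingCat.of E') ⟶ X.left := (pt s j χ ≫ γ).left

theorem ev_hom (γ : AMonS S N ⊗ Over.mk s ⟶ X) {E' : Type u} [CommRing E'] (j : E →+* E')
    (χ : Multiplicative N →* E') : ev γ j χ ≫ X.hom = str s j := Over.w (pt s j χ ≫ γ)

theorem comp_ev (γ : AMonS S N ⊗ Over.mk s ⟶ X) {E' E'' : Type u} [CommRing E'] [CommRing E''] (j : E →+* E')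
    (χ : Multiplicative N →* E') (φ : E' →+* E'') :
    Spec.map (CommRingCat.ofHom φ) ≫ ev γ j χ = ev γ (φ.comp j) ((φ : E' →* E'').comp χ) := by
  rw [ev, ev, Over.comp_left, Over.comp_left, reassoc_of% pt_comp s j χ φ _ rfl]

theorem ev_eq_univ (γ : AMonS S N ⊗ Over.mk s ⟶ X) {E' : Type u} [CommRing E'] (j : E →+* E')
    (χ : Multiplicative N →* E') :
    ev γ j χ = Spec.map (CommRingCat.ofHom (evC j χ)) ≫ ev γ (cst : E →+* MA E N) uni := by
  rw [comp_ev, evC_comp_cst, evC_comp_uni]

theorem hom_ext_univ {γ γ' : AMonS S N ⊗ Over.mk s ⟶ X}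
    (h : ev γ (cst : E →+* MA E N) uni = ev γ' (cst : E →+* MA E N) uni) : γ = γ' := by
  have := isIso_univ (N := N) s
  apply Over.OverMorphism.ext
  rw [← cancel_epi (univ N s).left]
  exact h

/-- A family from its value at the universal point. -/
def ofUniv (θ : Spec (CommRingCat.of (MA E N)) ⟶ X.left) (hθ : θ ≫ X.hom = str s cst) :
    AMonS S N ⊗ Over.mk s ⟶ X :=
  haveI := isIso_univ (N := N) s
  Over.homMk (inv (univ N s).left ≫ θ) (by rw [Category.assoc, hθ, IsIso.inv_comp_eq, Over.w]; rfl)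

theorem ev_ofUniv (θ : Spec (CommRingCat.of (MA E N)) ⟶ X.left) (hθ : θ ≫ X.hom = str s cst)
    {E' : Type u} [CommRing E'] (j : E →+* E') (χ : Multiplicative N →* E') :
    ev (ofUniv θ hθ) j χ = Spec.map (CommRingCat.ofHom (evC j χ)) ≫ θ := by
  have := isIso_univ (N := N) s
  rw [ev_eq_univ]
  congr 1
  rw [ev, Over.comp_left]
  exact IsIso.hom_inv_id_assoc _ _

variable (N) in
/-- Restriction of a character of `M` to `N`. -/
abbrev res {E' : Type u} [CommRing E'] (g : Multiplicative M →* E') : Multiplicative N →* E' :=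
  g.comp (AddMonoidHom.toMultiplicative N.subtype)

theorem orb_ev {γ : AMonS S N ⊗ Over.mk s ⟶ X}
    (h : MonAct.IsEquivariant ((subAct S M N).prod (MonAct.trivial (AMonS S M) (Over.mk s))) a γ)
    {E' : Type u} [CommRing E'] (j : E →+* E') (χ : Multiplicative N →* E') (g : Multiplicative M →* E') :
    orb a (ev γ j χ) g = ev γ j (res N g * χ) := by
  have h' := (MonAct.mem_eqvHom_iff γ).1 h _ (amsPoint M (str s j) g) (amsPoint ↥N (str s j) χ) (toT s j)
  change orb a (pt s j χ ≫ γ).left g = _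
  rw [orb_eq a (pt s j χ ≫ γ)]
  refine congrArg CommaMorphism.left (Eq.trans h'.symm ?_)
  congr 1
  change lift (lift _ _ ≫ ((MonAct.regular (AMonS S N)).restrict (AMonS.map S N.subtype)).act) _ = lift _ _
  rw [MonAct.lift_restrict_act, MonAct.lift_regular_act, amsPoint_map, ← map_mul]

theorem isEquivariant_of_orb_ev {γ : AMonS S N ⊗ Over.mk s ⟶ X}
    (h : ∀ {E' : Type u} [CommRing E'] (j : E →+* E') (χ : Multiplicative N →* E') (g : Multiplicative M →* E'),
      orb a (ev γ j χ) g = ev γ j (res N g * χ)) :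
    MonAct.IsEquivariant ((subAct S M N).prod (MonAct.trivial (AMonS S M) (Over.mk s))) a γ := by
  rw [MonAct.mem_eqvHom_iff]
  intro T' g b t
  apply Over.OverMorphism.ext
  refine Scheme.Cover.hom_ext T'.left.affineCover _ _ fun i => ?_
  obtain ⟨φ, hφ⟩ := Spec.map_surjective (T'.left.affineCover.f i ≫ t.left :)
  have hstr : T'.left.affineCover.f i ≫ T'.hom = str s φ.hom := by
    rw [str, CommRingCat.ofHom_hom, hφ, Category.assoc]
    exact congrArg (T'.left.affineCover.f i ≫ ·) (Over.w t).symm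
  let v : Over.mk (str s φ.hom) ⟶ T' := Over.homMk (T'.left.affineCover.f i) hstr
  have hvt : v ≫ t = toT s φ.hom := Over.OverMorphism.ext (by
    change T'.left.affineCover.f i ≫ t.left = Spec.map _
    rw [CommRingCat.ofHom_hom, hφ])
  obtain ⟨g', hg'⟩ := (amsPoint M (str s φ.hom)).surjective (v ≫ g)
  obtain ⟨χ, hχ⟩ := (amsPoint ↥N (str s φ.hom)).surjective (v ≫ b)
  change (v ≫ lift (lift g b ≫ (subAct S M N).act) t ≫ γ).left = (v ≫ lift g (lift b t ≫ γ) ≫ a.act).left
  rw [comp_lift_assoc, comp_lift_assoc, comp_lift_assoc, comp_lift_assoc, hvt, ← hg', ← hχ]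
  change (lift (lift _ _ ≫ ((MonAct.regular (AMonS S N)).restrict (AMonS.map S N.subtype)).act) _ ≫ γ).left = _
  rw [MonAct.lift_restrict_act, MonAct.lift_regular_act, amsPoint_map, ← map_mul, ← orb_eq]
  exact (h φ.hom χ g').symm

theorem attrToX_app (φ : (attr a N).obj (op (Over.mk s))) :
    ((attrToX a N).app (op (Over.mk s)) φ).left = ev φ.1 (RingHom.id E) 1 := by
  change (lift (toUnit (Over.mk s) ≫ η[AMonS S N]) (𝟙 _) ≫ φ.1).left = (pt s (RingHom.id E) 1 ≫ φ.1).left
  have hs : str s (RingHom.id E) = s := by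
    rw [str, show CommRingCat.ofHom (RingHom.id E) = 𝟙 _ from rfl, Spec.map_id, Category.id_comp]
  have key : ∀ (w : Over.mk (str s (RingHom.id E)) ⟶ Over.mk s), w.left = 𝟙 _ →
      (w ≫ lift (toUnit (Over.mk s) ≫ η[AMonS S N]) (𝟙 _)).left = (pt s (RingHom.id E) 1).left := by
    intro w hw
    rw [pt, comp_lift, Category.comp_id, ← Category.assoc, show w ≫ toUnit _ = toUnit _ from toUnit_unique _ _,
      ← Hom.one_def, (amsPoint ↥N (str s (RingHom.id E))).map_one]
    congr 2
    apply Over.OverMorphism.ext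
    rw [hw]
    exact (Spec.map_id _).symm
  have := key (Over.homMk (𝟙 _) (by exact (Category.id_comp s).trans hs.symm)) rfl
  rw [Over.comp_left, Over.comp_left, ← this, Over.comp_left, Category.assoc]
  exact (Category.id_comp _).symm

end GrothLib.MagnetGr
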