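import Groth.Agent.Lib.MagnetGr25.Affine
import Groth.Agent.Lib.MagnetFix25.Descent
import Groth.Agent.Lib.MagnetSheaf25.Basic
import Groth.Agent.S18285
import Mathlib.AlgebraicGeometry.Sites.BigZariski

/-! # Attractors of schemes affine over the base are closed subschemes -/

set_option autoImplicit false
set_option backward.isDefEq.respectTransparency false
set_option backward.isDefEq.respectTransparency.types false

universe u

open CategoryTheory CategoryTheory.Limits MonoidalCategory CartesianMonoidalCategory AlgebraicGeometry Opposite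

noncomputable section

namespace GrothLib.MagnetGr

open Magnet MagnetPts

variable {S : Scheme.{u}} {M : Type} [AddCommMonoid M] {X : Over S} (a : MonAct (AMonS S M) X) (N : AddSubmonoid M)

/-- A point of `X` is in the attractor. -/
def InAttr {T : Over S} (x : T ⟶ X) : Prop :=
  ∃ φ : (attr a N).obj (op T), (attrToX a N).app (op T) φ = x

variable {a N}

theorem attrToX_map {T T' : Over S} (c : T' ⟶ T) (φ : (attr a N).obj (op T)) :
    (attrToX a N).app (op T') ((attr a N).map c.op φ) = c ≫ (attrToX a N).app (op T) φ := by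
  simp [comp_lift_assoc]

theorem InAttr.comp {T T' : Over S} {x : T ⟶ X} (h : InAttr a N x) (c : T' ⟶ T) : InAttr a N (c ≫ x) := by
  obtain ⟨φ, rfl⟩ := h
  exact ⟨(attr a N).map c.op φ, attrToX_map c φ⟩

/-- Membership in the attractor is Zariski local, for separated targets. -/
theorem InAttr.of_cover [IsSeparated X.hom] {T : Over S} (x : T ⟶ X) (𝒱 : T.left.OpenCover)
    (h : ∀ i, InAttr a N ((Over.homMk (𝒱.f i) rfl : Over.mk (𝒱.f i ≫ T.hom) ⟶ T) ≫ x)) : InAttr a N x := by
  let R : Sieve T :=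
    { arrows := fun {W} f => InAttr a N (f ≫ x)
      downward_closed := fun {W V f} hf g => by
        rw [Category.assoc]
        exact InAttr.comp hf g }
  have hR : R ∈ (Scheme.zariskiTopology.over S) T := by
    rw [GrothendieckTopology.mem_over_iff]
    refine GrothendieckTopology.superset_covering _ ?_ 𝒱.mem_grothendieckTopology
    rw [Sieve.generate_le_iff]
    rintro _ _ ⟨i⟩
    rw [Sieve.overEquiv_iff]
    exact h i
  have hsheaf : Presieve.IsSheaf (Scheme.zariskiTopology.over S) (attr a N) :=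
    MagnetSheaf.isSheaf_eqvHom _ (MagnetSheaf.isSheaf_yoneda_over _ X) _ _
  have huniq : ∀ (T' : Over S) (φ ψ : (attr a N).obj (op T')),
      (attrToX a N).app (op T') φ = (attrToX a N).app (op T') ψ → φ = ψ := fun T' =>
    Groth.Agent.S18285.result S M X a N T'
  let fam : Presieve.FamilyOfElements (attr a N) R.arrows := fun W f hf => Exists.choose hf
  have hfam : ∀ {W : Over S} (f : W ⟶ T) (hf : R f), (attrToX a N).app (op W) (fam f hf) = f ≫ x :=
    fun f hf => Exists.choose_spec hf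
  have hcomp : fam.Compatible := by
    intro W₁ W₂ W g₁ g₂ f₁ f₂ h₁ h₂ e
    refine huniq W _ _ ?_
    rw [attrToX_map g₁, attrToX_map g₂]
    rw [hfam f₁ h₁, hfam f₂ h₂, reassoc_of% e]
  obtain ⟨φ, hφ, -⟩ := hsheaf R hR fam hcomp
  refine ⟨φ, ?_⟩
  refine (MagnetSheaf.isSheaf_yoneda_over Scheme.zariskiTopology X R hR).isSeparatedFor.ext fun W f hf => ?_
  change f ≫ (attrToX a N).app (op T) φ = f ≫ x
  rw [← hfam f hf, ← hφ f hf]
  exact (attrToX_map f φ).symm

/-- The closed subscheme of a chart cut out by the attractor ideal. -/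
abbrev quot (U : Chart a) : Spec (CommRingCat.of (U.A ⧸ U.attrIdeal N)) ⟶ Spec (CommRingCat.of U.A) :=
  Spec.map (CommRingCat.ofHom (Ideal.Quotient.mk (U.attrIdeal N)))

theorem inAttr_spec_of_factor (U : Chart a) {W : S.Opens} (hW : IsAffineOpen W)
    (hU : Set.range (U.inc ≫ X.hom).base ⊆ (W : Set S)) {E : Type u} [CommRing E]
    {s : Spec (CommRingCat.of E) ⟶ S} (x : Over.mk s ⟶ X)
    (w : Spec (CommRingCat.of E) ⟶ Spec (CommRingCat.of (U.A ⧸ U.attrIdeal N)))
    (hw : w ≫ quot U ≫ U.inc = x.left) : InAttr a N x := by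
  obtain ⟨ρ, rfl⟩ := Spec.map_surjective w
  let ξ : U.A →+* E := ρ.hom.comp (Ideal.Quotient.mk (U.attrIdeal N))
  have hξ : Spec.map (CommRingCat.ofHom ξ) ≫ U.inc = x.left := by
    rw [← hw]
    exact (specMap_comp _ _ _).symm
  obtain ⟨φ, hφ⟩ := exists_attr_of_le (N := N) (s := s) U hW hU ξ (by rw [reassoc_of% hξ]; exact Over.w x)
    (fun y hy => by
      change ρ.hom (Ideal.Quotient.mk _ y) = 0
      rw [Ideal.Quotient.eq_zero_iff_mem.2 hy, map_zero])
  exact ⟨φ, Over.OverMorphism.ext (hφ.trans hξ)⟩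

theorem factor_of_inAttr_spec (U : Chart a) {E : Type u} [CommRing E] {s : Spec (CommRingCat.of E) ⟶ S}
    {V : Set S} (hV : U.inc.base '' Set.univ = X.hom.base ⁻¹' V) (hs : Set.range s.base ⊆ V) (x : Over.mk s ⟶ X)
    (h : InAttr a N x) :
    ∃ w : Spec (CommRingCat.of E) ⟶ Spec (CommRingCat.of (U.A ⧸ U.attrIdeal N)), w ≫ quot U ≫ U.inc = x.left := by
  obtain ⟨φ, hφ⟩ := h
  have hr : Set.range (ev φ.1 (cst : E →+* MA E N) uni).base ⊆ Set.range U.inc.base := by
    rintro _ ⟨p, rfl⟩
    rw [← Set.image_univ, hV]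
    refine hs ⟨Spec.map (CommRingCat.ofHom (cst : E →+* MA E N)) p, ?_⟩
    exact (congrArg (fun q : Spec (CommRingCat.of (MA E N)) ⟶ S => q.base p) (ev_hom φ.1 (cst : E →+* MA E N) uni)).symm
  obtain ⟨θ, hθ⟩ := U.exists_pt _ hr
  obtain ⟨ξ, hξ, hle⟩ := le_ker_of_attr U φ θ hθ
  refine ⟨Spec.map (CommRingCat.ofHom (Ideal.Quotient.lift (U.attrIdeal N) ξ fun y hy => hle hy)), ?_⟩
  rw [specMap_comp, Ideal.Quotient.lift_comp_mk, ← hξ, hφ]

theorem quot_inc_mono (U : Chart a) : Mono (quot (N := N) U ≫ U.inc) := by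
  haveI : IsClosedImmersion (quot (N := N) U) := IsClosedImmersion.spec_of_surjective _ Ideal.Quotient.mk_surjective
  exact inferInstance

/-- On a chart over an affine open of the base, the attractor is the closed subscheme of its ideal. -/
theorem inAttr_iff_le_ker [IsSeparated X.hom] (U : Chart a) {W : S.Opens} (hW : IsAffineOpen W)
    (hV : U.inc.base '' Set.univ = X.hom.base ⁻¹' (W : Set S)) {T : Over S}
    (t : T ⟶ Over.mk (U.inc ≫ X.hom)) :
    InAttr a N (t ≫ (Over.homMk U.inc rfl : Over.mk (U.inc ≫ X.hom) ⟶ X)) ↔ (quot (N := N) U).ker ≤ t.left.ker := by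
  have hU : Set.range (U.inc ≫ X.hom).base ⊆ (W : Set S) := by
    rintro _ ⟨p, rfl⟩
    exact (hV.le ⟨p, trivial, rfl⟩ :)
  haveI : IsClosedImmersion (quot (N := N) U) := IsClosedImmersion.spec_of_surjective _ Ideal.Quotient.mk_surjective
  constructor
  · intro h
    let 𝒱 := T.left.affineCover
    have hloc : ∀ i, ∃ w : 𝒱.X i ⟶ Spec (CommRingCat.of (U.A ⧸ U.attrIdeal N)),
        w ≫ quot U = 𝒱.f i ≫ t.left := by
      intro i
      have hi := h.comp (Over.homMk (𝒱.f i) rfl : Over.mk (𝒱.f i ≫ T.hom) ⟶ T)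
      have hs : Set.range (𝒱.f i ≫ T.hom).base ⊆ (W : Set S) := by
        rintro _ ⟨p, rfl⟩
        exact (hU ⟨t.left.base ((𝒱.f i).base p),
          congrArg (fun q : T.left ⟶ S => q.base ((𝒱.f i).base p)) (Over.w t)⟩ :)
      obtain ⟨w, hw⟩ := factor_of_inAttr_spec U hV hs _ hi
      refine ⟨w, ?_⟩
      rw [← cancel_mono U.inc, Category.assoc, hw, Category.assoc]
      rfl
    choose w hw using hloc
    haveI : Mono (quot (N := N) U) := inferInstance
    let l : T.left ⟶ Spec (CommRingCat.of (U.A ⧸ U.attrIdeal N)) := 𝒱.glueMorphisms w fun i j => by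
      rw [← cancel_mono (quot (N := N) U), Category.assoc, Category.assoc, hw, hw, pullback.condition_assoc]
    have hl : l ≫ quot U = t.left := 𝒱.hom_ext _ _ fun i => by
      rw [Scheme.Cover.ι_glueMorphisms_assoc, hw]
    rw [← hl]
    exact Scheme.Hom.le_ker_comp _ _
  · intro h
    let l := IsClosedImmersion.lift (quot (N := N) U) t.left h
    have hl : l ≫ quot U = t.left := IsClosedImmersion.lift_fac _ _ _
    refine InAttr.of_cover _ T.left.affineCover fun i => ?_
    refine inAttr_spec_of_factor U hW hU _ (T.left.affineCover.f i ≫ l) ?_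
    rw [Category.assoc, reassoc_of% hl]
    rfl

variable (a N) in
theorem exists_ideal [IsAffineHom X.hom] :
    ∃ J : X.left.IdealSheafData, ∀ (T : Over S) (x : T ⟶ X), InAttr a N x ↔ J ≤ x.left.ker := by
  let ι := {W : S.Opens // IsAffineOpen W}
  choose U hU using fun W : ι => exists_chart_of_isAffineHom a W.1 W.2
  have hV : ∀ W : ι, (U W).inc.base '' Set.univ = X.hom.base ⁻¹' (W.1 : Set S) := fun W => by
    rw [Set.image_univ]; exact hU W
  let Q : ι → Scheme.{u} := fun W => Spec (CommRingCat.of (U W).A)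
  let g : ∀ W : ι, Q W ⟶ X.left := fun W => (U W).inc
  let I : ∀ W : ι, (Q W).IdealSheafData := fun W => (quot (N := N) (U W)).ker
  have hsurj : ∀ x : X.left, ∃ W : ι, x ∈ Set.range (g W).base := fun x => by
    obtain ⟨W, hW, hxW, -⟩ := exists_isAffineOpen_mem_and_subset (x := X.hom.base x) (U := ⊤) trivial
    exact ⟨⟨W, hW⟩, (hU ⟨W, hW⟩).ge hxW⟩
  let hom : ∀ W : ι, Over.mk (g W ≫ X.hom) ⟶ X := fun W => Over.homMk (g W) rfl
  have hle : ∀ (i j : ι) (R : Over S) (p : R ⟶ Over.mk (g i ≫ X.hom)) (q : R ⟶ Over.mk (g j ≫ X.hom)),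
      p ≫ hom i = q ≫ hom j → (I j).comap q.left ≤ (I i).comap p.left := by
    intro i j R p q hpq
    let K := (I i).comap p.left
    have h1 : I i ≤ (MagnetFix.subι K ≫ p).left.ker := by
      rw [Over.comp_left, Scheme.Hom.ker_comp]
      change I i ≤ (K.subschemeι.ker).map p.left
      rw [K.ker_subschemeι, Scheme.IdealSheafData.le_map_iff_comap_le]
    have h2 : InAttr a N ((MagnetFix.subι K ≫ p) ≫ hom i) :=
      (inAttr_iff_le_ker (U i) i.2 (hV i) _).2 h1
    rw [Category.assoc, hpq, ← Category.assoc] at h2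
    have h3 := (inAttr_iff_le_ker (U j) j.2 (hV j) _).1 h2
    rw [Over.comp_left, Scheme.Hom.ker_comp] at h3
    change I j ≤ (K.subschemeι.ker).map q.left at h3
    rw [K.ker_subschemeι, Scheme.IdealSheafData.le_map_iff_comap_le] at h3
    exact h3
  have hc : ∀ i j, (I i).comap (pullback.fst (g i) (g j)) = (I j).comap (pullback.snd (g i) (g j)) := by
    intro i j
    let R : Over S := Over.mk (pullback.fst (g i) (g j) ≫ g i ≫ X.hom)
    let p : R ⟶ Over.mk (g i ≫ X.hom) := Over.homMk (pullback.fst (g i) (g j)) rfl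
    let q : R ⟶ Over.mk (g j ≫ X.hom) := Over.homMk (pullback.snd (g i) (g j)) (pullback.condition_assoc _).symm
    have hpq : p ≫ hom i = q ≫ hom j := Over.OverMorphism.ext pullback.condition
    exact le_antisymm (hle j i R q p hpq.symm) (hle i j R p q hpq)
  haveI : ∀ i, IsOpenImmersion (g i) := fun i => (U i).isOpen
  have hqc : QuasiCompactCover (PreZeroHypercover.mk ι Q g : PreZeroHypercover X.left) :=
    ⟨fun {V} hV => IsCompactOpenCovered.of_isOpenMap (fun i => (g i).continuous)
      (fun i => (g i).isOpenEmbedding.isOpenMap) (fun x _ => hsurj x) V.2 hV.isCompact⟩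
  obtain ⟨J, hJ, -⟩ := IdealDescFpqc.existsUnique g I hqc (fun _ => inferInstance) hc
  refine ⟨J, fun T x => ?_⟩
  choose W hxW using fun p : T.left => hsurj (x.left.base p)
  let O : T.left → T.left.Opens := fun p => x.left ⁻¹ᵁ (g (W p)).opensRange
  let 𝒱 : T.left.OpenCover := Scheme.Cover.mkOfCovers T.left (fun p => (O p).toScheme) (fun p => (O p).ι)
    (fun p => ⟨p, ⟨p, hxW p⟩, rfl⟩) (fun p => inferInstance)
  have hfac : ∀ p, ∃ t : Over.mk ((O p).ι ≫ T.hom) ⟶ Over.mk (g (W p) ≫ X.hom),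
      t ≫ hom (W p) = (Over.homMk (O p).ι rfl : Over.mk ((O p).ι ≫ T.hom) ⟶ T) ≫ x := by
    intro p
    have hr : Set.range ((O p).ι ≫ x.left).base ⊆ Set.range (g (W p)).base := by
      rintro _ ⟨z, rfl⟩
      exact z.2
    let l := IsOpenImmersion.lift (g (W p)) _ hr
    have hl : l ≫ g (W p) = (O p).ι ≫ x.left := IsOpenImmersion.lift_fac _ _ _
    exact ⟨Over.homMk l (by change l ≫ g (W p) ≫ X.hom = _; rw [reassoc_of% hl, Over.w x]; rfl),
      Over.OverMorphism.ext hl⟩
  choose t ht using hfac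
  have key : ∀ p, (InAttr a N (t p ≫ hom (W p)) ↔ J ≤ ((O p).ι ≫ x.left).ker) := fun p => by
    rw [inAttr_iff_le_ker (U (W p)) (W p).2 (hV (W p)),
      show (O p).ι ≫ x.left = (t p).left ≫ g (W p) from congrArg CommaMorphism.left (ht p).symm,
      Scheme.Hom.ker_comp, Scheme.IdealSheafData.le_map_iff_comap_le, hJ]
  constructor
  · intro h
    let L := J.subschemeι
    have hloc : ∀ p, ∃ w : (O p).toScheme ⟶ J.subscheme, w ≫ J.subschemeι = (O p).ι ≫ x.left := fun p => by
      have h1 : J ≤ ((O p).ι ≫ x.left).ker := (key p).1 (by rw [ht]; exact h.comp _)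
      exact ⟨IsClosedImmersion.lift J.subschemeι _ (by rwa [J.ker_subschemeι]), IsClosedImmersion.lift_fac _ _ _⟩
    choose w hw using hloc
    let l : T.left ⟶ J.subscheme := 𝒱.glueMorphisms w fun i j => by
      rw [← cancel_mono J.subschemeι, Category.assoc, Category.assoc, hw, hw]
      exact pullback.condition_assoc _
    have hl : l ≫ J.subschemeι = x.left := 𝒱.hom_ext _ _ fun i => by
      rw [Scheme.Cover.ι_glueMorphisms_assoc]
      exact hw i
    rw [← hl]
    conv_lhs => rw [← J.ker_subschemeι]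
    exact Scheme.Hom.le_ker_comp _ _
  · intro h
    refine InAttr.of_cover x 𝒱 fun p => ?_
    have h1 : J ≤ ((O p).ι ≫ x.left).ker := h.trans (Scheme.Hom.le_ker_comp _ _)
    have h2 := (key p).2 h1
    rw [ht] at h2
    exact h2

end GrothLib.MagnetGr
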