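import Groth.Agent.Lib.MagnetGr25.StableOpen
import Groth.Agent.Lib.MagnetGr25.Affine
import Groth.Agent.Lib.MagnetGr25.Unram
import Groth.Agent.Lib.MagnetGr25.Global

/-! # Attractors inside an affine chart -/

set_option autoImplicit false
set_option backward.isDefEq.respectTransparency false
set_option backward.isDefEq.respectTransparency.types false

universe u

open CategoryTheory CategoryTheory.Limits MonoidalCategory CartesianMonoidalCategory AlgebraicGeometry Opposite

noncomputable section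

namespace GrothLib.MagnetGr

open Magnet MagnetPts

variable {S : Scheme.{u}} {M : Type} [AddCommGroup M] {X : Over S} {a : MonAct (AMonS S M) X} (U : Chart a)
  {L : AddSubmonoid M} {E : Type u} [CommRing E] {s : Spec (CommRingCat.of E) ⟶ S}

/-- The family takes its values in the chart. -/
def InChart (φ : (attr a L).obj (op (Over.mk s))) : Prop :=
  Set.range (ev φ.1 (cst : E →+* MA E L) uni) ⊆ Set.range U.inc

theorem Chart.orb_range {E' : Type u} [CommRing E'] (x : Spec (CommRingCat.of E') ⟶ X.left)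
    (g : Multiplicative M →* E') (hx : Set.range x ⊆ (U.inc.opensRange : Set X.left)) :
    Set.range (orb a x g) ⊆ (U.inc.opensRange : Set X.left) := by
  obtain ⟨φ, rfl⟩ := U.exists_pt x hx
  rw [U.orb_pt]
  rintro _ ⟨p, rfl⟩
  exact ⟨_, (Scheme.Hom.comp_apply _ _ _).symm⟩

theorem InChart.of_eq {φ : (attr a L).obj (op (Over.mk s))} (θ : U.A →+* MA E L)
    (h : ev φ.1 (cst : E →+* MA E L) uni = Spec.map (CommRingCat.ofHom θ) ≫ U.inc) : InChart U φ := by
  rw [InChart, h]
  rintro _ ⟨p, rfl⟩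
  exact ⟨_, (Scheme.Hom.comp_apply _ _ _).symm⟩

/-- A family in the chart is determined by its value at the unit. -/
theorem InChart.ext {φ φ' : (attr a L).obj (op (Over.mk s))} (h : InChart U φ) (h' : InChart U φ')
    (e : ((attrToX a L).app (op (Over.mk s)) φ).left = ((attrToX a L).app (op (Over.mk s)) φ').left) : φ = φ' := by
  obtain ⟨θ, hθ⟩ := U.exists_pt _ h
  obtain ⟨θ', hθ'⟩ := U.exists_pt _ h'
  have key : ∀ (ψ : (attr a L).obj (op (Over.mk s))) (η : U.A →+* MA E L),
      Spec.map (CommRingCat.ofHom η) ≫ U.inc = ev ψ.1 (cst : E →+* MA E L) uni →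
      (incN E L).comp η =
        (evC ((cst : E →+* MA E M).comp ((evC (RingHom.id E) (1 : Multiplicative L →* E)).comp η)) uni).comp U.δ := by
    intro ψ η hη
    have hev : ev ψ.1 (cst : E →+* MA E M) (1 : Multiplicative L →* MA E M) =
        Spec.map (CommRingCat.ofHom ((cst : E →+* MA E M).comp
          ((evC (RingHom.id E) (1 : Multiplicative L →* E)).comp η))) ≫ U.inc := by
      rw [ev_eq_univ, ← hη, specMap_comp]
      rw [← RingHom.comp_assoc, comp_evC, RingHom.comp_id, MonoidHom.comp_one]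
    have horb := orb_ev a ψ.2 (cst : E →+* MA E M) (1 : Multiplicative L →* MA E M) uni
    rw [hev, U.orb_pt, _root_.mul_one, ev_eq_univ, ← hη, specMap_comp, ← evC_incN, evC_cst_uni, RingHom.id_comp] at horb
    exact (specMap_inj U.inc horb).symm
  have hx : (evC (RingHom.id E) (1 : Multiplicative L →* E)).comp θ =
      (evC (RingHom.id E) (1 : Multiplicative L →* E)).comp θ' := by
    refine specMap_inj U.inc ?_
    rw [← specMap_comp, ← specMap_comp, hθ, hθ', ← ev_eq_univ, ← ev_eq_univ, ← attrToX_app, ← attrToX_app, e]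
  have hθθ : θ = θ' := RingHom.ext fun z => incN_injective E L (by
    have h₁ := RingHom.congr_fun (key φ θ hθ) z
    have h₂ := RingHom.congr_fun (key φ' θ' hθ') z
    simp only [RingHom.comp_apply] at h₁ h₂
    rw [h₁, hx, ← h₂])
  refine Subtype.ext (hom_ext_univ ?_)
  rw [← hθ, ← hθ', hθθ]

/-- Restriction keeps families in the chart. -/
theorem InChart.map {φ : (attr a L).obj (op (Over.mk s))} (h : InChart U φ) {E' : Type u} [CommRing E']
    {s' : Spec (CommRingCat.of E') ⟶ S} (i : E →+* E') (hi : Spec.map (CommRingCat.ofHom i) ≫ s = s') :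
    InChart U ((attr a L).map (Over.homMk (Spec.map (CommRingCat.ofHom i)) hi : Over.mk s' ⟶ Over.mk s).op φ) := by
  subst hi
  have e : ev ((attr a L).map (toT s i).op φ).1 (cst : E' →+* MA E' L) uni =
      Spec.map (CommRingCat.ofHom (evC ((cst : E' →+* MA E' L).comp i) uni)) ≫ ev φ.1 (cst : E →+* MA E L) uni :=
    (ev_base i φ.1 _ _).trans (ev_eq_univ _ _ _)
  change Set.range (ev ((attr a L).map (toT s i).op φ).1 (cst : E' →+* MA E' L) uni) ⊆ _
  rw [e]
  rintro _ ⟨p, rfl⟩
  rw [Scheme.Hom.comp_apply]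
  exact h ⟨_, rfl⟩

/-- A family whose limit is in the chart is in the chart. -/
theorem InChart.of_limit (φ : (attr a L).obj (op (Over.mk s)))
    (h : Set.range ((attrToX a (unitFace L)).app (op (Over.mk s))
      ((attrFace a (isFace_unitFace L)).app (op (Over.mk s)) φ)).left ⊆ Set.range U.inc) : InChart U φ := by
  have h' := range_subset_of_limit' (O := U.inc.opensRange) (fun x g hx => U.orb_range x g hx) φ h
  rintro _ ⟨p, rfl⟩
  refine h' ?_
  rw [ev, Over.comp_left, Scheme.Hom.comp_apply]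
  exact ⟨_, rfl⟩

/-- The value at the limit point. -/
theorem attrToX_face {F : AddSubmonoid M} (hF : IsFace L F) (φ : (attr a L).obj (op (Over.mk s))) :
    ((attrToX a F).app (op (Over.mk s)) ((attrFace a hF).app (op (Over.mk s)) φ)).left =
      ev φ.1 (RingHom.id E) (extChar hF (1 : Multiplicative F →* E)) := by
  rw [attrToX_app, attrFace_app_coe, ev_face]

section Iso

variable {W₀ : S.Opens} (hW₀ : IsAffineOpen W₀) (hU : Set.range (U.inc ≫ X.hom).base ⊆ (W₀ : Set S))
  {Z : Over S} (e : (attr a L).RepresentableBy Z)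

/-- The structure map of the closed subscheme of the chart. -/
abbrev strQ (L : AddSubmonoid M) : Spec (CommRingCat.of (U.A ⧸ U.attrIdeal L)) ⟶ S :=
  Spec.map (CommRingCat.ofHom (Ideal.Quotient.mk (U.attrIdeal L))) ≫ U.inc ≫ X.hom

include hW₀ hU in
/-- The tautological family on the closed subscheme of the chart. -/
theorem exists_taut (L : AddSubmonoid M) :
    ∃ φ : (attr a L).obj (op (Over.mk (strQ U L))), ev φ.1 (cst : U.A ⧸ U.attrIdeal L →+* MA (U.A ⧸ U.attrIdeal L) L) uni =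
      Spec.map (CommRingCat.ofHom (U.theta (Ideal.Quotient.mk (U.attrIdeal L)) (Ideal.mk_ker).ge)) ≫ U.inc :=
  exists_attr_theta U hW₀ hU _ rfl _

variable (φ₀ : (attr a L).obj (op (Over.mk (strQ U L))))
  (hφ₀ : ev φ₀.1 (cst : U.A ⧸ U.attrIdeal L →+* MA (U.A ⧸ U.attrIdeal L) L) uni =
    Spec.map (CommRingCat.ofHom (U.theta (Ideal.Quotient.mk (U.attrIdeal L)) (Ideal.mk_ker).ge)) ≫ U.inc)

include hφ₀ in
theorem attrToX_taut :
    ((attrToX a L).app (op (Over.mk (strQ U L))) φ₀).left = quot U ≫ U.inc := by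
  rw [attrToX_app, ev_eq_univ, hφ₀, specMap_comp, U.theta_one]

include hφ₀ in
/-- An open of a representing scheme made of the families in the chart is the closed subscheme. -/
theorem exists_iso_chart (W : Z.left.Opens)
    (hW₂ : ∀ {E : Type u} [CommRing E] {s : Spec (CommRingCat.of E) ⟶ S} (t : Over.mk s ⟶ Z),
      Set.range t.left ⊆ (W : Set Z.left) → InChart U (e.homEquiv t))
    (hW₁ : Set.range (e.homEquiv.symm φ₀).left ⊆ (W : Set Z.left)) :
    ∃ ψ : Spec (CommRingCat.of (U.A ⧸ U.attrIdeal L)) ≅ (W : Scheme.{u}),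
      ψ.hom ≫ W.ι = (e.homEquiv.symm φ₀).left := by
  let Wt : Scheme.{u} := W
  let x : Z ⟶ X := (attrToX a L).app (op Z) (e.homEquiv (𝟙 Z))
  have hx : ∀ {T : Over S} (t : T ⟶ Z), (attrToX a L).app (op T) (e.homEquiv t) = t ≫ x := by
    intro T t
    rw [← attrToX_map, ← e.homEquiv_comp, Category.comp_id]
  let t₀ : Over.mk (strQ U L) ⟶ Z := e.homEquiv.symm φ₀
  have ht₀ : t₀.left ≫ x.left = quot U ≫ U.inc := by
    rw [← Over.comp_left, ← hx, show e.homEquiv t₀ = φ₀ from Equiv.apply_symm_apply _ _,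
      attrToX_taut U φ₀ hφ₀]
  have hq := quot_inc_mono (N := L) U
  let 𝒱 := Wt.affineCover
  have hloc : ∀ i, ∃ w : 𝒱.X i ⟶ Spec (CommRingCat.of (U.A ⧸ U.attrIdeal L)),
      w ≫ quot U ≫ U.inc = 𝒱.f i ≫ W.ι ≫ x.left ∧ w ≫ t₀.left = 𝒱.f i ≫ W.ι := by
    intro i
    obtain ⟨R, hR⟩ : ∃ R : CommRingCat.{u}, 𝒱.X i = Spec R := ⟨_, rfl⟩
    let f : Spec R ⟶ Wt := eqToHom hR.symm ≫ 𝒱.f i
    suffices ∃ w : Spec R ⟶ Spec (CommRingCat.of (U.A ⧸ U.attrIdeal L)),
        w ≫ quot U ≫ U.inc = f ≫ W.ι ≫ x.left ∧ w ≫ t₀.left = f ≫ W.ι by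
      obtain ⟨w, h₁, h₂⟩ := this
      exact ⟨eqToHom hR ≫ w, by rw [Category.assoc, h₁]; simp [f], by rw [Category.assoc, h₂]; simp [f]⟩
    let s : Spec (CommRingCat.of R) ⟶ S := (f ≫ W.ι) ≫ Z.hom
    let t : Over.mk s ⟶ Z := Over.homMk (f ≫ W.ι) rfl
    have hin : InChart U (e.homEquiv t) := hW₂ t (by
      rintro _ ⟨p, rfl⟩
      change (f ≫ W.ι) p ∈ W
      rw [Scheme.Hom.comp_apply]
      exact (f p).2)
    obtain ⟨θ, hθ⟩ := U.exists_pt _ hin
    obtain ⟨ξ, hξ, hle⟩ := le_ker_of_attr U (e.homEquiv t) θ hθ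
    let w : Spec (CommRingCat.of R) ⟶ Spec (CommRingCat.of (U.A ⧸ U.attrIdeal L)) :=
      Spec.map (CommRingCat.ofHom (Ideal.Quotient.lift (U.attrIdeal L) ξ fun y hy => hle hy))
    have hw : w ≫ quot U ≫ U.inc = t.left ≫ x.left := by
      rw [← Over.comp_left, ← hx, hξ, specMap_comp, Ideal.Quotient.lift_comp_mk]
    refine ⟨w, hw.trans (Category.assoc _ _ _), ?_⟩
    have hs : w ≫ strQ U L = s := by
      have := congrArg (· ≫ X.hom) hw
      simp only [Category.assoc] at this
      exact this.trans (congrArg (t.left ≫ ·) (Over.w x))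
    let v : Over.mk s ⟶ Over.mk (strQ U L) := Over.homMk w hs
    have he : e.homEquiv (v ≫ t₀) = e.homEquiv t := by
      refine InChart.ext U ?_ hin ?_
      · rw [e.homEquiv_comp, show e.homEquiv t₀ = φ₀ from Equiv.apply_symm_apply _ _]
        exact InChart.map U (InChart.of_eq U _ hφ₀) _ hs
      · rw [hx, hx, Over.comp_left, Over.comp_left, Over.comp_left, Category.assoc]
        exact (congrArg (w ≫ ·) ht₀).trans hw
    exact congrArg CommaMorphism.left (e.homEquiv.injective he)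
  choose w hw hw' using hloc
  let ψ' : Wt ⟶ Spec (CommRingCat.of (U.A ⧸ U.attrIdeal L)) := 𝒱.glueMorphisms w fun i j => by
    rw [← cancel_mono (quot U ≫ U.inc), Category.assoc, Category.assoc, hw, hw]
    exact pullback.condition_assoc _
  have hψ' : ψ' ≫ quot U ≫ U.inc = W.ι ≫ x.left := 𝒱.hom_ext _ _ fun i => by
    rw [Scheme.Cover.ι_glueMorphisms_assoc, hw]
  have hψ'' : ψ' ≫ t₀.left = W.ι := 𝒱.hom_ext _ _ fun i => by
    rw [Scheme.Cover.ι_glueMorphisms_assoc, hw']
  let ψ : Spec (CommRingCat.of (U.A ⧸ U.attrIdeal L)) ⟶ Wt :=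
    IsOpenImmersion.lift W.ι t₀.left (by rw [Scheme.Opens.range_ι]; exact hW₁)
  have hψ : ψ ≫ W.ι = t₀.left := IsOpenImmersion.lift_fac _ _ _
  refine ⟨⟨ψ, ψ', ?_, ?_⟩, hψ⟩
  · rw [← cancel_mono (quot U ≫ U.inc), Category.assoc, hψ', Category.id_comp, reassoc_of% hψ, ht₀]
  · rw [← cancel_mono W.ι, Category.assoc, hψ, hψ'', Category.id_comp]

end Iso

end GrothLib.MagnetGr
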