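import Groth.Agent.Lib.MagnetGr25.Glue
import Groth.Agent.Lib.MagnetGr25.Union
import Mathlib.AlgebraicGeometry.Morphisms.Etale

/-! # Equivariant étale morphisms and face projections, for magnets of finite type and their unions -/

set_option autoImplicit false
set_option backward.isDefEq.respectTransparency false
set_option backward.isDefEq.respectTransparency.types false

universe u

open CategoryTheory MonoidalCategory CartesianMonoidalCategory AlgebraicGeometry Opposite

noncomputable section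

namespace GrothLib.MagnetGr

open Magnet MagnetPts

variable {S : Scheme.{u}} {M : Type} [AddCommGroup M] [AddGroup.FG M] {X U : Over S}
  {aX : MonAct (AMonS S M) X} {aU : MonAct (AMonS S M) U} {f : U ⟶ X}

theorem isFace_inf {N F K : AddSubmonoid M} (hF : IsFace N F) (hK : K ≤ N) : IsFace K (F ⊓ K) where
  le := inf_le_right
  mem_of_add_mem x hx y hy h := by
    obtain ⟨h1, h2⟩ := hF.mem_of_add_mem x (hK hx) y (hK hy) h.1
    exact ⟨⟨h1, hx⟩, h2, hy⟩

theorem extChar_incl {N F K : AddSubmonoid M} (hF : IsFace N F) (hK : K ≤ N) {E : Type u} [CommRing E]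
    (χ : Multiplicative F →* E) :
    (extChar hF χ).comp (AddMonoidHom.toMultiplicative (AddSubmonoid.inclusion hK)) =
      extChar (isFace_inf hF hK) (χ.comp (AddMonoidHom.toMultiplicative (AddSubmonoid.inclusion inf_le_left))) := by
  refine MonoidHom.ext fun k => ?_
  by_cases h : (k.toAdd : M) ∈ F
  · rw [extChar_of_mem (isFace_inf hF hK) _ k ⟨h, k.toAdd.2⟩, MonoidHom.comp_apply, extChar_of_mem hF _ _ h]
    rfl
  · rw [extChar_of_not_mem (isFace_inf hF hK) _ k (fun e => h e.1), MonoidHom.comp_apply,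
      extChar_of_not_mem hF _ _ h]

theorem face_map {Y : Over S} {N F K : AddSubmonoid M} (hF : IsFace N F) (hK : K ≤ N) {E : Type u} [CommRing E]
    {s : Spec (CommRingCat.of E) ⟶ S} (γ : AMonS S K ⊗ Over.mk s ⟶ Y) :
    (AMonS.faceMap S hF ▷ Over.mk s) ≫ (AMonS.map S (AddSubmonoid.inclusion hK) ▷ Over.mk s) ≫ γ =
      (AMonS.map S (AddSubmonoid.inclusion (inf_le_left : F ⊓ K ≤ F)) ▷ Over.mk s) ≫
        (AMonS.faceMap S (isFace_inf hF hK) ▷ Over.mk s) ≫ γ :=
  hom_ext_univ (by rw [ev_face, ev_map, ev_map, ev_face, extChar_incl])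

theorem map_map {Y : Over S} {N L K : AddSubmonoid M} (h : N ≤ L) (h' : L ≤ K) {E : Type u} [CommRing E]
    {s : Spec (CommRingCat.of E) ⟶ S} (γ : AMonS S N ⊗ Over.mk s ⟶ Y) :
    (AMonS.map S (AddSubmonoid.inclusion h') ▷ Over.mk s) ≫ (AMonS.map S (AddSubmonoid.inclusion h) ▷ Over.mk s) ≫ γ =
      (AMonS.map S (AddSubmonoid.inclusion (h.trans h')) ▷ Over.mk s) ≫ γ :=
  hom_ext_univ (by rw [ev_map, ev_map, ev_map]; rfl)

/-- The face square of an equivariant étale morphism is cartesian. -/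
theorem isPullback_face [Etale f.left] [IsAffineHom U.hom] (hf : MonAct.IsEquivariant aU aX f) {N Q : AddSubmonoid M}
    (hQ : IsFace N Q) (h : N.FG ∨ (IsSeparated X.hom ∧ LocallyOfFinitePresentation X.hom)) :
    IsPullback (MonAct.eqvHom.postcomp (subAct S M N) f hf) (attrFace aU hQ) (attrFace aX hQ)
      (MonAct.eqvHom.postcomp (subAct S M Q) f hf) := by
  classical
  rcases h with hN | ⟨_, _⟩
  · obtain ⟨d, hd⟩ := exists_weight hN hQ
    exact isPullback_of_goodBase hQ hf (hinj_of_weight hQ hd) (hsurj_of_weight hQ hf hd)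
  have : LocallyOfFinitePresentation U.hom := by rw [← Over.w f]; infer_instance
  let J := ULift.{u} {s : Finset M // (↑s : Set M) ⊆ N}
  have : IsDirected J (· ≤ ·) := ⟨fun i k =>
    ⟨⟨⟨i.down.1 ∪ k.down.1, by rw [Finset.coe_union]; exact Set.union_subset i.down.2 k.down.2⟩⟩,
      (Finset.subset_union_left : i.down.1 ⊆ i.down.1 ∪ k.down.1),
      (Finset.subset_union_right : k.down.1 ⊆ i.down.1 ∪ k.down.1)⟩⟩
  have : Nonempty J := ⟨⟨⟨∅, by simp⟩⟩⟩
  let K : J → AddSubmonoid M := fun i => AddSubmonoid.closure (↑i.down.1 : Set M)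
  have hK : Monotone K := fun i k h => AddSubmonoid.closure_mono (Finset.coe_subset.2 h)
  have hKN : ∀ i, K i ≤ N := fun i => AddSubmonoid.closure_le.2 i.down.2
  have hKmem : ∀ x ∈ N, ∃ i, x ∈ K i := fun x hx =>
    ⟨⟨⟨{x}, by simpa using hx⟩⟩, AddSubmonoid.subset_closure (by simp)⟩
  have hQK : Monotone fun i => Q ⊓ K i := fun i k h => inf_le_inf_left Q (hK h)
  have hQmem : ∀ x ∈ Q, ∃ i, x ∈ Q ⊓ K i := fun x hx => by
    obtain ⟨i, hi⟩ := hKmem x (hQ.le hx)
    exact ⟨i, hx, hi⟩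
  have hfg : ∀ i, (K i).FG := fun i => ⟨i.down.1, rfl⟩
  choose d hd using fun i => exists_weight (hfg i) (isFace_inf hQ (hKN i))
  refine isPullback_of_goodBase hQ hf ?_ ?_
  · rintro W hW x y h₁ h₂
    obtain ⟨E, _, s, W₀, hW₀, hs, rfl⟩ := hW
    obtain ⟨i, x', hx⟩ := exists_attr_of_union hK hKN hKmem x
    obtain ⟨k, y', hy⟩ := exists_attr_of_union hK hKN hKmem y
    obtain ⟨l, hil, hkl⟩ := exists_ge_ge i k
    let xl := (attrMap aU (hK hil)).app (op (Over.mk s)) x'
    let yl := (attrMap aU (hK hkl)).app (op (Over.mk s)) y'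
    have hxl : x.1 = (AMonS.map S (AddSubmonoid.inclusion (hKN l)) ▷ Over.mk s) ≫ xl.1 := by
      rw [← hx, attrMap_app_val, attrMap_app_val, map_map]
    have hyl : y.1 = (AMonS.map S (AddSubmonoid.inclusion (hKN l)) ▷ Over.mk s) ≫ yl.1 := by
      rw [← hy, attrMap_app_val, attrMap_app_val, map_map]
    suffices xl = yl from Subtype.ext (by rw [hxl, hyl, this])
    refine hinj_of_weight (f := f) (isFace_inf hQ (hKN l)) (hd l) _ ⟨E, inferInstance, s, W₀, hW₀, hs, rfl⟩ xl yl ?_ ?_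
    · refine MagnetSep.ext_map (S := S) (AddSubmonoid.inclusion (hKN l)) (AddSubmonoid.inclusion_injective _) _ _ ?_
      rw [← Category.assoc, ← Category.assoc, ← hxl, ← hyl, h₁]
    · refine MagnetSep.ext_map (S := S) (AddSubmonoid.inclusion (inf_le_left : Q ⊓ K l ≤ Q))
        (AddSubmonoid.inclusion_injective _) _ _ ?_
      rw [← face_map hQ (hKN l), ← face_map hQ (hKN l), ← hxl, ← hyl, h₂]
  · rintro W hW φ ψ h
    obtain ⟨E, _, s, W₀, hW₀, hs, rfl⟩ := hW
    obtain ⟨i, φ', hφ⟩ := exists_attr_of_union hK hKN hKmem φ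
    obtain ⟨k, ψ', hψ⟩ := exists_attr_of_union hQK (fun i => inf_le_left) hQmem ψ
    obtain ⟨l, hil, hkl⟩ := exists_ge_ge i k
    let φl := (attrMap aX (hK hil)).app (op (Over.mk s)) φ'
    let ψl := (attrMap aU (hQK hkl)).app (op (Over.mk s)) ψ'
    have hφl : φ.1 = (AMonS.map S (AddSubmonoid.inclusion (hKN l)) ▷ Over.mk s) ≫ φl.1 := by
      rw [← hφ, attrMap_app_val, attrMap_app_val, map_map]
    have hψl : ψ.1 = (AMonS.map S (AddSubmonoid.inclusion (inf_le_left : Q ⊓ K l ≤ Q)) ▷ Over.mk s) ≫ ψl.1 := by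
      rw [← hψ, attrMap_app_val, attrMap_app_val, map_map]
    obtain ⟨Ψ, hΨ₁, hΨ₂⟩ := hsurj_of_weight (isFace_inf hQ (hKN l)) hf (hd l) _
      ⟨E, inferInstance, s, W₀, hW₀, hs, rfl⟩ φl ψl (by
        refine MagnetSep.ext_map (S := S) (AddSubmonoid.inclusion (inf_le_left : Q ⊓ K l ≤ Q))
          (AddSubmonoid.inclusion_injective _) _ _ ?_
        rw [← face_map hQ (hKN l), ← hφl, ← h, hψl, Category.assoc])
    refine ⟨(attrMap aU (hKN l)).app (op (Over.mk s)) Ψ, ?_, ?_⟩
    · rw [attrMap_app_val, Category.assoc, hΨ₁, hφl]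
    · rw [attrMap_app_val, face_map hQ (hKN l), hΨ₂, hψl]

end GrothLib.MagnetGr
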