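import Groth.Agent.Lib.MagnetGr25.Fixed
import Groth.Agent.S18295
import Groth.Agent.S18299
import Groth.Agent.S18302
import Groth.Agent.Lib.FpqcRep.Glue
import Groth.Agent.Lib.EtSite.FpqcDescent
import Groth.Agent.Lib.MagnetSheaf25.Basic
import Mathlib.AlgebraicGeometry.Morphisms.Etale

/-! # Representability of attractors along a fixed point reflecting affine atlas -/

set_option autoImplicit false
set_option backward.isDefEq.respectTransparency false
set_option backward.isDefEq.respectTransparency.types false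

universe u

open CategoryTheory CategoryTheory.Limits MonoidalCategory CartesianMonoidalCategory AlgebraicGeometry Opposite

noncomputable section

namespace GrothLib.MagnetGr

open Magnet

variable {S : Scheme.{u}}

section Rep

variable {M : Type} [AddCommMonoid M] {X U : Over S} {a : MonAct (AMonS S M) X} {aU : MonAct (AMonS S M) U}
  {N F : AddSubmonoid M} (hFN : IsFace N F) {f : U ⟶ X} (hf : MonAct.IsEquivariant aU a f)
  {Zs : Over S} (es : (attr a F).RepresentableBy Zs)

/-- An `S`-scheme under an `H`-scheme. -/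
abbrev hatO (T : Over Zs.left) : Over S := Over.mk (T.hom ≫ Zs.hom)

/-- The induced morphism. -/
abbrev hatM {T T' : Over Zs.left} (k : T' ⟶ T) : hatO T' ⟶ hatO T :=
  Over.homMk k.left (by change k.left ≫ T.hom ≫ Zs.hom = T'.hom ≫ Zs.hom; rw [← Category.assoc, Over.w k])

/-- The tautological point. -/
abbrev ptH (T : Over Zs.left) : hatO T ⟶ Zs := Over.homMk T.hom rfl

theorem hatM_ptH {T T' : Over Zs.left} (k : T' ⟶ T) : hatM k ≫ ptH T = ptH T' :=
  Over.OverMorphism.ext (Over.w k)

theorem map_comp' (G : (Over S)ᵒᵖ ⥤ Type u) {A B C : Over S} (f : B ⟶ A) (g : C ⟶ B) (h : C ⟶ A) (e : g ≫ f = h)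
    (x : G.obj (op A)) : G.map g.op (G.map f.op x) = G.map h.op x := by
  subst e
  rw [op_comp, Functor.map_comp, ConcreteCategory.comp_apply]

/-- The attractor over the representing scheme of the face attractor. -/
def attrOver : RepLocal.Psh.{u} Zs.left where
  obj T := {φ : (attr a N).obj (op (hatO T)) // (attrFace a hFN).app (op (hatO T)) φ = es.homEquiv (ptH T)}
  map {T T'} k φ := ⟨(attr a N).map (hatM k).op φ.1, by
    rw [NatTrans.naturality_apply, φ.2, ← es.homEquiv_comp, hatM_ptH]⟩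
  map_id T φ := Subtype.ext (by
    change (attr a N).map (hatM (𝟙 T)).op φ.1 = φ.1
    rw [show hatM (𝟙 T) = 𝟙 _ from Over.OverMorphism.ext rfl, op_id, CategoryTheory.Functor.map_id]
    rfl)
  map_comp {T T' T''} g k φ := Subtype.ext (map_comp' _ (hatM g) (hatM k) _ (Over.OverMorphism.ext rfl) φ.1).symm

theorem attrOver_map_val {T T' : Over Zs.left} (k : T' ⟶ T) (φ : (attrOver hFN es).obj T) :
    ((attrOver hFN es).map k φ).1 = (attr a N).map (hatM k).op φ.1 := rfl

/-- Descent of sections along a flat surjection of finite presentation. -/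
theorem existsUnique_desc_attr (b : MonAct (AMonS S M) X) (L : AddSubmonoid M) {A B : Over S} (c : A ⟶ B)
    [Flat c.left] [Surjective c.left] [LocallyOfFinitePresentation c.left] (x : (attr b L).obj (op A))
    (hx : ∀ (R : Over S) (p q : R ⟶ A), p ≫ c = q ≫ c → (attr b L).map p.op x = (attr b L).map q.op x) :
    ∃! y : (attr b L).obj (op B), (attr b L).map c.op y = x := by
  haveI : Scheme.fppfPrecoverage.toGrothendieck.Subcanonical :=
    inferInstanceAs Scheme.fppfTopology.{u}.Subcanonical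
  have hsh : Presieve.IsSheaf (Scheme.fppfTopology.over S) (attr b L) :=
    GrothLib.MagnetSheaf.isSheaf_eqvHom _ (GrothLib.MagnetSheaf.isSheaf_yoneda_over _ X) _ _
  have hmem : Sieve.ofArrows (fun _ : PUnit.{u + 1} => A) (fun _ => c) ∈ (Scheme.fppfTopology.over S) B := by
    rw [GrothendieckTopology.mem_over_iff]
    refine GrothendieckTopology.superset_covering _ ?_
      (Precoverage.generate_mem_toGrothendieck (Scheme.Hom.singleton_mem_fppfPrecoverage c.left))
    rw [Sieve.generate_le_iff]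
    intro Z s hs
    cases hs
    refine (Sieve.overEquiv_iff _ _).2 ?_
    exact (Sieve.mem_ofArrows_iff _ _ _).2 ⟨⟨⟩, Over.homMk (𝟙 _) (by exact (Category.id_comp _).trans (Over.w c).symm),
      Over.OverMorphism.ext (Category.id_comp _).symm⟩
  have h1 : Presieve.IsSheafFor (attr b L) (Presieve.ofArrows (fun _ : PUnit.{u + 1} => A) (fun _ => c)) := by
    rw [Presieve.isSheafFor_iff_generate]
    exact hsh _ hmem
  obtain ⟨y, hy, hu⟩ := (Presieve.isSheafFor_arrows_iff _ _).1 h1 (fun _ => x) (fun i j R p q e => hx R p q e)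
  exact ⟨y, hy ⟨⟩, fun y' hy' => hu y' fun _ => hy'⟩

variable [Etale f.left] [Surjective f.left] {ZU : Over S} (eU : (attr aU F).RepresentableBy ZU)
  {WN : Over S} (eW : (attr aU N).RepresentableBy WN)

/-- The map of representing objects of the face attractors. -/
def u0 : ZU ⟶ Zs :=
  es.homEquiv.symm ((MonAct.eqvHom.postcomp (subAct S M F) f hf).app (op ZU) (eU.homEquiv (𝟙 ZU)))

/-- The face projection of the atlas. -/
def q0 : WN ⟶ ZU := eU.homEquiv.symm ((attrFace aU hFN).app (op WN) (eW.homEquiv (𝟙 WN)))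

theorem homEquiv_comp_u0 {T : Over S} (z : T ⟶ ZU) :
    es.homEquiv (z ≫ u0 hf es eU) = (MonAct.eqvHom.postcomp (subAct S M F) f hf).app (op T) (eU.homEquiv z) := by
  rw [es.homEquiv_comp, u0, Equiv.apply_symm_apply, eU.homEquiv_eq z, ← NatTrans.naturality_apply]

theorem homEquiv_comp_q0 {T : Over S} (w : T ⟶ WN) :
    eU.homEquiv (w ≫ q0 hFN eU eW) = (attrFace aU hFN).app (op T) (eW.homEquiv w) := by
  rw [eU.homEquiv_comp, q0, Equiv.apply_symm_apply, eW.homEquiv_eq w, ← NatTrans.naturality_apply]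

theorem isGlued_attrOver [Etale (u0 hf es eU).left] [Surjective (u0 hf es eU).left] :
    FpqcRep.IsGlued (fun _ : PUnit.{u + 1} => (u0 hf es eU).left) (attrOver hFN es) := by
  intro T x hx
  let u : ∀ _ : PUnit.{u + 1}, ZU.left ⟶ Zs.left := fun _ => (u0 hf es eU).left
  let c : hatO (FpqcRep.pb u T ⟨⟩) ⟶ hatO T := hatM (FpqcRep.pι u T ⟨⟩)
  haveI : LocallyOfFinitePresentation (u0 hf es eU).left := inferInstance
  haveI : Flat c.left := MorphismProperty.pullback_snd (P := @Flat) (u ⟨⟩) T.hom inferInstance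
  haveI : Surjective c.left := MorphismProperty.pullback_snd (P := @Surjective) (u ⟨⟩) T.hom inferInstance
  haveI : LocallyOfFinitePresentation c.left :=
    MorphismProperty.pullback_snd (P := @LocallyOfFinitePresentation) (u ⟨⟩) T.hom inferInstance
  have hc : ∀ (R : Over S) (p q : R ⟶ hatO (FpqcRep.pb u T ⟨⟩)), p ≫ c = q ≫ c →
      (attr a N).map p.op (x ⟨⟩).1 = (attr a N).map q.op (x ⟨⟩).1 := by
    intro R p q hpq
    let R₀ : Over Zs.left := Over.mk (p.left ≫ (FpqcRep.pb u T ⟨⟩).hom)
    have e := congrArg CommaMorphism.left hpq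
    let p₀ : R₀ ⟶ FpqcRep.pb u T ⟨⟩ := Over.homMk p.left rfl
    let q₀ : R₀ ⟶ FpqcRep.pb u T ⟨⟩ := Over.homMk q.left (by
      change q.left ≫ (FpqcRep.pb u T ⟨⟩).hom = p.left ≫ (FpqcRep.pb u T ⟨⟩).hom
      rw [← Over.w (FpqcRep.pι u T ⟨⟩)]
      exact (Category.assoc _ _ _).symm.trans ((congrArg (· ≫ T.hom) e.symm).trans (Category.assoc _ _ _)))
    have key := congrArg Subtype.val (hx ⟨⟩ ⟨⟩ R₀ p₀ q₀ (Over.OverMorphism.ext e))
    rw [attrOver_map_val, attrOver_map_val] at key
    let k : R ⟶ hatO R₀ := Over.homMk (𝟙 _) (by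
      exact (Category.id_comp _).trans ((Category.assoc _ _ _).trans (Over.w p)))
    have key' := congrArg ((attr a N).map k.op) key
    rwa [map_comp' _ (hatM p₀) k p (Over.OverMorphism.ext (Category.id_comp _)),
      map_comp' _ (hatM q₀) k q (Over.OverMorphism.ext (Category.id_comp _))] at key'
  obtain ⟨y, hy, hu⟩ := existsUnique_desc_attr a N c (x ⟨⟩).1 hc
  have hyF : (attrFace a hFN).app (op (hatO T)) y = es.homEquiv (ptH T) := by
    have hcF : (attr a F).map c.op ((attrFace a hFN).app (op (hatO T)) y) =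
        (attr a F).map c.op (es.homEquiv (ptH T)) := by
      rw [← NatTrans.naturality_apply, hy, (x ⟨⟩).2, ← es.homEquiv_comp, hatM_ptH]
    exact (existsUnique_desc_attr a F c _ fun R p q e => by
      rw [map_comp' _ c p _ rfl, map_comp' _ c q _ e.symm]).unique hcF rfl
  refine ⟨⟨y, hyF⟩, fun i => Subtype.ext hy, fun y' hy' => Subtype.ext (hu y'.1 ?_)⟩
  exact congrArg Subtype.val (hy' ⟨⟩)

theorem exists_localRep [IsAffineHom U.hom]
    (hsq : IsPullback (MonAct.eqvHom.postcomp (subAct S M N) f hf) (attrFace aU hFN) (attrFace a hFN)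
      (MonAct.eqvHom.postcomp (subAct S M F) f hf)) :
    ∃ L : FpqcRep.LocalRep (fun _ : PUnit.{u + 1} => (u0 hf es eU).left) (attrOver hFN es),
      IsAffineHom (q0 hFN eU eW).left → ∀ i, IsAffineHom (L.q i) := by
  let W : Over Zs.left := Over.mk ((q0 hFN eU eW).left ≫ (u0 hf es eU).left)
  let k : hatO W ⟶ WN := Over.homMk (𝟙 WN.left) (by
    change 𝟙 WN.left ≫ WN.hom = ((q0 hFN eU eW).left ≫ (u0 hf es eU).left) ≫ Zs.hom
    rw [Category.id_comp, Category.assoc, Over.w (u0 hf es eU), Over.w (q0 hFN eU eW)])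
  let φ₀ : (attr a N).obj (op WN) := (MonAct.eqvHom.postcomp (subAct S M N) f hf).app (op WN) (eW.homEquiv (𝟙 WN))
  have hφ₀ : (attrFace a hFN).app (op WN) φ₀ = es.homEquiv (q0 hFN eU eW ≫ u0 hf es eU) := by
    rw [homEquiv_comp_u0, show q0 hFN eU eW = 𝟙 WN ≫ q0 hFN eU eW from (Category.id_comp _).symm, homEquiv_comp_q0]
    exact Subtype.ext (Category.assoc _ _ _).symm
  refine ⟨{ W := fun _ => W
            q := fun _ => (q0 hFN eU eW).left
            hq := fun _ => rfl
            n := fun _ => ⟨(attr a N).map k.op φ₀, by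
              rw [NatTrans.naturality_apply, hφ₀, ← es.homEquiv_comp]
              exact congrArg _ (Over.OverMorphism.ext (Category.id_comp _))⟩
            existsUnique := ?_ }, fun h i => h⟩
  rintro - T z hz x
  let zz : hatO T ⟶ ZU := Over.homMk z (by
    change z ≫ ZU.hom = T.hom ≫ Zs.hom
    rw [← hz, Category.assoc, Over.w (u0 hf es eU)])
  have hzz : zz ≫ u0 hf es eU = ptH T := Over.OverMorphism.ext hz
  have hxz : (attrFace a hFN).app (op (hatO T)) x.1 =
      (MonAct.eqvHom.postcomp (subAct S M F) f hf).app (op (hatO T)) (eU.homEquiv zz) := by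
    rw [x.2, ← hzz, homEquiv_comp_u0]
  have hpb := (Limits.Types.isPullback_iff _ _ _ _).1 (hsq.map ((evaluation _ _).obj (op (hatO T))))
  obtain ⟨ψ, hψ₁, hψ₂⟩ := hpb.2.2 x.1 (eU.homEquiv zz) hxz
  change (MonAct.eqvHom.postcomp (subAct S M N) f hf).app (op (hatO T)) ψ = x.1 at hψ₁
  change (attrFace aU hFN).app (op (hatO T)) ψ = eU.homEquiv zz at hψ₂
  have hnat : ∀ w : hatO T ⟶ WN, (attr a N).map w.op φ₀ =
      (MonAct.eqvHom.postcomp (subAct S M N) f hf).app (op (hatO T)) (eW.homEquiv w) := fun w => by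
    rw [eW.homEquiv_eq w, NatTrans.naturality_apply]
  have hw : (eW.homEquiv.symm ψ) ≫ q0 hFN eU eW = zz := by
    apply eU.homEquiv.injective
    rw [homEquiv_comp_q0, Equiv.apply_symm_apply, hψ₂]
  have hwl : (eW.homEquiv.symm ψ).left ≫ (q0 hFN eU eW).left = z := congrArg CommaMorphism.left hw
  refine ⟨Over.homMk (eW.homEquiv.symm ψ).left ?_, ⟨hwl, ?_⟩, ?_⟩
  · change (eW.homEquiv.symm ψ).left ≫ (q0 hFN eU eW).left ≫ (u0 hf es eU).left = T.hom
    rw [reassoc_of% hwl, hz]
  · refine Subtype.ext ?_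
    rw [attrOver_map_val]
    refine (map_comp' _ k _ (eW.homEquiv.symm ψ) (Over.OverMorphism.ext (Category.comp_id _)) φ₀).trans ?_
    rw [hnat, Equiv.apply_symm_apply, hψ₁]
  · intro b ⟨hb₁, hb₂⟩
    let w : hatO T ⟶ WN := hatM b ≫ k
    have hwz : w ≫ q0 hFN eU eW = zz := Over.OverMorphism.ext (by
      change (b.left ≫ 𝟙 WN.left) ≫ (q0 hFN eU eW).left = z
      exact (congrArg (· ≫ (q0 hFN eU eW).left) (Category.comp_id b.left)).trans hb₁)
    have e : eW.homEquiv w = ψ := by
      refine hpb.2.1 _ _ ⟨?_, ?_⟩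
      · change (MonAct.eqvHom.postcomp (subAct S M N) f hf).app (op (hatO T)) (eW.homEquiv w) =
          (MonAct.eqvHom.postcomp (subAct S M N) f hf).app (op (hatO T)) ψ
        rw [← hnat, hψ₁]
        exact (map_comp' _ k (hatM b) w rfl φ₀).symm.trans (congrArg Subtype.val hb₂)
      · change (attrFace aU hFN).app (op (hatO T)) (eW.homEquiv w) = (attrFace aU hFN).app (op (hatO T)) ψ
        rw [← homEquiv_comp_q0 hFN eU eW, hwz, hψ₂]
    refine Over.OverMorphism.ext ?_
    have := congrArg CommaMorphism.left (congrArg eW.homEquiv.symm e)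
    rw [Equiv.symm_apply_apply] at this
    exact (Category.comp_id _).symm.trans this

/-- Representability of the attractor with affine face projection. -/
theorem exists_rep_attr [IsAffineHom U.hom] [Etale (u0 hf es eU).left] [Surjective (u0 hf es eU).left]
    (hq : IsAffineHom (q0 hFN eU eW).left)
    (hsq : IsPullback (MonAct.eqvHom.postcomp (subAct S M N) f hf) (attrFace aU hFN) (attrFace a hFN)
      (MonAct.eqvHom.postcomp (subAct S M F) f hf)) :
    ∃ (ZN : Over S) (eN : (attr a N).RepresentableBy ZN) (j : ZN ⟶ Zs), IsAffineHom j.left ∧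
      ∀ (T : Over S) (z : T ⟶ ZN), es.homEquiv (z ≫ j) = (attrFace a hFN).app (op T) (eN.homEquiv z) := by
  obtain ⟨L, hL⟩ := exists_localRep hFN hf es eU eW hsq
  haveI : LocallyOfFinitePresentation (u0 hf es eU).left := inferInstance
  have hu : Presieve.ofArrows (fun _ : PUnit.{u + 1} => ZU.left) (fun _ => (u0 hf es eU).left) ∈
      Scheme.fpqcPrecoverage Zs.left := by
    rw [Presieve.ofArrows_pUnit]
    exact Scheme.fppfPrecoverage_le_fpqcPrecoverage _ (Scheme.Hom.singleton_mem_fppfPrecoverage _)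
  have hgl := isGlued_attrOver hFN hf es eU
  obtain ⟨P, m, hm⟩ := L.exists_representing hu hgl (hL hq)
  have hP : IsAffineHom P.hom := L.property hu @IsAffineHom hm (hL hq)
  let ZN : Over S := hatO P
  let j : ZN ⟶ Zs := ptH P
  have hface : ∀ (T : Over S) (z : T ⟶ ZN),
      (attrFace a hFN).app (op T) ((attr a N).map z.op m.1) = es.homEquiv (z ≫ j) := fun T z => by
    rw [NatTrans.naturality_apply, m.2, ← es.homEquiv_comp]
  have hbij : ∀ T : Over S, Function.Bijective fun z : T ⟶ ZN => (attr a N).map z.op m.1 := by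
    intro T
    constructor
    · intro z z' h
      have hj : z ≫ j = z' ≫ j := es.homEquiv.injective ((hface T z).symm.trans ((congrArg _ h).trans (hface T z')))
      let T₀ : Over Zs.left := Over.mk (z ≫ j).left
      let b : T₀ ⟶ P := Over.homMk z.left rfl
      let b' : T₀ ⟶ P := Over.homMk z'.left (congrArg CommaMorphism.left hj).symm
      let k : hatO T₀ ⟶ T := Over.homMk (𝟙 _) (by exact (Category.id_comp _).trans (Over.w (z ≫ j)).symm)
      have hbb : b = b' := by
        refine (hm T₀ ((attrOver hFN es).map b m)).unique rfl (Subtype.ext ?_)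
        rw [attrOver_map_val, attrOver_map_val]
        rw [← map_comp' _ z k (hatM b) (Over.OverMorphism.ext (Category.id_comp _)) m.1,
          ← map_comp' _ z' k (hatM b') (Over.OverMorphism.ext (Category.id_comp _)) m.1]
        exact congrArg _ h.symm
      exact Over.OverMorphism.ext (congrArg (fun q : T₀ ⟶ P => q.left) hbb)
    · intro φ
      let x := es.homEquiv.symm ((attrFace a hFN).app (op T) φ)
      let T₀ : Over Zs.left := Over.mk x.left
      let k : hatO T₀ ⟶ T := Over.homMk (𝟙 _) (by exact (Category.id_comp _).trans (Over.w x).symm)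
      let k' : T ⟶ hatO T₀ := Over.homMk (𝟙 _) (by exact (Category.id_comp _).trans (Over.w x))
      have hk : (attrFace a hFN).app (op (hatO T₀)) ((attr a N).map k.op φ) = es.homEquiv (ptH T₀) := by
        rw [NatTrans.naturality_apply, ← Equiv.apply_symm_apply es.homEquiv ((attrFace a hFN).app (op T) φ),
          ← es.homEquiv_comp]
        exact congrArg _ (Over.OverMorphism.ext (Category.id_comp _))
      obtain ⟨b, hb, -⟩ := hm T₀ ⟨_, hk⟩
      have hb' : (attr a N).map (hatM b).op m.1 = (attr a N).map k.op φ := congrArg Subtype.val hb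
      refine ⟨k' ≫ hatM b, ?_⟩
      change (attr a N).map (k' ≫ hatM b).op m.1 = φ
      rw [← map_comp' _ (hatM b) k' _ rfl m.1, hb', map_comp' _ k k' (𝟙 T) (Over.OverMorphism.ext (Category.id_comp _)),
        op_id, CategoryTheory.Functor.map_id]
      rfl
  refine ⟨ZN, ⟨fun {T} => Equiv.ofBijective _ (hbij T), fun {T T'} g z => ?_⟩, j, hP, fun T z => (hface T z).symm⟩
  exact (map_comp' _ z g _ rfl m.1).symm

end Rep

section Main

variable {M : Type} [AddCommGroup M] [AddGroup.FG M] {X U : Over S}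
  (a : MonAct (AMonS S M) X) (b : MonAct (AMonS S M) U)

/-- Attractors along a fixed point reflecting affine atlas. -/
theorem exists_rep_attr_unitFace [IsAffineHom U.hom] (f : U ⟶ X) [Etale f.left] [Surjective f.left]
    (hf : MonAct.IsEquivariant b a f)
    (N : AddSubmonoid M) (Z : AddSubgroup M) (hZ : Z.toAddSubmonoid = unitFace N)
    (hfZ : MonAct.IsEquivariant (b.restrict (AMonS.map S (QuotientAddGroup.mk' Z)))
      (a.restrict (AMonS.map S (QuotientAddGroup.mk' Z))) f)
    (hfpr : IsPullback (MonAct.fixedPsh.map f hfZ)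
      (MonAct.fixedPshι (b.restrict (AMonS.map S (QuotientAddGroup.mk' Z))))
      (MonAct.fixedPshι (a.restrict (AMonS.map S (QuotientAddGroup.mk' Z))))
      (yoneda.map f))
    (h : N.FG ∨ (IsSeparated X.hom ∧ LocallyOfFinitePresentation X.hom)) :
    ∃ (ZN Zs : Over S) (eN : (attr a N).RepresentableBy ZN)
      (es : (attr a (unitFace N)).RepresentableBy Zs) (j : ZN ⟶ Zs),
      IsAffineHom j.left ∧ ∀ (T : Over S) (z : T ⟶ ZN),
        es.homEquiv (z ≫ j) = (attrFace a (isFace_unitFace N)).app (op T) (eN.homEquiv z) := by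
  let qZ := AMonS.map S (QuotientAddGroup.mk' Z)
  have hN : unitFace N = (⊥ : AddSubmonoid (M ⧸ Z)).comap (QuotientAddGroup.mk' Z) := by
    rw [← hZ]
    ext m
    simp
  obtain ⟨εX, hεX⟩ := exists_attr_iso_fixed a (QuotientAddGroup.mk' Z) (unitFace N) hN
  obtain ⟨εU, hεU⟩ := exists_attr_iso_fixed b (QuotientAddGroup.mk' Z) (unitFace N) hN
  obtain ⟨ZU, iU, eU, hiU, heU⟩ := Groth.Agent.S18295.result S M (unitFace N) U b
  obtain ⟨WN, iW, eW, hiW, heW⟩ := Groth.Agent.S18295.result S M N U b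
  have heU' : ∀ (T : Over S) (z : T ⟶ ZU), (MonAct.fixedPshι (b.restrict qZ)).app (op T)
      ((εU.app (op T)).hom (eU.homEquiv z)) = z ≫ iU := fun T z => by
    rw [← heU T z, ← hεU]
    rfl
  obtain ⟨Zs, iS, e', hiS, he'⟩ := Groth.Agent.S18299.result S (M ⧸ Z) X U (MonAct.toAction (G := Red.DS S (M ⧸ Z)) (a.restrict qZ))
    (MonAct.toAction (G := Red.DS S (M ⧸ Z)) (b.restrict qZ)) f hfZ hfpr ⟨ZU, iU, eU.ofIso εU, hiU, heU'⟩
  let es : (attr a (unitFace N)).RepresentableBy Zs := Functor.RepresentableBy.ofIso e' εX.symm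
  have hes : ∀ (T : Over S) (x : T ⟶ Zs), (attrToX a (unitFace N)).app (op T) (es.homEquiv x) = x ≫ iS := by
    intro T x
    rw [← he' T x, ← hεX]
    exact congrArg ((MonAct.fixedPshι (a.restrict qZ)).app (op T)) (εX.inv_hom_id_app_apply (op T) (e'.homEquiv x))
  have hfix : ∀ (T : Over S) (x : T ⟶ Zs), MagnetFix.IsFixed (a.restrict qZ) (x ≫ iS) := fun T x => by
    rw [← he' T x]
    exact (e'.homEquiv x).2
  haveI : Mono iU := GrothLib.MagnetClosed.mono_of_left iU
  haveI : Mono iS := GrothLib.MagnetClosed.mono_of_left iS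
  let u := u0 hf es eU
  have hw : ∀ (T : Over S) (z : T ⟶ ZU), (z ≫ u) ≫ iS = (z ≫ iU) ≫ f := fun T z => by
    rw [← hes, homEquiv_comp_u0, ← heU T z]
    exact (Category.assoc (lift (toUnit T ≫ MonObj.one) (𝟙 T)) (eU.homEquiv z).1 f).symm
  have hw₁ : u ≫ iS = iU ≫ f := by simpa using hw ZU (𝟙 ZU)
  have hsqZ : IsPullback u iU iS f := by
    have hlift : ∀ c : PullbackCone iS f, ∃ z : c.pt ⟶ ZU, z ≫ iU = c.snd ∧ z ≫ u = c.fst := by
      intro c
      obtain ⟨y, hy₁, hy₂⟩ := ((Limits.Types.isPullback_iff _ _ _ _).1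
        (hfpr.map ((evaluation _ _).obj (op c.pt)))).2.2 ⟨c.fst ≫ iS, hfix c.pt c.fst⟩ c.snd c.condition
      change (MonAct.fixedPshι (b.restrict qZ)).app (op c.pt) y = c.snd at hy₂
      let z : c.pt ⟶ ZU := eU.homEquiv.symm ((εU.app (op c.pt)).inv y)
      have hz : z ≫ iU = c.snd := by
        rw [← heU' c.pt z, Equiv.apply_symm_apply, Iso.inv_hom_id_apply]
        exact hy₂
      refine ⟨z, hz, (cancel_mono iS).1 ?_⟩
      rw [hw, hz]
      exact c.condition.symm
    choose z hz₁ hz₂ using hlift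
    exact IsPullback.of_isLimit' ⟨hw₁⟩ (PullbackCone.IsLimit.mk _ z hz₂ hz₁
      (fun c m _ hm => (cancel_mono iU).1 (hm.trans (hz₁ c).symm)))
  have hsqL : IsPullback u.left iU.left iS.left f.left := hsqZ.map (Over.forget S)
  haveI : Etale u.left := MorphismProperty.of_isPullback hsqL.flip ‹Etale f.left›
  haveI : Surjective u.left := MorphismProperty.of_isPullback hsqL.flip ‹Surjective f.left›
  haveI : IsAffineHom WN.hom := by rw [← Over.w iW]; infer_instance
  haveI : IsAffineHom ZU.hom := by rw [← Over.w iU]; infer_instance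
  have hq : IsAffineHom (q0 (isFace_unitFace N) eU eW).left := by
    haveI : IsAffineHom ((q0 (isFace_unitFace N) eU eW).left ≫ ZU.hom) := by rw [Over.w]; infer_instance
    exact IsAffineHom.of_comp _ ZU.hom
  obtain ⟨ZN, eN, j, hj, hjf⟩ := exists_rep_attr (isFace_unitFace N) hf es eU eW hq
    (isPullback_face hf (isFace_unitFace N) h)
  exact ⟨ZN, Zs, eN, es, j, hj, hjf⟩

end Main

end GrothLib.MagnetGr
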