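import Groth.Agent.Lib.MagnetGr25.Attr
import Groth.Agent.Lib.MagnetGr25.Alg
import Groth.Agent.Lib.MagnetGr25.Chart
import Groth.Agent.Lib.Misc6.AffinePushout

/-! # Averaging lifts along square-zero surjections over a diagonalizable group -/

set_option autoImplicit false
set_option backward.isDefEq.respectTransparency false
set_option backward.isDefEq.respectTransparency.types false

universe u

open CategoryTheory CategoryTheory.Limits AlgebraicGeometry Opposite

noncomputable section

namespace GrothLib.MagnetGr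

open Magnet MagnetPts

section Ring

variable {R Rb : Type u} [CommRing R] [CommRing Rb] (q : R →+* Rb) (M : Type) [AddCommMonoid M]

/-- Elements of `R[M]` which are constant modulo the kernel. -/
def avSub : Subring (MA R M) :=
  ((cst : Rb →+* MA Rb M).range).comap (MonoidAlgebra.mapRingHom (Multiplicative M) q)

variable {q M}

theorem coeff_of_mem {y : MA R M} (hy : y ∈ avSub q M) :
    MonoidAlgebra.mapRingHom (Multiplicative M) q y = cst (q (y.coeff 1)) ∧
      ∀ m : Multiplicative M, m ≠ 1 → q (y.coeff m) = 0 := by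
  obtain ⟨r, hr⟩ := hy
  have h : ∀ m : Multiplicative M, q (y.coeff m) = (MonoidAlgebra.single 1 r : MA Rb M).coeff m := fun m => by
    rw [← MonoidAlgebra.coeff_mapRingHom, ← hr]
    rfl
  refine ⟨?_, fun m hm => ?_⟩
  · rw [h 1, MonoidAlgebra.coeff_single, Finsupp.single_eq_same, ← hr]
  · rw [h m, MonoidAlgebra.coeff_single, Finsupp.single_eq_of_ne hm]

variable (hJ : RingHom.ker q ^ 2 = ⊥)

include hJ in
theorem mul_eq_zero_of_ker {a b : R} (ha : q a = 0) (hb : q b = 0) : a * b = 0 := by
  have h : a * b ∈ RingHom.ker q ^ 2 := by rw [pow_two]; exact Ideal.mul_mem_mul ha hb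
  rwa [hJ, Ideal.mem_bot] at h

include hJ in
theorem coeff_one_mul {y z : MA R M} (hy : y ∈ avSub q M) (hz : z ∈ avSub q M) :
    (y * z).coeff 1 = y.coeff 1 * z.coeff 1 := by
  classical
  have hy' := (coeff_of_mem hy).2
  have hz' := (coeff_of_mem hz).2
  rw [MonoidAlgebra.coeff_mul]
  refine (Finsupp.sum_eq_single 1 (fun m _ hm => Finset.sum_eq_zero fun k _ => ?_) (fun _ => by simp)).trans ?_
  · dsimp only
    split_ifs with h
    · refine mul_eq_zero_of_ker hJ (hy' m hm) (hz' k fun hk => hm ?_)
      rwa [hk, _root_.mul_one] at h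
    · rfl
  · refine (Finsupp.sum_eq_single 1 (fun k _ hk => by simp [hk]) (by simp)).trans ?_
    simp

variable (q M) in
/-- The constant coefficient. -/
def avπ : avSub q M →+* R where
  toFun y := (y : MA R M).coeff 1
  map_one' := by simp [MonoidAlgebra.one_def]
  map_zero' := by simp
  map_add' y z := by simp
  map_mul' y z := coeff_one_mul hJ y.2 z.2

/-- The reduction of a constant coefficient. -/
def avF : avSub q M →+* Rb := q.comp (avπ q M hJ)

theorem avSquare (hq : Function.Surjective q) :
    Misc6.FibreSquare (avF (M := M) hJ) (avSub q M).subtype (cst : Rb →+* MA Rb M)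
      (MonoidAlgebra.mapRingHom (Multiplicative M) q) := by
  refine ⟨RingHom.ext fun y => (coeff_of_mem y.2).1.symm, fun x _ h => Subtype.ext h, fun b y h => ?_, fun z => ?_⟩
  · refine ⟨⟨y, b, h⟩, ?_, rfl⟩
    change q (y.coeff 1) = b
    rw [← MonoidAlgebra.coeff_mapRingHom, ← h]
    simp [MonoidAlgebra.singleOneRingHom]
  · induction z using MonoidAlgebra.induction_linear with
    | zero => exact ⟨0, map_zero _⟩
    | add a b ha hb =>
      obtain ⟨a', rfl⟩ := ha
      obtain ⟨b', rfl⟩ := hb
      exact ⟨a' + b', map_add _ _ _⟩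
    | single m r =>
      obtain ⟨r', rfl⟩ := hq r
      exact ⟨MonoidAlgebra.single m r', MonoidAlgebra.mapRingHom_single _ _ _⟩

theorem cst_mem_avSub (r : R) : (cst r : MA R M) ∈ avSub q M :=
  ⟨q r, by simp [MonoidAlgebra.singleOneRingHom]⟩

variable (q M) in
/-- Constants, as elements which are constant modulo the kernel. -/
def avσ : R →+* avSub q M := (cst : R →+* MA R M).codRestrict _ (cst_mem_avSub (q := q))

theorem avπ_comp_avσ : (avπ q M hJ).comp (avσ q M) = RingHom.id R :=
  RingHom.ext fun r => by simp [avπ, avσ, MonoidAlgebra.singleOneRingHom]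

end Ring

section Desc

variable {R Rb : Type u} [CommRing R] [CommRing Rb] {q : R →+* Rb} (hq : Function.Surjective q)
  (hJ : RingHom.ker q ^ 2 = ⊥) {M : Type} [AddCommMonoid M] {Z : Scheme.{u}}

include hq hJ in
theorem exists_avDesc (Ψ : Spec (CommRingCat.of (MA R M)) ⟶ Z) (x : Spec (CommRingCat.of Rb) ⟶ Z)
    (h : Spec.map (CommRingCat.ofHom (MonoidAlgebra.mapRingHom (Multiplicative M) q)) ≫ Ψ =
      Spec.map (CommRingCat.ofHom (cst : Rb →+* MA Rb M)) ≫ x) :
    ∃ D : Spec (CommRingCat.of (avSub q M)) ⟶ Z,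
      Spec.map (CommRingCat.ofHom (avSub q M).subtype) ≫ D = Ψ ∧
      Spec.map (CommRingCat.ofHom (avF (M := M) hJ)) ≫ D = x := by
  have hpo := Misc6.isPushout_spec (f := CommRingCat.ofHom (avF (M := M) hJ))
    (g := CommRingCat.ofHom (avSub q M).subtype) (q := CommRingCat.ofHom (cst : Rb →+* MA Rb M))
    (p := CommRingCat.ofHom (MonoidAlgebra.mapRingHom (Multiplicative M) q)) (avSquare hJ hq)
  exact ⟨hpo.desc Ψ x h, hpo.inl_desc _ _ _, hpo.inr_desc _ _ _⟩

include hq hJ in
theorem avDesc_ext {D D' : Spec (CommRingCat.of (avSub q M)) ⟶ Z}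
    (h₁ : Spec.map (CommRingCat.ofHom (avSub q M).subtype) ≫ D = Spec.map (CommRingCat.ofHom (avSub q M).subtype) ≫ D')
    (h₂ : Spec.map (CommRingCat.ofHom (avF (M := M) hJ)) ≫ D = Spec.map (CommRingCat.ofHom (avF (M := M) hJ)) ≫ D') :
    D = D' :=
  (Misc6.isPushout_spec (f := CommRingCat.ofHom (avF (M := M) hJ))
    (g := CommRingCat.ofHom (avSub q M).subtype) (q := CommRingCat.ofHom (cst : Rb →+* MA Rb M))
    (p := CommRingCat.ofHom (MonoidAlgebra.mapRingHom (Multiplicative M) q)) (avSquare hJ hq)).hom_ext h₁ h₂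

end Desc

section Main

variable {S : Scheme.{u}} {M : Type} [AddCommGroup M] {X : Over S} (a : MonAct (AMonS S M) X)
  {A : Type u} [CommRing A] {N : AddSubmonoid M} {B : Type u} [CommRing B] {q : MA A N →+* B}

variable (N A) in
/-- Translation of the universal point by the universal group element. -/
def twist : MA A N →+* MA (MA A N) M :=
  evC ((cst : MA A N →+* MA (MA A N) M).comp cst)
    (res N (uni : Multiplicative M →* MA (MA A N) M) *
      (((cst : MA A N →+* MA (MA A N) M) : MA A N →* MA (MA A N) M).comp uni))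

/-- The translates of a lift, moved back. -/
def transl (L : Spec (CommRingCat.of (MA A N)) ⟶ X.left) : Spec (CommRingCat.of (MA (MA A N) M)) ⟶ X.left :=
  orb a (Spec.map (CommRingCat.ofHom (twist A N)) ≫ L)
    ((uni : Multiplicative M →* MA (MA A N) M).comp (invMonoidHom : Multiplicative M →* Multiplicative M))

theorem inv_mul_uni {C : Type u} [CommRing C] :
    ((uni : Multiplicative M →* MA C M).comp (invMonoidHom : Multiplicative M →* Multiplicative M)) * uni = 1 :=
  MonoidHom.ext fun m => by
    change uni m⁻¹ * uni m = 1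
    rw [← map_mul, inv_mul_cancel, map_one]

variable (hq : Function.Surjective q) (hJ : RingHom.ker q ^ 2 = ⊥)
  (hst : ∀ {E : Type u} [CommRing E] (j : A →+* E) (χ : Multiplicative N →* E) (g : Multiplicative M →* E),
    RingHom.ker q ≤ RingHom.ker (evC j χ) → RingHom.ker q ≤ RingHom.ker (evC j (res N g * χ)))
  (L : Spec (CommRingCat.of (MA A N)) ⟶ X.left)
  (heq : ∀ {E : Type u} [CommRing E] (j : A →+* E) (χ : Multiplicative N →* E) (g : Multiplicative M →* E),
    RingHom.ker q ≤ RingHom.ker (evC j χ) →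
      orb a (Spec.map (CommRingCat.ofHom (evC j χ)) ≫ L) g =
        Spec.map (CommRingCat.ofHom (evC j (res N g * χ))) ≫ L)

include hq hJ hst heq in
/-- A lift which is equivariant modulo a stable square-zero ideal can be made equivariant. -/
theorem exists_average :
    ∃ L' : Spec (CommRingCat.of (MA A N)) ⟶ X.left,
      Spec.map (CommRingCat.ofHom q) ≫ L' = Spec.map (CommRingCat.ofHom q) ≫ L ∧
      (∀ {E : Type u} [CommRing E] (j : A →+* E) (χ : Multiplicative N →* E) (g : Multiplicative M →* E),
        orb a (Spec.map (CommRingCat.ofHom (evC j χ)) ≫ L') g =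
          Spec.map (CommRingCat.ofHom (evC j (res N g * χ))) ≫ L') ∧
      ∀ {Y : Scheme.{u}} (f : X.left ⟶ Y) (y : Spec (CommRingCat.of (MA A N)) ⟶ Y), L ≫ f = y →
        transl a L ≫ f = Spec.map (CommRingCat.ofHom (cst : MA A N →+* MA (MA A N) M)) ≫ y → L' ≫ f = y := by
  let x : Spec (CommRingCat.of B) ⟶ X.left := Spec.map (CommRingCat.ofHom q) ≫ L
  have hmod : Spec.map (CommRingCat.ofHom (MonoidAlgebra.mapRingHom (Multiplicative M) q)) ≫ transl a L =
      Spec.map (CommRingCat.ofHom (cst : B →+* MA B M)) ≫ x := by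
    let j₀ : A →+* MA B M := ((cst : B →+* MA B M).comp q).comp cst
    let χ₀ : Multiplicative N →* MA B M :=
      ((((cst : B →+* MA B M).comp q : MA A N →+* MA B M)) : MA A N →* MA B M).comp uni
    have h₀ : evC j₀ χ₀ = (cst : B →+* MA B M).comp q := hom_ext_cst (evC_comp_cst _ _) (evC_comp_uni _ _)
    have hk : RingHom.ker q ≤ RingHom.ker (evC j₀ χ₀) := fun r hr => by
      rw [RingHom.mem_ker, h₀, RingHom.comp_apply, RingHom.mem_ker.1 hr, map_zero]
    have h₁ : (MonoidAlgebra.mapRingHom (Multiplicative M) q).comp (twist A N) =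
        evC j₀ (res N (uni : Multiplicative M →* MA B M) * χ₀) := by
      rw [twist, comp_evC]
      congr 1
      · exact RingHom.ext fun r => by simp [j₀, MonoidAlgebra.singleOneRingHom]
      · exact MonoidHom.ext fun m => by simp [χ₀, MonoidAlgebra.singleOneRingHom]
    have h₂ : ((MonoidAlgebra.mapRingHom (Multiplicative M) q : MA (MA A N) M →+* MA B M) :
        MA (MA A N) M →* MA B M).comp
          ((uni : Multiplicative M →* MA (MA A N) M).comp (invMonoidHom : Multiplicative M →* Multiplicative M)) =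
        (uni : Multiplicative M →* MA B M).comp (invMonoidHom : Multiplicative M →* Multiplicative M) :=
      MonoidHom.ext fun m => by simp
    rw [transl, comp_orb, specMap_comp, h₁, h₂, ← heq j₀ χ₀ uni hk, orb_orb, inv_mul_uni, orb_one, h₀]
    exact (specMap_comp _ _ _).symm
  obtain ⟨D, hD₁, hD₂⟩ := exists_avDesc hq hJ (transl a L) x hmod
  refine ⟨Spec.map (CommRingCat.ofHom (avπ q M hJ)) ≫ D, ?_, fun {E} _ j χ g => ?_, fun {Y} f y hLy hTy => ?_⟩
  · rw [specMap_comp]
    exact hD₂
  · let φ := evC j χ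
    let φ' := evC j (res N g * χ)
    let J' : Ideal E := (RingHom.ker q).map φ
    let q' := Ideal.Quotient.mk J'
    have hJ' : RingHom.ker q' ^ 2 = ⊥ := by
      rw [Ideal.mk_ker, ← Ideal.map_pow, hJ, Ideal.map_bot]
    have hk : RingHom.ker q ≤ RingHom.ker (q'.comp φ) := fun r hr =>
      RingHom.mem_ker.2 (Ideal.Quotient.eq_zero_iff_mem.2 (Ideal.mem_map_of_mem φ hr))
    have hφ : q'.comp φ = evC (q'.comp j) ((q' : E →* E ⧸ J').comp χ) := comp_evC _ _ _
    have hφ' : q'.comp φ' = evC (q'.comp j) (res N ((q' : E →* E ⧸ J').comp g) * (q' : E →* E ⧸ J').comp χ) := by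
      rw [comp_evC, MonoidHom.comp_mul]
      rfl
    have hk' : RingHom.ker q ≤ RingHom.ker (q'.comp φ') := by
      rw [hφ']
      exact hst _ _ _ (hφ ▸ hk)
    -- the translation of the group coordinate
    let gi : Multiplicative M →* E := g.comp (invMonoidHom : Multiplicative M →* Multiplicative M)
    have hgi : gi * g = 1 := MonoidHom.ext fun m => by
      change g m⁻¹ * g m = 1
      rw [← map_mul, inv_mul_cancel, map_one]
    let sh : MA E M →+* MA E M := evC cst (uni * ((cst : E →+* MA E M) : E →* MA E M).comp gi)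
    let Φ : MA (MA A N) M →+* MA E M := MonoidAlgebra.mapRingHom (Multiplicative M) φ
    let Φ' : MA (MA A N) M →+* MA E M := sh.comp (MonoidAlgebra.mapRingHom (Multiplicative M) φ')
    have hsh : ∀ (z : MA E M) (m : Multiplicative M), (sh z).coeff m = z.coeff m * gi m := by
      intro z m
      induction z using MonoidAlgebra.induction_linear with
      | zero => simp
      | add u v hu hv => simp [map_add, hu, hv, add_mul]
      | single k r =>
        classical
        change (evC cst (uni * ((cst : E →+* MA E M) : E →* MA E M).comp gi) (MonoidAlgebra.single k r)).coeff m = _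
        rw [evC_single]
        simp [MonoidAlgebra.singleOneRingHom, MonoidAlgebra.coeff_single, Finsupp.single_apply]
        split_ifs with h
        · rw [h]
        · rfl
    have hΦ : ∀ y ∈ avSub q M, Φ y ∈ avSub q' M := fun y hy => by
      obtain ⟨h₁, h₂⟩ := coeff_of_mem hy
      refine ⟨q' (φ (y.coeff 1)), ext_coeff fun m => ?_⟩
      rw [MonoidAlgebra.coeff_mapRingHom, MonoidAlgebra.coeff_mapRingHom]
      classical
      change (MonoidAlgebra.single 1 _ : MA _ M).coeff m = _
      rw [MonoidAlgebra.coeff_single, Finsupp.single_apply]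
      split_ifs with h
      · rw [h]
      · exact (RingHom.mem_ker.1 (hk (RingHom.mem_ker.2 (h₂ m (Ne.symm h))))).symm
    have hΦ' : ∀ y ∈ avSub q M, Φ' y ∈ avSub q' M := fun y hy => by
      obtain ⟨h₁, h₂⟩ := coeff_of_mem hy
      refine ⟨q' (φ' (y.coeff 1)), ext_coeff fun m => ?_⟩
      rw [MonoidAlgebra.coeff_mapRingHom, RingHom.comp_apply, hsh, MonoidAlgebra.coeff_mapRingHom, map_mul]
      classical
      change (MonoidAlgebra.single 1 _ : MA _ M).coeff m = _
      rw [MonoidAlgebra.coeff_single, Finsupp.single_apply]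
      split_ifs with h
      · rw [← h, MonoidHom.map_one gi, map_one q', _root_.mul_one]
      · rw [← RingHom.comp_apply q' φ', RingHom.mem_ker.1 (hk' (RingHom.mem_ker.2 (h₂ m (Ne.symm h)))), zero_mul]
    let P : avSub q M →+* avSub q' M := (Φ.comp (avSub q M).subtype).codRestrict _ fun y => hΦ y y.2
    let P' : avSub q M →+* avSub q' M := (Φ'.comp (avSub q M).subtype).codRestrict _ fun y => hΦ' y y.2
    have hP : (avπ q' M hJ').comp P = φ.comp (avπ q M hJ) := RingHom.ext fun y => by
      simp [P, Φ, avπ, RingHom.codRestrict]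
    have hP' : (avπ q' M hJ').comp P' = φ'.comp (avπ q M hJ) := RingHom.ext fun y => by
      change (Φ' (y : MA (MA A N) M)).coeff 1 = φ' ((y : MA (MA A N) M).coeff 1)
      rw [RingHom.comp_apply, hsh, MonoidAlgebra.coeff_mapRingHom, MonoidHom.map_one gi, _root_.mul_one]
    change orb a (Spec.map (CommRingCat.ofHom φ) ≫ Spec.map (CommRingCat.ofHom (avπ q M hJ)) ≫ D) g =
      Spec.map (CommRingCat.ofHom φ') ≫ Spec.map (CommRingCat.ofHom (avπ q M hJ)) ≫ D
    rw [specMap_comp, specMap_comp, ← hP, ← hP', ← specMap_comp, ← specMap_comp]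
    let gσ : Multiplicative M →* avSub q' M := ((avσ q' M : E →+* avSub q' M) : E →* avSub q' M).comp g
    have hgσ : ((avπ q' M hJ' : avSub q' M →+* E) : avSub q' M →* E).comp gσ = g :=
      MonoidHom.ext fun m => RingHom.congr_fun (avπ_comp_avσ (M := M) hJ') (g m)
    conv_lhs => rw [← hgσ, ← comp_orb]
    congr 1
    refine avDesc_ext Ideal.Quotient.mk_surjective hJ' ?_ ?_
    · have e₁ : ((avSub q' M).subtype).comp P = Φ.comp (avSub q M).subtype := rfl
      have e₂ : ((avSub q' M).subtype).comp P' = Φ'.comp (avSub q M).subtype := rfl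
      have e₃ : (((avSub q' M).subtype : avSub q' M →+* MA E M) : avSub q' M →* MA E M).comp gσ =
          ((cst : E →+* MA E M) : E →* MA E M).comp g := MonoidHom.ext fun m => rfl
      rw [comp_orb, specMap_comp, specMap_comp, e₁, e₂, e₃, ← specMap_comp, ← specMap_comp, hD₁]
      have t₁ : Φ.comp (twist A N) = evC ((cst : E →+* MA E M).comp j)
          (res N (uni : Multiplicative M →* MA E M) * ((cst : E →+* MA E M) : E →* MA E M).comp χ) := by
        rw [twist, comp_evC]
        congr 1
        · exact RingHom.ext fun r => by simp [Φ, φ, MonoidAlgebra.singleOneRingHom]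
        · exact MonoidHom.ext fun m => by simp [Φ, φ, MonoidAlgebra.singleOneRingHom]
      have t₂ : Φ'.comp (twist A N) = evC ((cst : E →+* MA E M).comp j)
          (res N (uni : Multiplicative M →* MA E M) * ((cst : E →+* MA E M) : E →* MA E M).comp χ) := by
        rw [twist, comp_evC]
        congr 1
        · exact RingHom.ext fun r => by simp [Φ', φ', sh, MonoidAlgebra.singleOneRingHom]
        · refine MonoidHom.ext fun m => ?_
          have h := DFunLike.congr_fun hgi (AddMonoidHom.toMultiplicative N.subtype m)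
          simp [Φ', φ', sh, MonoidAlgebra.singleOneRingHom]
          simp at h
          rw [mul_right_comm, _root_.mul_comm (g _), h, _root_.one_mul]
      have t₃ : ((cst : E →+* MA E M) : E →* MA E M).comp g *
            ((Φ : MA (MA A N) M →* MA E M).comp
              ((uni : Multiplicative M →* MA (MA A N) M).comp (invMonoidHom : Multiplicative M →* Multiplicative M))) =
          (Φ' : MA (MA A N) M →* MA E M).comp
            ((uni : Multiplicative M →* MA (MA A N) M).comp (invMonoidHom : Multiplicative M →* Multiplicative M)) := by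
        refine MonoidHom.ext fun m => ?_
        simp [Φ, Φ', sh, gi, MonoidAlgebra.singleOneRingHom]
      rw [transl, comp_orb, comp_orb, specMap_comp, specMap_comp, t₁, t₂, orb_orb, t₃]
    · have e₁ : (avF (M := M) hJ').comp P = (q'.comp φ).comp (avπ q M hJ) := by
        rw [avF, RingHom.comp_assoc, hP]; rfl
      have e₂ : (avF (M := M) hJ').comp P' = (q'.comp φ').comp (avπ q M hJ) := by
        rw [avF, RingHom.comp_assoc, hP']; rfl
      have e₃ : ((avF (M := M) hJ' : avSub q' M →+* E ⧸ J') : avSub q' M →* E ⧸ J').comp gσ =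
          (q' : E →* E ⧸ J').comp g :=
        MonoidHom.ext fun m => congrArg q' (RingHom.congr_fun (avπ_comp_avσ (M := M) hJ') (g m))
      obtain ⟨ψ, hψ⟩ : ∃ ψ : B →+* E ⧸ J', ψ.comp q = q'.comp φ :=
        ⟨RingHom.liftOfSurjective q hq ⟨_, hk⟩, RingHom.liftOfSurjective_comp _ _ _⟩
      obtain ⟨ψ', hψ'⟩ : ∃ ψ : B →+* E ⧸ J', ψ.comp q = q'.comp φ' :=
        ⟨RingHom.liftOfSurjective q hq ⟨_, hk'⟩, RingHom.liftOfSurjective_comp _ _ _⟩
      have hD₃ : ∀ (θ : MA A N →+* E ⧸ J') (θb : B →+* E ⧸ J'), θb.comp q = θ →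
          Spec.map (CommRingCat.ofHom (θ.comp (avπ q M hJ))) ≫ D = Spec.map (CommRingCat.ofHom θ) ≫ L := by
        intro θ θb hθ
        rw [← hθ, RingHom.comp_assoc, ← specMap_comp, show q.comp (avπ q M hJ) = avF (M := M) hJ from rfl, hD₂,
          specMap_comp]
      rw [comp_orb, specMap_comp, specMap_comp, e₁, e₂, e₃, hD₃ _ ψ hψ, hD₃ _ ψ' hψ', hφ, hφ']
      exact heq _ _ _ (hφ ▸ hk)
  · have hDf : D ≫ f = Spec.map (CommRingCat.ofHom (avσ q M)) ≫ y := by
      refine avDesc_ext hq hJ ?_ ?_
      · rw [reassoc_of% hD₁, hTy, specMap_comp]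
        rfl
      · rw [reassoc_of% hD₂]
        change (Spec.map (CommRingCat.ofHom q) ≫ L) ≫ f = _
        rw [Category.assoc, hLy, specMap_comp]
        congr 3
        exact RingHom.ext fun r => congrArg q (RingHom.congr_fun (avπ_comp_avσ (M := M) hJ) r).symm
    rw [Category.assoc, hDf, specMap_comp, avπ_comp_avσ]
    exact congrArg (· ≫ y) (Spec.map_id _) |>.trans (Category.id_comp y)

end Main

end GrothLib.MagnetGr
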