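import Groth.Agent.Lib.MagnetGr25.Global

/-! # Changing the monoid for affine attractors -/

set_option autoImplicit false
set_option backward.isDefEq.respectTransparency false
set_option backward.isDefEq.respectTransparency.types false

universe u

open CategoryTheory CategoryTheory.Limits MonoidalCategory CartesianMonoidalCategory MonObj AlgebraicGeometry Opposite

noncomputable section

namespace GrothLib.MagnetGr

open Magnet MagnetPts

variable {S : Scheme.{u}} {M Z : Type} [AddCommMonoid M] [AddCommMonoid Z] {X : Over S}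
  {a : MonAct (AMonS S M) X}

namespace Chart

/-- The chart for the action through a map of monoids. -/
def restrict (U : Chart a) (f : M →+ Z) : Chart (a.restrict (AMonS.map S f)) where
  A := U.A
  inc := U.inc
  isOpen := U.isOpen
  δ := (MonoidAlgebra.mapDomainRingHom U.A (AddMonoidHom.toMultiplicative f)).comp U.δ
  hδ := by
    rw [orb_restrict, U.orb_pt]
    congr 4
    refine hom_ext_cst ?_ ?_
    · refine RingHom.ext fun r => ?_
      simp [MonoidAlgebra.singleOneRingHom, MonoidAlgebra.mapDomainRingHom]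
    · refine MonoidHom.ext fun m => ?_
      simp [MonoidAlgebra.mapDomainRingHom]

theorem attrIdeal_restrict (U : Chart a) (f : M →+ Z) (Y : AddSubmonoid Z) :
    (U.restrict f).attrIdeal Y = U.attrIdeal (Y.comap f) := by
  classical
  apply le_antisymm
  · refine Ideal.span_le.2 ?_
    rintro _ ⟨z, w, hw, rfl⟩
    change (MonoidAlgebra.mapDomain (AddMonoidHom.toMultiplicative f) (U.δ z)).coeff w ∈ U.attrIdeal (Y.comap f)
    rw [MonoidAlgebra.mapDomain, MonoidAlgebra.coeff_ofCoeff, Finsupp.mapDomain, Finsupp.sum_apply]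
    refine Ideal.sum_mem _ fun m _ => ?_
    dsimp only
    rw [Finsupp.single_apply]
    split_ifs with h
    · refine Ideal.subset_span ⟨z, m, fun hm => hw ?_, rfl⟩
      rw [← h]
      exact hm
    · exact Ideal.zero_mem _
  · refine Ideal.span_le.2 ?_
    rintro _ ⟨z, m, hm, rfl⟩
    refine Ideal.subset_span ⟨(U.δ z).coeff m, AddMonoidHom.toMultiplicative f m, hm, ?_⟩
    change (MonoidAlgebra.mapDomain (AddMonoidHom.toMultiplicative f) (U.δ ((U.δ z).coeff m))).coeff _ = _
    rw [U.δ_coeff, MonoidAlgebra.mapDomain_single, MonoidAlgebra.coeff_single, Finsupp.single_eq_same]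

end Chart

theorem attrComap_attrToX (f : M →+ Z) (Y : AddSubmonoid Z) {T : Over S}
    (φ : (attr a (Y.comap f)).obj (op T)) :
    (attrToX (a.restrict (AMonS.map S f)) Y).app (op T) ((attrComap a f Y).app (op T) φ) =
      (attrToX a (Y.comap f)).app (op T) φ := by
  change lift (toUnit T ≫ η[AMonS S ↥Y]) (𝟙 T) ≫
      (AMonS.map S ((f.comp (Y.comap f).subtype).codRestrict Y (fun x => x.2)) ▷ T) ≫ φ.1 =
    lift (toUnit T ≫ η[AMonS S ↥(Y.comap f)]) (𝟙 T) ≫ φ.1
  rw [lift_whiskerRight_assoc, Category.assoc, IsMonHom.one_hom]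

theorem inAttr_restrict_iff [IsAffineHom X.hom] (f : M →+ Z) (Y : AddSubmonoid Z) {T : Over S} (x : T ⟶ X) :
    InAttr (a.restrict (AMonS.map S f)) Y x → InAttr a (Y.comap f) x := by
  intro h
  choose W hW hTW using fun p : T.left => (show ∃ W : S.Opens, IsAffineOpen W ∧ T.hom.base p ∈ W by
    obtain ⟨W, hW, hp, -⟩ := exists_isAffineOpen_mem_and_subset (x := T.hom.base p) (U := ⊤) trivial
    exact ⟨W, hW, hp⟩)
  let O : T.left → T.left.Opens := fun p => T.hom ⁻¹ᵁ W p
  let 𝒱 : T.left.OpenCover := Scheme.Cover.mkOfCovers T.left (fun p => (O p).toScheme) (fun p => (O p).ι)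
    (fun p => ⟨p, ⟨p, hTW p⟩, rfl⟩) (fun p => inferInstance)
  refine InAttr.of_cover x 𝒱 fun p => ?_
  obtain ⟨U, hU⟩ := exists_chart_of_isAffineHom a (W p) (hW p)
  have hV : U.inc.base '' Set.univ = X.hom.base ⁻¹' (W p : Set S) := by rw [Set.image_univ]; exact hU
  have hr : Set.range ((O p).ι ≫ x.left).base ⊆ Set.range U.inc.base := by
    rw [hU]
    rintro _ ⟨z, rfl⟩
    change (x.left ≫ X.hom).base ((O p).ι.base z) ∈ W p
    rw [Over.w x]
    exact z.2
  let l := IsOpenImmersion.lift U.inc _ hr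
  have hl : l ≫ U.inc = (O p).ι ≫ x.left := IsOpenImmersion.lift_fac _ _ _
  let t : Over.mk ((O p).ι ≫ T.hom) ⟶ Over.mk (U.inc ≫ X.hom) :=
    Over.homMk l (by change l ≫ U.inc ≫ X.hom = _; rw [reassoc_of% hl, Over.w x]; rfl)
  have ht : t ≫ (Over.homMk U.inc rfl : Over.mk (U.inc ≫ X.hom) ⟶ X) =
      (Over.homMk (O p).ι rfl : Over.mk ((O p).ι ≫ T.hom) ⟶ T) ≫ x := Over.OverMorphism.ext hl
  change InAttr a (Y.comap f) ((Over.homMk (O p).ι rfl : Over.mk ((O p).ι ≫ T.hom) ⟶ T) ≫ x)
  rw [← ht, inAttr_iff_le_ker U (hW p) hV]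
  have h1 := h.comp (Over.homMk (O p).ι rfl : Over.mk ((O p).ι ≫ T.hom) ⟶ T)
  rw [← ht] at h1
  have h2 := (inAttr_iff_le_ker (U.restrict f) (hW p) hV t).1 h1
  refine le_of_eq_of_le ?_ h2
  change (quot (N := Y.comap f) U).ker = (Spec.map (CommRingCat.ofHom (Ideal.Quotient.mk ((U.restrict f).attrIdeal Y)))).ker
  rw [U.attrIdeal_restrict f Y]

end GrothLib.MagnetGr
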