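import Groth.Agent.Lib.MagnetGr25.Alg
import Mathlib.RingTheory.GradedAlgebra.Basic
import Mathlib.Algebra.DirectSum.Decomposition

/-! # Gradings from coactions -/

set_option autoImplicit false

universe u

open DirectSum

noncomputable section

namespace GrothLib.MagnetGr

variable {R C : Type u} [CommRing R] [CommRing C] [Algebra R C] {Q : Type} [AddCommMonoid Q]
  (δ : C →+* MA C Q) (hR : ∀ r, δ (algebraMap R C r) = cst (algebraMap R C r)) (S : AddSubmonoid Q)

/-- The homogeneous elements of a degree. -/
def degPart (n : S) : Submodule R C where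
  carrier := {c | δ c = MonoidAlgebra.single (Multiplicative.ofAdd (n : Q)) c}
  zero_mem' := by simp
  add_mem' {a b} ha hb := by
    change δ (a + b) = _
    rw [map_add, show δ a = _ from ha, show δ b = _ from hb, MonoidAlgebra.single_add]
  smul_mem' r c hc := by
    change δ (r • c) = _
    rw [Algebra.smul_def, map_mul, hR, show δ c = _ from hc]
    change MonoidAlgebra.single 1 _ * MonoidAlgebra.single _ _ = _
    rw [MonoidAlgebra.single_mul_single, one_mul]

theorem mem_degPart {n : S} {c : C} :
    c ∈ degPart δ hR S n ↔ δ c = MonoidAlgebra.single (Multiplicative.ofAdd (n : Q)) c := Iff.rfl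

variable [DecidableEq Q]

instance gradedMonoid_degPart : SetLike.GradedMonoid (degPart δ hR S) where
  one_mem := by
    change δ 1 = _
    rw [map_one]
    rfl
  mul_mem i j a b ha hb := by
    change δ (a * b) = _
    rw [map_mul, show δ a = _ from ha, show δ b = _ from hb, MonoidAlgebra.single_mul_single]
    rfl

variable (hsum : ∀ c, ∑ m ∈ (δ c).coeff.support, (δ c).coeff m = c)
  (hhom : ∀ c m, δ ((δ c).coeff m) = MonoidAlgebra.single m ((δ c).coeff m))
  (hsupp : ∀ (c : C) (m : Multiplicative Q), m.toAdd ∉ S → (δ c).coeff m = 0)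

theorem coeff_coe (f : ⨁ n : S, degPart δ hR S n) (k : S) :
    (δ (DirectSum.coeAddMonoidHom (degPart δ hR S) f)).coeff (Multiplicative.ofAdd (k : Q)) = (f k : C) := by
  induction f using DirectSum.induction_on with
  | zero => simp
  | of i x =>
    rw [DirectSum.coeAddMonoidHom_of, show δ (x : C) = _ from x.2, MonoidAlgebra.coeff_single]
    by_cases h : i = k
    · subst h
      rw [Finsupp.single_eq_same, DirectSum.of_eq_same]
    · rw [Finsupp.single_eq_of_ne (fun e => h (Subtype.ext (Multiplicative.ofAdd.injective e).symm)),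
        DirectSum.of_eq_of_ne _ _ _ (Ne.symm h)]
      rfl
  | add f g hf hg =>
    rw [map_add, map_add, MonoidAlgebra.coeff_add, Finsupp.add_apply, hf, hg, DirectSum.add_apply]
    rfl

include hsum hhom hsupp in
theorem isInternal_degPart : DirectSum.IsInternal (degPart δ hR S) := by
  refine ⟨fun f g h => DFinsupp.ext fun k => Subtype.ext ?_, fun c => ?_⟩
  · rw [← coeff_coe δ hR S f k, ← coeff_coe δ hR S g k, h]
  · suffices c ∈ AddMonoidHom.mrange (DirectSum.coeAddMonoidHom (degPart δ hR S)) from this
    rw [← hsum c]
    refine sum_mem fun m hm => ?_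
    have hmS : m.toAdd ∈ S := by
      by_contra h
      exact Finsupp.mem_support_iff.1 hm (hsupp c m h)
    exact ⟨DirectSum.of (fun n : S => degPart δ hR S n) ⟨m.toAdd, hmS⟩ ⟨(δ c).coeff m, hhom c m⟩,
      DirectSum.coeAddMonoidHom_of _ _ _⟩

/-- The grading of a coaction. -/
def gradedOfCoact : GradedAlgebra (degPart δ hR S) :=
  { gradedMonoid_degPart δ hR S, (isInternal_degPart δ hR S hsum hhom hsupp).chooseDecomposition with }

end GrothLib.MagnetGr
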