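import Groth.Agent.Lib.MagnetGr25.LimitPres
import Groth.Agent.Lib.FPCrit.Basic

/-! # Representing schemes of attractors are locally of finite presentation -/

set_option autoImplicit false
set_option backward.isDefEq.respectTransparency false
set_option backward.isDefEq.respectTransparency.types false

universe u

open CategoryTheory CategoryTheory.Limits MonoidalCategory AlgebraicGeometry Opposite

noncomputable section

namespace GrothLib.MagnetGr

open Magnet MagnetPts

variable {S : Scheme.{u}} {M : Type} [AddCommGroup M] {X : Over S} (a : MonAct (AMonS S M) X) {N : AddSubmonoid M}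

/-- If `X` is locally of finite presentation, so is a scheme representing an attractor of it. -/
theorem lfp_of_representsAttr [LocallyOfFinitePresentation X.hom] {Z : Over S} (e : (attr a N).RepresentableBy Z) :
    LocallyOfFinitePresentation Z.hom := by
  refine GrothLib.FPCrit.locallyOfFinitePresentation_of_lifts _ fun U hU J _ _ _ F c hc G hG => ?_
  let F' : J ⥤ CommRingCat.{u} := F ⋙ Under.forget _
  let c' : Cocone F' := (Under.forget _).mapCocone c
  let sF : ∀ i : J, Spec (F'.obj i) ⟶ S := fun i => Spec.map (F.obj i).hom ≫ hU.fromSpec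
  have hs : ∀ i, Spec.map (c'.ι.app i) ≫ sF i = G ≫ Z.hom := fun i => by
    change Spec.map (c.ι.app i).right ≫ Spec.map (F.obj i).hom ≫ hU.fromSpec = _
    rw [← Spec.map_comp_assoc, hG]
    exact congrArg (fun φ => Spec.map φ ≫ hU.fromSpec) (Under.w (c.ι.app i))
  let x : (attr a N).obj (op (Over.mk (G ≫ Z.hom))) := e.homEquiv (Over.homMk G rfl)
  have hst := exists_stage (N := N) a X.hom hc sF x (fun i => str (sF i) (cst : F'.obj i →+* MA (F'.obj i) N))
  refine Exists.elim (hst (fun {i k} h => ?_) (fun i => ?_) (fun i g hg => hg) (fun i g hg => ?_)) ?_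
  · have h' : Spec.map (F'.map h) ≫ sF i = sF k := by
      change Spec.map (F.map h).right ≫ Spec.map (F.obj i).hom ≫ hU.fromSpec = _
      rw [← Spec.map_comp_assoc]
      exact congrArg (fun φ => Spec.map φ ≫ hU.fromSpec) (Under.w (F.map h))
    rw [str, str, specMap_comp, mapRingHom_cst, ← specMap_comp, ← h']
    rfl
  · rw [ev_hom, str, str, specMap_comp, mapRingHom_cst, ← specMap_comp, ← hs i]
    rfl
  · rw [orb_hom, Category.assoc, hg, str, specMap_comp, specMap_comp]
    congr 3
    exact (evC_comp_cst _ _).symm
  · rintro i ⟨l, -, hl₂⟩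
    refine ⟨i, (e.homEquiv.symm l).left, Over.w _, ?_⟩
    let v : Over.mk (G ≫ Z.hom) ⟶ Over.mk (sF i) := Over.homMk (Spec.map (c.ι.app i).right) (hs i)
    have he : e.homEquiv (v ≫ e.homEquiv.symm l) = x := by
      rw [e.homEquiv_comp, Equiv.apply_symm_apply]
      refine Subtype.ext (hom_ext_univ ?_)
      refine Eq.trans ?_ hl₂
      have key : ∀ (s' : Spec (CommRingCat.of c'.pt) ⟶ S) (hs' : Spec.map (c.ι.app i).right ≫ sF i = s'),
          ev ((AMonS S N ◁ (Over.homMk (Spec.map (c.ι.app i).right) hs' :
              Over.mk s' ⟶ Over.mk (sF i))) ≫ l.1) cst uni =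
            Spec.map (CommRingCat.ofHom (MonoidAlgebra.mapRingHom (Multiplicative N) (c.ι.app i).right.hom)) ≫
              ev l.1 cst uni := by
        intro s' hs'
        subst hs'
        exact ev_restrict_cst _ _
      exact key _ (hs i)
    exact congrArg CommaMorphism.left (e.homEquiv.injective he)

end GrothLib.MagnetGr
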