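import Groth.Agent.Lib.MagnetGr25.SmoothLift
import Groth.Agent.Lib.MagnetGr25.RepLfp

/-! # Representing schemes of attractors of smooth schemes are smooth -/

set_option autoImplicit false
set_option backward.isDefEq.respectTransparency false
set_option backward.isDefEq.respectTransparency.types false

universe u

open CategoryTheory CategoryTheory.Limits MonoidalCategory CartesianMonoidalCategory AlgebraicGeometry Opposite

noncomputable section

namespace GrothLib.MagnetGr

open Magnet MagnetPts

variable {S : Scheme.{u}} {M : Type} [AddCommGroup M] {X : Over S} (a : MonAct (AMonS S M) X) {N : AddSubmonoid M}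

theorem smooth_of_representsAttr [Smooth X.hom] {Z : Over S} (e : (attr a N).RepresentableBy Z) : Smooth Z.hom := by
  refine (Groth.Agent.S1488.result _).2 ⟨lfp_of_representsAttr a e, fun A _ I hI p b h => ?_⟩
  let t : Over.mk (Spec.map (CommRingCat.ofHom (Ideal.Quotient.mk I)) ≫ b) ⟶ Over.mk b :=
    Over.homMk (Spec.map (CommRingCat.ofHom (Ideal.Quotient.mk I))) rfl
  let zp : Over.mk (Spec.map (CommRingCat.ofHom (Ideal.Quotient.mk I)) ≫ b) ⟶ Z := Over.homMk p h.symm
  let aT : MonAct (AMonS S M) (𝟙_ (Over S)) := MonAct.trivial (AMonS S M) (𝟙_ (Over S))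
  have hf : MonAct.IsEquivariant a aT (toUnit X) := toUnit_unique _ _
  haveI : Smooth (toUnit X).left := by
    rw [show (toUnit X).left = X.hom from (Category.comp_id _).symm.trans (Over.w (toUnit X))]
    infer_instance
  let y : (attr aT N).obj (op (Over.mk b)) := ⟨toUnit _, toUnit_unique _ _⟩
  obtain ⟨l, hl, -⟩ := exists_lift_postcomp hI hf (e.homEquiv zp) y (toUnit_unique _ _)
  refine ⟨(e.homEquiv.symm l).left, ?_, Over.w _⟩
  have he : e.homEquiv (t ≫ e.homEquiv.symm l) = e.homEquiv zp := by
    rw [e.homEquiv_comp, Equiv.apply_symm_apply]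
    exact Subtype.ext hl
  exact congrArg CommaMorphism.left (e.homEquiv.injective he)

end GrothLib.MagnetGr
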