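import Groth.Agent.Lib.MagnetGr25.AttrChart
import Groth.Agent.Lib.MagnetGr25.RepSmooth
import Groth.Agent.Lib.MagnetGr25.GradedCoact
import Groth.Agent.Lib.MagnetGr25.Pure
import Groth.Agent.Lib.MagnetGr25.AtlasLocal
import Groth.Agent.Lib.VecBundle.Graded
import Mathlib.GroupTheory.Finiteness

/-! # The face projection to the units is a vector bundle -/

set_option autoImplicit false
set_option backward.isDefEq.respectTransparency false
set_option backward.isDefEq.respectTransparency.types false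

universe u

open CategoryTheory CategoryTheory.Limits MonoidalCategory CartesianMonoidalCategory AlgebraicGeometry Opposite

noncomputable section

namespace GrothLib.MagnetGr

open Magnet MagnetPts

section Algebra

variable {S : Scheme.{u}} {M : Type} [AddCommGroup M] {X : Over S} {a : MonAct (AMonS S M) X} (U : Chart a)
  (N : AddSubmonoid M)

/-- The degree zero part of the coordinates of an attractor. -/
def rho : U.A →+* U.A ⧸ U.attrIdeal N :=
  (evC (RingHom.id _) (extChar (isFace_unitFace N) (1 : Multiplicative (unitFace N) →* U.A ⧸ U.attrIdeal N))).comp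
    (U.theta (Ideal.Quotient.mk (U.attrIdeal N)) (Ideal.mk_ker).ge)

theorem rho_homog {y : U.A} {m : Multiplicative M} (hy : U.δ y = MonoidAlgebra.single m y) :
    (m.toAdd ∈ unitFace N → rho U N y = Ideal.Quotient.mk (U.attrIdeal N) y) ∧
      (m.toAdd ∉ unitFace N → rho U N y = 0) := by
  set mk := Ideal.Quotient.mk (U.attrIdeal N)
  have hθ : incN (U.A ⧸ U.attrIdeal N) N (U.theta mk (Ideal.mk_ker).ge y) = MonoidAlgebra.single m (mk y) := by
    rw [U.incN_theta, hy, MonoidAlgebra.mapRingHom_single]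
  by_cases hm : m.toAdd ∈ N
  · have hθ' : U.theta mk (Ideal.mk_ker).ge y =
        MonoidAlgebra.single (Multiplicative.ofAdd (⟨m.toAdd, hm⟩ : N)) (mk y) :=
      incN_injective _ N (by rw [hθ, incN_single]; rfl)
    constructor <;> intro hF <;> rw [rho, RingHom.comp_apply, hθ', evC_single]
    · rw [extChar_of_mem _ _ _ hF]
      exact _root_.mul_one _
    · rw [extChar_of_not_mem _ _ _ hF]
      exact mul_zero _
  · refine ⟨fun hF => absurd ((isFace_unitFace N).le hF) hm, fun _ => ?_⟩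
    have h0 : mk y = 0 := by
      refine Ideal.Quotient.eq_zero_iff_mem.2 (Ideal.subset_span ⟨y, m, hm, ?_⟩)
      rw [hy, MonoidAlgebra.coeff_single, Finsupp.single_eq_same]
    rw [rho, RingHom.comp_apply, incN_injective _ N (hθ.trans (by rw [h0, MonoidAlgebra.single_zero, map_zero]) :
      incN (U.A ⧸ U.attrIdeal N) N (U.theta mk (Ideal.mk_ker).ge y) = incN _ N 0), map_zero]

theorem rho_eq [DecidablePred fun m : Multiplicative M => m.toAdd ∈ unitFace N] (z : U.A) :
    rho U N z = Ideal.Quotient.mk (U.attrIdeal N)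
      (∑ m ∈ (U.δ z).coeff.support.filter (fun m => m.toAdd ∈ unitFace N), (U.δ z).coeff m) := by
  conv_lhs => rw [← U.sum_coeff z, map_sum]
  rw [map_sum, Finset.sum_filter]
  refine Finset.sum_congr rfl fun m _ => ?_
  split_ifs with h
  · exact (rho_homog U N (U.δ_coeff z m)).1 h
  · exact (rho_homog U N (U.δ_coeff z m)).2 h

theorem attrIdeal_anti {L L' : AddSubmonoid M} (h : L ≤ L') : U.attrIdeal L' ≤ U.attrIdeal L :=
  Ideal.span_le.2 (by rintro _ ⟨z, m, hm, rfl⟩; exact Ideal.subset_span ⟨z, m, fun e => hm (h e), rfl⟩)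

theorem rho_vanish {y : U.A} (hy : y ∈ U.attrIdeal (unitFace N)) : rho U N y = 0 := by
  suffices U.attrIdeal (unitFace N) ≤ RingHom.ker (rho U N) from RingHom.mem_ker.1 (this hy)
  refine Ideal.span_le.2 ?_
  rintro _ ⟨z, m, hm, rfl⟩
  exact RingHom.mem_ker.2 ((rho_homog U N (U.δ_coeff z m)).2 hm)

/-- The degree zero part, on the coordinates of the attractor of the units. -/
def rhoBar : U.A ⧸ U.attrIdeal (unitFace N) →+* U.A ⧸ U.attrIdeal N :=
  Ideal.Quotient.lift _ (rho U N) fun _ hy => rho_vanish U N hy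

theorem rhoBar_injective : Function.Injective (rhoBar U N) := by
  classical
  rw [injective_iff_map_eq_zero]
  intro x hx
  obtain ⟨z, rfl⟩ := Ideal.Quotient.mk_surjective x
  rw [rhoBar, Ideal.Quotient.lift_mk, rho_eq, Ideal.Quotient.eq_zero_iff_mem] at hx
  rw [Ideal.Quotient.eq_zero_iff_mem]
  have h1 := attrIdeal_anti U (isFace_unitFace N).le hx
  have h2 : ∑ m ∈ (U.δ z).coeff.support.filter (fun m => ¬ m.toAdd ∈ unitFace N), (U.δ z).coeff m ∈
      U.attrIdeal (unitFace N) :=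
    Ideal.sum_mem _ fun m hm => Ideal.subset_span ⟨z, m, (Finset.mem_filter.1 hm).2, rfl⟩
  rw [← U.sum_coeff z, ← Finset.sum_filter_add_sum_filter_not _ (fun m => m.toAdd ∈ unitFace N)]
  exact Ideal.add_mem _ h1 h2

variable {Q : Type} [AddCommMonoid Q] (π : M →+ Q)

/-- The coaction on the coordinates of the attractor, through a map of monoids. -/
def deltaQ : U.A →+* MA (U.A ⧸ U.attrIdeal N) Q :=
  (MonoidAlgebra.mapDomainRingHom _ (AddMonoidHom.toMultiplicative π)).comp
    ((MonoidAlgebra.mapRingHom (Multiplicative M) (Ideal.Quotient.mk (U.attrIdeal N))).comp U.δ)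

theorem deltaQ_homog {y : U.A} {m : Multiplicative M} (hy : U.δ y = MonoidAlgebra.single m y) :
    deltaQ U N π y = MonoidAlgebra.single (Multiplicative.ofAdd (π m.toAdd)) (Ideal.Quotient.mk (U.attrIdeal N) y) := by
  rw [deltaQ, RingHom.comp_apply, RingHom.comp_apply, hy, MonoidAlgebra.mapRingHom_single]
  exact MonoidAlgebra.mapDomain_single

theorem deltaQ_vanish {y : U.A} (hy : y ∈ U.attrIdeal N) : deltaQ U N π y = 0 := by
  suffices U.attrIdeal N ≤ RingHom.ker (deltaQ U N π) from RingHom.mem_ker.1 (this hy)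
  refine Ideal.span_le.2 ?_
  rintro _ ⟨z, m, hm, rfl⟩
  refine RingHom.mem_ker.2 ?_
  rw [deltaQ_homog U N π (U.δ_coeff z m), show Ideal.Quotient.mk (U.attrIdeal N) ((U.δ z).coeff m) = 0 from
    Ideal.Quotient.eq_zero_iff_mem.2 (Ideal.subset_span ⟨z, m, hm, rfl⟩), MonoidAlgebra.single_zero]

/-- The coaction on the coordinates of the attractor. -/
def deltaBar : U.A ⧸ U.attrIdeal N →+* MA (U.A ⧸ U.attrIdeal N) Q :=
  Ideal.Quotient.lift _ (deltaQ U N π) fun _ hy => deltaQ_vanish U N π hy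

theorem deltaBar_homog (z : U.A) (m : Multiplicative M) :
    deltaBar U N π (Ideal.Quotient.mk _ ((U.δ z).coeff m)) =
      MonoidAlgebra.single (Multiplicative.ofAdd (π m.toAdd)) (Ideal.Quotient.mk _ ((U.δ z).coeff m)) := by
  rw [deltaBar, Ideal.Quotient.lift_mk, deltaQ_homog U N π (U.δ_coeff z m)]

theorem coeff_deltaBar [DecidableEq Q] (z : U.A) (q : Q) :
    (deltaBar U N π (Ideal.Quotient.mk _ z)).coeff (Multiplicative.ofAdd q) =
      ∑ m ∈ (U.δ z).coeff.support.filter (fun m => π m.toAdd = q), Ideal.Quotient.mk _ ((U.δ z).coeff m) := by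
  conv_lhs => rw [← U.sum_coeff z, map_sum, map_sum]
  rw [MonoidAlgebra.coeff_sum, Finsupp.finsetSum_apply, Finset.sum_filter]
  refine Finset.sum_congr rfl fun m _ => ?_
  rw [deltaBar_homog, MonoidAlgebra.coeff_single, Finsupp.single_apply]
  exact if_congr Multiplicative.ofAdd.injective.eq_iff rfl rfl

theorem deltaBar_sum (c : U.A ⧸ U.attrIdeal N) :
    ∑ q ∈ (deltaBar U N π c).coeff.support, (deltaBar U N π c).coeff q = c := by
  classical
  obtain ⟨z, rfl⟩ := Ideal.Quotient.mk_surjective c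
  have h : evC (RingHom.id _) (1 : Multiplicative Q →* U.A ⧸ U.attrIdeal N)
      (deltaBar U N π (Ideal.Quotient.mk _ z)) = Ideal.Quotient.mk _ z := by
    conv_lhs => rw [← U.sum_coeff z, map_sum, map_sum, map_sum]
    conv_rhs => rw [← U.sum_coeff z, map_sum]
    refine Finset.sum_congr rfl fun m _ => ?_
    rw [deltaBar_homog, evC_single]
    exact _root_.mul_one _
  rw [evC_one_apply] at h
  exact h

theorem deltaBar_coeff (c : U.A ⧸ U.attrIdeal N) (q : Multiplicative Q) :
    deltaBar U N π ((deltaBar U N π c).coeff q) = MonoidAlgebra.single q ((deltaBar U N π c).coeff q) := by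
  classical
  obtain ⟨q, rfl⟩ := Multiplicative.ofAdd.surjective q
  obtain ⟨z, rfl⟩ := Ideal.Quotient.mk_surjective c
  rw [coeff_deltaBar, map_sum, ← MonoidAlgebra.singleAddHom_apply, map_sum]
  refine Finset.sum_congr rfl fun m hm => ?_
  rw [deltaBar_homog, (Finset.mem_filter.1 hm).2]
  rfl

end Algebra

variable {S : Scheme.{u}} {M : Type} [AddCommGroup M] {X : Over S}

/-- Over each stable open affine over the base, the face projection to the units is a vector bundle. -/
theorem exists_vectorBundle [Smooth X.hom] (a : MonAct (AMonS S M) X)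
    (hlin : ∀ x : X.left, ∃ V : X.left.Opens, x ∈ V ∧ IsAffineHom (V.ι ≫ X.hom) ∧
      (CartesianMonoidalCategory.snd (AMonS S M) X).left ⁻¹ᵁ V ≤ a.act.left ⁻¹ᵁ V)
    (N : AddSubmonoid M) {ZN Z0 : Over S} (eN : (attr a N).RepresentableBy ZN)
    (e0 : (attr a (unitFace N)).RepresentableBy Z0) (j : ZN ⟶ Z0)
    (hj : ∀ (T : Over S) (z : T ⟶ ZN), e0.homEquiv (z ≫ j) = (attrFace a (isFace_unitFace N)).app (op T) (eN.homEquiv z))
    (z : Z0.left) :
    ∃ (W : Z0.left.Opens) (hW : IsAffineOpen W), z ∈ W ∧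
      ∃ (P : Type u) (_ : AddCommGroup P) (_ : Module Γ(Z0.left, W) P),
        Module.Finite Γ(Z0.left, W) P ∧ Module.Projective Γ(Z0.left, W) P ∧
        ∃ e : (↑(j.left ⁻¹ᵁ W) : Scheme.{u}) ≅ Spec (CommRingCat.of (SymmetricAlgebra Γ(Z0.left, W) P)),
          e.hom ≫ Spec.map (CommRingCat.ofHom (algebraMap Γ(Z0.left, W) (SymmetricAlgebra Γ(Z0.left, W) P))) =
            (j.left ∣_ W) ≫ hW.isoSpec.hom := by
  classical
  haveI : LocallyOfFiniteType X.hom := inferInstance
  let F := unitFace N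
  let hF := isFace_unitFace N
  let x0 : Z0 ⟶ X := (attrToX a F).app (op Z0) (e0.homEquiv (𝟙 Z0))
  have hx0 : ∀ {T : Over S} (t : T ⟶ Z0), (attrToX a F).app (op T) (e0.homEquiv t) = t ≫ x0 := by
    intro T t
    rw [← attrToX_map, ← e0.homEquiv_comp, Category.comp_id]
  -- a stable affine chart around the point
  obtain ⟨V, hxV, hVaff, hVst⟩ := hlin (x0.left z)
  obtain ⟨W₀, hW₀, hzW₀, -⟩ := exists_isAffineOpen_mem_and_subset (x := X.hom (x0.left z)) (U := ⊤) trivial
  let V' : X.left.Opens := V ⊓ X.hom ⁻¹ᵁ W₀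
  have hV' : IsAffineOpen V' := by
    have h := ((hW₀.preimage (V.ι ≫ X.hom))).image_of_isOpenImmersion V.ι
    rwa [show V.ι ''ᵁ ((V.ι ≫ X.hom) ⁻¹ᵁ W₀) = V' from by
      rw [Scheme.Hom.comp_preimage, Scheme.Hom.image_preimage_eq_opensRange_inf, Scheme.Opens.opensRange_ι]] at h
  obtain ⟨U, hUr⟩ := exists_chart a V' hV' (fun p hp => ⟨hVst hp.1, stable_preimage a W₀ hp.2⟩)
  have hU : Set.range (U.inc ≫ X.hom).base ⊆ (W₀ : Set S) := by
    rintro _ ⟨p, rfl⟩
    exact (hUr.le ⟨p, rfl⟩).2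
  have hrange : Set.range U.inc = (V' : Set X.left) := hUr
  -- the base ring
  obtain ⟨r, hrfac, hr, hδr⟩ := exists_base_map' U hW₀ hU
  -- the two closed subschemes
  obtain ⟨φF, hφF⟩ := exists_taut U hW₀ hU F
  obtain ⟨φN, hφN⟩ := exists_taut U hW₀ hU N
  let W : Z0.left.Opens := x0.left ⁻¹ᵁ V'
  have hW₂F : ∀ {E : Type u} [CommRing E] {s : Spec (CommRingCat.of E) ⟶ S} (t : Over.mk s ⟶ Z0),
      Set.range t.left ⊆ (W : Set Z0.left) → InChart U (e0.homEquiv t) := by
    intro E _ s t ht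
    refine InChart.of_limit U _ ?_
    have e1 : ev (e0.homEquiv t).1 (RingHom.id E) (extChar (isFace_unitFace F) (1 : Multiplicative (unitFace F) →* E)) =
        t.left ≫ x0.left := by
      rw [← Over.comp_left, ← hx0, attrToX_app]
      congr 1
      refine MonoidHom.ext fun k => ?_
      obtain ⟨hk, y, hy, hky⟩ := k.toAdd.2
      rw [extChar_of_mem _ _ _ (show (k.toAdd : M) ∈ unitFace F from
        ⟨k.toAdd.2, y, ⟨hy, (k.toAdd : M), hk, by rw [add_comm]; exact hky⟩, hky⟩)]
      rfl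
    rw [attrToX_face, e1, hrange]
    rintro _ ⟨p, rfl⟩
    rw [Scheme.Hom.comp_apply]
    exact ht ⟨p, rfl⟩
  let tF := e0.homEquiv.symm φF
  let tN := eN.homEquiv.symm φN
  have hρ : ((attrToX a F).app (op (Over.mk (strQ U N))) ((attrFace a hF).app (op (Over.mk (strQ U N))) φN)).left =
      Spec.map (CommRingCat.ofHom (rho U N)) ≫ U.inc := by
    rw [attrToX_face, ev_eq_univ, hφN, specMap_comp]
    rfl
  have hW₁F : Set.range tF.left ⊆ (W : Set Z0.left) := by
    rintro _ ⟨p, rfl⟩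
    change x0.left (tF.left p) ∈ (V' : Set X.left)
    rw [← hrange, ← Scheme.Hom.comp_apply, ← Over.comp_left, ← hx0, Equiv.apply_symm_apply,
      attrToX_taut U φF hφF, Scheme.Hom.comp_apply]
    exact ⟨_, rfl⟩
  obtain ⟨ψF, hψF⟩ := exists_iso_chart U e0 φF hφF W hW₂F hW₁F
  let W' : ZN.left.Opens := j.left ⁻¹ᵁ W
  have hlim : ∀ {E : Type u} [CommRing E] {s : Spec (CommRingCat.of E) ⟶ S} (t : Over.mk s ⟶ ZN),
      ((attrToX a F).app (op (Over.mk s)) ((attrFace a hF).app (op (Over.mk s)) (eN.homEquiv t))).left =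
        t.left ≫ j.left ≫ x0.left := by
    intro E _ s t
    rw [← hj, hx0, Category.assoc, Over.comp_left, Over.comp_left]
  have hW₂N : ∀ {E : Type u} [CommRing E] {s : Spec (CommRingCat.of E) ⟶ S} (t : Over.mk s ⟶ ZN),
      Set.range t.left ⊆ (W' : Set ZN.left) → InChart U (eN.homEquiv t) := by
    intro E _ s t ht
    refine InChart.of_limit U _ ?_
    rw [hlim, hrange]
    rintro _ ⟨p, rfl⟩
    rw [Scheme.Hom.comp_apply, Scheme.Hom.comp_apply]
    exact ht ⟨p, rfl⟩
  have hW₁N : Set.range tN.left ⊆ (W' : Set ZN.left) := by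
    rintro _ ⟨p, rfl⟩
    change x0.left (j.left (tN.left p)) ∈ (V' : Set X.left)
    rw [← hrange, ← Scheme.Hom.comp_apply, ← Scheme.Hom.comp_apply, ← hlim, Equiv.apply_symm_apply, hρ,
      Scheme.Hom.comp_apply]
    exact ⟨_, rfl⟩
  obtain ⟨ψN, hψN⟩ := exists_iso_chart U eN φN hφN W' hW₂N hW₁N
  -- the face projection in coordinates
  have hjρ : tN.left ≫ j.left = Spec.map (CommRingCat.ofHom (rhoBar U N)) ≫ tF.left := by
    have hs : Spec.map (CommRingCat.ofHom (rhoBar U N)) ≫ strQ U F = strQ U N := by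
      have h1 := Over.w ((attrToX a F).app (op (Over.mk (strQ U N))) ((attrFace a hF).app (op (Over.mk (strQ U N))) φN))
      rw [hρ, Category.assoc] at h1
      refine Eq.trans ?_ h1
      rw [specMap_comp, rhoBar, Ideal.Quotient.lift_comp_mk]
    let v : Over.mk (strQ U N) ⟶ Over.mk (strQ U F) := Over.homMk _ hs
    have he : e0.homEquiv (tN ≫ j) = e0.homEquiv (v ≫ tF) := by
      refine InChart.ext U (InChart.of_limit U _ ?_) ?_ ?_
      · have := hW₂F (tN ≫ j) (by
          rintro _ ⟨p, rfl⟩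
          rw [Over.comp_left, Scheme.Hom.comp_apply]
          exact hW₁N ⟨p, rfl⟩)
        rw [attrToX_face, ev_eq_univ]
        rintro _ ⟨p, rfl⟩
        rw [Scheme.Hom.comp_apply]
        exact this ⟨_, rfl⟩
      · rw [e0.homEquiv_comp, Equiv.apply_symm_apply]
        exact InChart.map U (InChart.of_eq U _ hφF) _ hs
      · rw [hj, Equiv.apply_symm_apply, hρ, e0.homEquiv_comp v tF, Equiv.apply_symm_apply, attrToX_map,
          Over.comp_left, attrToX_taut U φF hφF]
        change _ = Spec.map _ ≫ Spec.map _ ≫ U.inc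
        rw [specMap_comp, rhoBar, Ideal.Quotient.lift_comp_mk]
    exact congrArg CommaMorphism.left (e0.homEquiv.injective he)
  have hcomm : ψN.hom ≫ (j.left ∣_ W) = Spec.map (CommRingCat.ofHom (rhoBar U N)) ≫ ψF.hom := by
    rw [← cancel_mono W.ι, Category.assoc, morphismRestrict_ι, reassoc_of% hψN, Category.assoc, hψF, hjρ]
  -- coordinates on the open
  haveI : IsAffine (W : Scheme.{u}) := IsAffine.of_isIso ψF.inv
  have hW : IsAffineOpen W := ‹_›
  let κ : Spec (CommRingCat.of (U.A ⧸ U.attrIdeal F)) ≅ Spec Γ(Z0.left, W) := ψF ≪≫ hW.isoSpec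
  let k := Spec.preimage κ.hom
  let k' := Spec.preimage κ.inv
  have hk : Spec.map k = κ.hom := Spec.map_preimage _
  have hk' : Spec.map k' = κ.inv := Spec.map_preimage _
  have hkk' : k ≫ k' = 𝟙 _ := Spec.map_injective (by rw [Spec.map_comp, hk, hk', Spec.map_id, Iso.inv_hom_id])
  have hk'k : k' ≫ k = 𝟙 _ := Spec.map_injective (by rw [Spec.map_comp, hk, hk', Spec.map_id, Iso.hom_inv_id])
  let C := U.A ⧸ U.attrIdeal N
  let rB : Γ(S, W₀) →+* Γ(Z0.left, W) := k'.hom.comp ((Ideal.Quotient.mk (U.attrIdeal F)).comp r)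
  let φC : Γ(Z0.left, W) →+* C := (rhoBar U N).comp k.hom
  letI : Algebra Γ(S, W₀) Γ(Z0.left, W) := rB.toAlgebra
  letI : Algebra Γ(S, W₀) C := ((Ideal.Quotient.mk (U.attrIdeal N)).comp r).toAlgebra
  letI : Algebra Γ(Z0.left, W) C := φC.toAlgebra
  have hkk : ∀ y, k.hom (k'.hom y) = y := fun y => RingHom.congr_fun (congrArg CommRingCat.Hom.hom hk'k) y
  have hkk2 : ∀ y, k'.hom (k.hom y) = y := fun y => RingHom.congr_fun (congrArg CommRingCat.Hom.hom hkk') y
  have hr0 : ∀ c, U.δ (r c) = MonoidAlgebra.single 1 (r c) := fun c => RingHom.congr_fun hδr c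
  have : IsScalarTower Γ(S, W₀) Γ(Z0.left, W) C := IsScalarTower.of_algebraMap_eq fun c => by
    change Ideal.Quotient.mk _ (r c) = rhoBar U N (k.hom (k'.hom (Ideal.Quotient.mk _ (r c))))
    rw [hkk, rhoBar, Ideal.Quotient.lift_mk]
    exact ((rho_homog U N (hr0 c)).1 (zero_mem _)).symm
  -- smoothness over the base
  have : Algebra.Smooth Γ(S, W₀) C := by
    haveI := smooth_of_representsAttr a eN
    have h1 : Smooth (ψN.hom ≫ W'.ι ≫ ZN.hom) := inferInstance
    rw [reassoc_of% hψN, Over.w] at h1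
    haveI := hW₀.isOpenImmersion_fromSpec
    have hfac : Spec.map (CommRingCat.ofHom ((Ideal.Quotient.mk (U.attrIdeal N)).comp r)) ≫ hW₀.fromSpec = strQ U N := by
      rw [← specMap_comp, hrfac]
    change Smooth (strQ U N) at h1
    have hpb : IsPullback (𝟙 _) (Spec.map (CommRingCat.ofHom ((Ideal.Quotient.mk (U.attrIdeal N)).comp r)))
        (strQ U N) hW₀.fromSpec :=
      ⟨⟨by rw [Category.id_comp, hfac]⟩, ⟨PullbackCone.IsLimit.mk _ (fun c => c.fst) (fun c => Category.comp_id _)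
        (fun c => by rw [← cancel_mono hW₀.fromSpec, Category.assoc, hfac, c.condition])
        (fun c m h₁ _ => (Category.comp_id m).symm.trans h₁)⟩⟩
    have h2 : Smooth (Spec.map (CommRingCat.ofHom ((Ideal.Quotient.mk (U.attrIdeal N)).comp r))) :=
      MorphismProperty.of_isPullback hpb h1
    exact RingHom.smooth_algebraMap.mp ((HasRingHomProperty.Spec_iff (P := @Smooth)).1 h2)
  -- the grading
  let π := QuotientAddGroup.mk' (unitSub N)
  obtain ⟨gens, hgens⟩ := (hr : @Algebra.FiniteType Γ(S, W₀) U.A _ _ r.toAlgebra).out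
  let D : Finset (M ⧸ unitSub N) :=
    ((gens.biUnion fun x => (U.δ x).coeff.support).filter (fun m => m.toAdd ∈ N)).image (fun m => π m.toAdd)
  let S0 : AddSubmonoid (M ⧸ unitSub N) := AddSubmonoid.closure ↑D
  have hS0 : S0 ≤ N.map π := by
    refine AddSubmonoid.closure_le.2 fun q hq => ?_
    obtain ⟨m, hm, rfl⟩ := Finset.mem_image.1 hq
    exact ⟨_, (Finset.mem_filter.1 hm).2, rfl⟩
  have hR : ∀ c, deltaBar U N π (algebraMap Γ(S, W₀) C c) = cst (algebraMap Γ(S, W₀) C c) := fun c => by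
    change deltaBar U N π (Ideal.Quotient.mk _ (r c)) = MonoidAlgebra.single 1 (Ideal.Quotient.mk _ (r c))
    rw [deltaBar, Ideal.Quotient.lift_mk, deltaQ_homog U N π (hr0 c)]
    rfl
  have hmemS : ∀ c, deltaBar U N π c ∈ (incN C S0).range := by
    intro c
    obtain ⟨y, rfl⟩ := Ideal.Quotient.mk_surjective c
    letI := r.toAlgebra
    have hy : y ∈ Algebra.adjoin Γ(S, W₀) (gens : Set U.A) := by rw [hgens]; trivial
    induction hy using Algebra.adjoin_induction with
    | mem x hx =>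
      refine mem_range_incN _ fun q hq => ?_
      obtain ⟨q, rfl⟩ := Multiplicative.ofAdd.surjective q
      rw [coeff_deltaBar]
      refine Finset.sum_eq_zero fun m hm => ?_
      obtain ⟨hm, hmq⟩ := Finset.mem_filter.1 hm
      refine Ideal.Quotient.eq_zero_iff_mem.2 (Ideal.subset_span ⟨x, m, fun hmN => hq ?_, rfl⟩)
      exact AddSubmonoid.subset_closure (Finset.mem_image.2
        ⟨m, Finset.mem_filter.2 ⟨Finset.mem_biUnion.2 ⟨x, hx, hm⟩, hmN⟩, hmq⟩)
    | algebraMap c =>
      refine ⟨MonoidAlgebra.single 1 (Ideal.Quotient.mk _ (r c)), ?_⟩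
      rw [incN_single, map_one]
      exact (hR c).symm
    | add x y _ _ hx hy => rw [map_add, map_add]; exact add_mem hx hy
    | mul x y _ _ hx hy => rw [map_mul, map_mul]; exact mul_mem hx hy
  have hsupp : ∀ (c : C) (q : Multiplicative (M ⧸ unitSub N)), q.toAdd ∉ S0 → (deltaBar U N π c).coeff q = 0 := by
    intro c q hq
    obtain ⟨w, hw⟩ := hmemS c
    rw [← hw, coeff_incN_of_not_mem w q hq]
  letI := gradedOfCoact (deltaBar U N π) hR S0 (deltaBar_sum U N π) (deltaBar_coeff U N π) hsupp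
  haveI : AddMonoid.FG S0 := (AddMonoid.fg_iff_addSubmonoid_fg S0).2 ⟨D, rfl⟩
  have hπ0 : ∀ m : M, π m = 0 ↔ m ∈ unitFace N := fun m => (QuotientAddGroup.eq_zero_iff m)
  have hsharp : ∀ n : S0, IsAddUnit n → n = 0 := by
    intro n hn
    obtain ⟨⟨n, n', h, -⟩, rfl⟩ := hn
    obtain ⟨m, hm, hmn⟩ := hS0 n.2
    obtain ⟨m', hm', hmn'⟩ := hS0 n'.2
    have h0 : m + m' ∈ unitFace N := (hπ0 _).1 (by rw [map_add, hmn, hmn']; exact congrArg Subtype.val h)
    exact Subtype.ext (hmn.symm.trans ((hπ0 _).2 ((isFace_unitFace N).mem_of_add_mem m hm m' hm' h0).1))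
  have hC : ∀ c : C, c ∈ degPart (deltaBar U N π) hR S0 0 ↔ ∃ b, algebraMap Γ(Z0.left, W) C b = c := by
    intro c
    rw [mem_degPart]
    constructor
    · intro hc
      obtain ⟨y, rfl⟩ := Ideal.Quotient.mk_surjective c
      refine ⟨k'.hom (Ideal.Quotient.mk _ y), ?_⟩
      change rhoBar U N (k.hom (k'.hom _)) = _
      rw [hkk, rhoBar, Ideal.Quotient.lift_mk]
      have h0 := congrArg (fun w : MA C (M ⧸ unitSub N) => w.coeff (Multiplicative.ofAdd (0 : M ⧸ unitSub N))) hc
      simp only [ZeroMemClass.coe_zero, MonoidAlgebra.coeff_single, Finsupp.single_eq_same] at h0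
      rw [coeff_deltaBar] at h0
      rw [rho_eq, map_sum, ← h0]
      exact Finset.sum_congr (Finset.filter_congr fun m _ => (hπ0 _).symm) fun _ _ => rfl
    · rintro ⟨b, rfl⟩
      change deltaBar U N π (rhoBar U N (k.hom b)) = _
      obtain ⟨y, hy⟩ := Ideal.Quotient.mk_surjective (k.hom b)
      change _ = MonoidAlgebra.single _ (rhoBar U N (k.hom b))
      rw [← hy, rhoBar, Ideal.Quotient.lift_mk, rho_eq, map_sum, map_sum, ← MonoidAlgebra.singleAddHom_apply,
        map_sum]
      refine Finset.sum_congr rfl fun m hm => ?_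
      rw [deltaBar_homog, (hπ0 _).2 (Finset.mem_filter.1 hm).2]
      rfl
  have hinj : Function.Injective (algebraMap Γ(Z0.left, W) C) :=
    (rhoBar_injective U N).comp (Function.LeftInverse.injective hkk2)
  obtain ⟨P, _, _, hPf, hPp, ⟨eqv⟩⟩ := GrothLib.VecBundle.nonempty_algEquiv (R := Γ(S, W₀)) (C := Γ(Z0.left, W))
    (degPart (deltaBar U N π) hR S0) hsharp hC hinj
  refine ⟨W, hW, show x0.left z ∈ V' from ⟨hxV, hzW₀⟩, P, inferInstance, inferInstance, hPf, hPp,
    ψN.symm ≪≫ Scheme.Spec.mapIso eqv.symm.toRingEquiv.toCommRingCatIso.op, ?_⟩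
  rw [Iso.trans_hom, Category.assoc, Iso.symm_hom, Iso.inv_comp_eq, reassoc_of% hcomm]
  change Spec.map (CommRingCat.ofHom eqv.symm.toRingEquiv.toRingHom) ≫ _ = _
  rw [← Spec.map_comp, show ψF.hom ≫ hW.isoSpec.hom = Spec.map k from hk.symm, ← Spec.map_comp]
  congr 1
  refine CommRingCat.hom_ext (RingHom.ext fun b => ?_)
  exact eqv.symm.commutes b

end GrothLib.MagnetGr
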