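import Groth.Agent.Lib.MagnetGr25.FacePushout
import Groth.Prelude.Def_Magnet4

/-! # Gluing points of attractors along a face -/

set_option autoImplicit false
set_option backward.isDefEq.respectTransparency false
set_option backward.isDefEq.respectTransparency.types false

universe u

open CategoryTheory CategoryTheory.Limits MonoidalCategory CartesianMonoidalCategory AlgebraicGeometry Opposite

noncomputable section

namespace GrothLib.MagnetGr

open Magnet

variable {S : Scheme.{u}} {M : Type} [AddCommMonoid M] {X : Over S} (a : MonAct (AMonS S M) X)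
  {N N' L L' : AddSubmonoid M} (hNL : N ≤ L) (hN'L' : N' ≤ L') (hL : IsFace L' L) (hN : IsFace N' N)
  (hdiff : (N' : Set M) = (L' : Set M) \ ((L : Set M) \ (N : Set M)))

theorem subAct_equivariant_map {P Q : AddSubmonoid M} (h : P ≤ Q) :
    MonAct.IsEquivariant (subAct S M Q) (subAct S M P) (AMonS.map S (AddSubmonoid.inclusion h)) :=
  MonAct.isEquivariant_restrict_regular _ _ _ (by rw [← AMonS.map_comp]; rfl)

theorem act_commute {P Q : AddSubmonoid M} (T : Over S) (k : AMonS S P ⟶ AMonS S Q)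
    (hk : MonAct.IsEquivariant (subAct S M P) (subAct S M Q) k) :
    MonAct.IsEquivariant ((subAct S M P).prod (MonAct.trivial (AMonS S M) T))
      ((subAct S M Q).prod (MonAct.trivial (AMonS S M) T)) (k ▷ T) := by
  rw [MonAct.isEquivariant_iff] at hk ⊢
  intro T' g z
  obtain ⟨b, t, rfl⟩ : ∃ (b : T' ⟶ AMonS S P) (t : T' ⟶ T), z = lift b t :=
    ⟨z ≫ fst _ _, z ≫ snd _ _, by rw [← comp_lift, lift_fst_snd, Category.comp_id]⟩
  rw [MonAct.lift_prod_act_assoc, MonAct.lift_trivial_act, lift_whiskerRight, lift_whiskerRight, MonAct.lift_prod_act,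
    MonAct.lift_trivial_act, Category.assoc, hk]

/-- Braiding the acting factor to the right. -/
def braid3 (G P T : Over S) : P ⊗ (G ⊗ T) ⟶ G ⊗ (P ⊗ T) :=
  lift (snd _ _ ≫ fst _ _) (lift (fst _ _) (snd _ _ ≫ snd _ _))

theorem braid3_comp {G P P' T : Over S} (k : P ⟶ P') :
    (k ▷ (G ⊗ T)) ≫ braid3 G P' T = braid3 G P T ≫ (G ◁ (k ▷ T)) := by
  refine Magnet.hom_ext_lift₂ fun T' b z => ?_
  simp [braid3, lift_whiskerRight_assoc, comp_lift, lift_whiskerRight, lift_whiskerLeft]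

theorem braid3_inv (G P T : Over S) :
    lift (snd G (P ⊗ T) ≫ fst P T) (lift (fst G (P ⊗ T)) (snd G (P ⊗ T) ≫ snd P T)) ≫ braid3 G P T = 𝟙 _ := by
  simp [braid3, comp_lift]

theorem braid3_comp' {G P P' T : Over S} (k : P ⟶ P') {Y : Over S} (u : G ⊗ (P' ⊗ T) ⟶ Y) :
    (k ▷ (G ⊗ T)) ≫ braid3 G P' T ≫ u = braid3 G P T ≫ (G ◁ (k ▷ T)) ≫ u := by
  rw [← Category.assoc, braid3_comp, Category.assoc]

theorem eq_after {A P Q Y : Over S} [MonObj A] {ρ : MonAct A P} {σ : MonAct A Q} {b : MonAct A Y} {k : P ⟶ Q}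
    (hk : MonAct.IsEquivariant ρ σ k) {l : Q ⟶ Y} {φ : P ⟶ Y} (h : k ≫ l = φ) (hφ : MonAct.IsEquivariant ρ b φ) :
    (A ◁ k) ≫ σ.act ≫ l = (A ◁ k) ≫ (A ◁ l) ≫ b.act := by
  unfold MonAct.IsEquivariant at hk hφ
  rw [← Category.assoc, ← hk, Category.assoc, h, ← MonoidalCategory.whiskerLeft_comp_assoc, h, hφ]

include hdiff in
theorem isPullback_glue :
    IsPullback (attrMap a hN'L') (attrFace a hN) (attrFace a hL) (attrMap a hNL) := by
  have hsq := isPushout_face hNL hN'L' hL hN hdiff S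
  refine IsPullback.of_forall_isPullback_app fun T => ?_
  obtain ⟨T⟩ := T
  have hT := isPushout_face_whiskerRight hNL hN'L' hL hN hdiff S T
  rw [Limits.Types.isPullback_iff]
  refine ⟨ConcreteCategory.hom_ext _ _ fun φ => Subtype.ext ?_, fun φ φ' h => Subtype.ext ?_, fun φ ψ h => ?_⟩
  · change (AMonS.faceMap S hL ▷ T) ≫ (AMonS.map S (AddSubmonoid.inclusion hN'L') ▷ T) ≫ φ.1 =
      (AMonS.map S (AddSubmonoid.inclusion hNL) ▷ T) ≫ (AMonS.faceMap S hN ▷ T) ≫ φ.1
    rw [reassoc_of% hT.w]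
  · exact hT.hom_ext (congrArg Subtype.val h.1) (congrArg Subtype.val h.2)
  · have hw : (AMonS.faceMap S hL ▷ T) ≫ φ.1 = (AMonS.map S (AddSubmonoid.inclusion hNL) ▷ T) ≫ ψ.1 :=
      congrArg Subtype.val h
    let l := hT.desc φ.1 ψ.1 hw
    have hl₁ : (AMonS.map S (AddSubmonoid.inclusion hN'L') ▷ T) ≫ l = φ.1 := hT.inl_desc _ _ _
    have hl₂ : (AMonS.faceMap S hN ▷ T) ≫ l = ψ.1 := hT.inr_desc _ _ _
    refine ⟨⟨l, ?_⟩, Subtype.ext hl₁, Subtype.ext hl₂⟩
    have hG := isPushout_face_whiskerRight hNL hN'L' hL hN hdiff S (AMonS S M ⊗ T)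
    unfold MonAct.IsEquivariant
    have e : ∀ {u v : AMonS S M ⊗ (AMonS S N' ⊗ T) ⟶ X},
        braid3 (AMonS S M) (AMonS S N') T ≫ u = braid3 (AMonS S M) (AMonS S N') T ≫ v → u = v := fun {u v} h => by
      have := congrArg (lift (snd _ _ ≫ fst _ _) (lift (fst _ _) (snd _ _ ≫ snd _ _)) ≫ ·) h
      simpa only [reassoc_of% (braid3_inv (AMonS S M) (AMonS S N') T)] using this
    refine e (hG.hom_ext ?_ ?_)
    · refine (braid3_comp' _ _).trans (Eq.trans ?_ (braid3_comp' _ _).symm)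
      exact congrArg (braid3 _ _ T ≫ ·) (eq_after (act_commute T _ (subAct_equivariant_map hN'L')) hl₁ φ.2)
    · refine (braid3_comp' _ _).trans (Eq.trans ?_ (braid3_comp' _ _).symm)
      exact congrArg (braid3 _ _ T ≫ ·) (eq_after (act_commute T _ (isEquivariant_faceMapS S hN)) hl₂ ψ.2)

end GrothLib.MagnetGr
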