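import Groth.Prelude.Def_Magnet4
import Groth.Agent.Lib.MagnetGr25.Affine
import Groth.Agent.S16715
import Groth.Agent.Lib.FSchSys.SpecKer
import Groth.Agent.Lib.Misc6.AffinePushout
import Mathlib.AlgebraicGeometry.Morphisms.Flat
import Mathlib.CategoryTheory.Limits.Over

/-! # Diagonalizable monoid schemes glued along a face -/

set_option autoImplicit false
set_option backward.isDefEq.respectTransparency false
set_option backward.isDefEq.respectTransparency.types false

universe u

open CategoryTheory CategoryTheory.Limits AlgebraicGeometry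

noncomputable section

namespace GrothLib.MagnetGr

open Magnet

variable {M : Type} [AddCommMonoid M] (R : Type u) [CommRing R]

/-- `R[N] → R[L]` for `N ≤ L`. -/
abbrev inclZ {N L : AddSubmonoid M} (h : N ≤ L) :
    MonoidAlgebra R (Multiplicative N) →+* MonoidAlgebra R (Multiplicative L) :=
  (MonoidAlgebra.mapDomainBialgHom R (AddMonoidHom.toMultiplicative (AddSubmonoid.inclusion h))).toAlgHom.toRingHom

theorem inclZ_single {N L : AddSubmonoid M} (h : N ≤ L) (k : Multiplicative N) (r : R) :
    inclZ R h (MonoidAlgebra.single k r) =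
      MonoidAlgebra.single (Multiplicative.ofAdd (AddSubmonoid.inclusion h k.toAdd)) r := by
  simp [inclZ]

theorem inclZ_injective {N L : AddSubmonoid M} (h : N ≤ L) : Function.Injective (inclZ R h) := by
  intro x y e
  refine MonoidAlgebra.coeff_injective (Finsupp.mapDomain_injective
    (f := fun k : Multiplicative N => Multiplicative.ofAdd (AddSubmonoid.inclusion h k.toAdd)) (fun k l hkl => ?_)
    (congrArg MonoidAlgebra.coeff e))
  exact Multiplicative.toAdd.injective (AddSubmonoid.inclusion_injective h (Multiplicative.ofAdd.injective hkl))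

theorem coeff_face {L F : AddSubmonoid M} (hF : IsFace L F) (z : MonoidAlgebra R (Multiplicative L)) (k : Multiplicative F) :
    (faceAlgHom R hF z).coeff k = z.coeff (Multiplicative.ofAdd (AddSubmonoid.inclusion hF.le k.toAdd)) := by
  classical
  induction z using MonoidAlgebra.induction_linear with
  | zero => simp
  | add a b ha hb => simp [ha, hb]
  | single m r =>
    by_cases hm : (m.toAdd : M) ∈ F
    · rw [show m = Multiplicative.ofAdd m.toAdd from rfl, faceAlgHom_single_of_mem R hF _ hm,
        MonoidAlgebra.coeff_single, MonoidAlgebra.coeff_single, Finsupp.single_apply, Finsupp.single_apply]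
      have hiff : Multiplicative.ofAdd (⟨(m.toAdd : M), hm⟩ : ↥F) = k ↔
          Multiplicative.ofAdd m.toAdd = Multiplicative.ofAdd (AddSubmonoid.inclusion hF.le k.toAdd) :=
        ⟨fun e => congrArg Multiplicative.ofAdd (Subtype.ext (congrArg (fun q : Multiplicative F => (q.toAdd : M)) e)),
          fun e => congrArg Multiplicative.ofAdd (Subtype.ext (congrArg (fun q : Multiplicative L => (q.toAdd : M)) e))⟩
      simp only [hiff]
    · rw [show m = Multiplicative.ofAdd m.toAdd from rfl, faceAlgHom_single_of_not_mem R hF _ hm,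
        MonoidAlgebra.coeff_single, Finsupp.single_eq_of_ne]
      · simp
      · intro e
        exact hm (congrArg (fun q : Multiplicative L => (q.toAdd : M)) e ▸ k.toAdd.2)

variable {N N' L L' : AddSubmonoid M} (hNL : N ≤ L) (hN'L' : N' ≤ L') (hL : IsFace L' L) (hN : IsFace N' N)
  (hdiff : (N' : Set M) = (L' : Set M) \ ((L : Set M) \ (N : Set M)))

include hdiff in
theorem fibreSquare_face : Misc6.FibreSquare (faceAlgHom R hN).toRingHom (inclZ R hN'L') (inclZ R hNL)
    (faceAlgHom R hL).toRingHom := by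
  classical
  have hw : (inclZ R hNL).comp (faceAlgHom R hN).toRingHom = (faceAlgHom R hL).toRingHom.comp (inclZ R hN'L') := by
    refine MonoidAlgebra.ringHom_ext (fun r => ?_) fun m => ?_
    · rw [RingHom.comp_apply, RingHom.comp_apply]
      change inclZ R hNL (faceAlgHom R hN _) = faceAlgHom R hL (inclZ R hN'L' _)
      rw [show (1 : Multiplicative ↥N') = Multiplicative.ofAdd (0 : ↥N') from rfl, inclZ_single, toAdd_ofAdd,
        faceAlgHom_single_of_mem R hN (0 : ↥N') N.zero_mem, faceAlgHom_single_of_mem R hL _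
          (show ((AddSubmonoid.inclusion hN'L' (0 : ↥N') : ↥L') : M) ∈ L from L.zero_mem), inclZ_single]
      rfl
    · rw [RingHom.comp_apply, RingHom.comp_apply]
      change inclZ R hNL (faceAlgHom R hN _) = faceAlgHom R hL (inclZ R hN'L' _)
      obtain ⟨m, rfl⟩ := Multiplicative.ofAdd.surjective m
      rw [inclZ_single, toAdd_ofAdd]
      by_cases h : (m : M) ∈ N
      · rw [faceAlgHom_single_of_mem R hN _ h, faceAlgHom_single_of_mem R hL _
          (show ((AddSubmonoid.inclusion hN'L' m : ↥L') : M) ∈ L from hNL h), inclZ_single]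
        rfl
      · rw [faceAlgHom_single_of_not_mem R hN _ h, map_zero, faceAlgHom_single_of_not_mem R hL _ fun e =>
          h (by_contra fun h' => ((hdiff.le m.2).2 ⟨e, h'⟩))]
  refine ⟨hw, fun x _ hx => inclZ_injective R hN'L' (hx.trans (map_zero _).symm), fun b a hba => ?_, fun y => ?_⟩
  · let incl : Multiplicative ↥N' → Multiplicative ↥L' := fun k => Multiplicative.ofAdd (AddSubmonoid.inclusion hN'L' k.toAdd)
    have hincl : Function.Injective incl := fun k l hkl =>
      Multiplicative.toAdd.injective (AddSubmonoid.inclusion_injective hN'L' (Multiplicative.ofAdd.injective hkl))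
    let x : MonoidAlgebra R (Multiplicative ↥N') := MonoidAlgebra.ofCoeff (a.coeff.comapDomain incl hincl.injOn)
    have hga : inclZ R hN'L' x = a := by
      refine MonoidAlgebra.coeff_injective ?_
      change Finsupp.mapDomain incl (a.coeff.comapDomain incl hincl.injOn) = a.coeff
      refine Finsupp.mapDomain_comapDomain incl hincl a.coeff fun m hm => ?_
      by_contra hm'
      have hmN : (m.toAdd : M) ∉ N' := fun h => hm' ⟨Multiplicative.ofAdd ⟨_, h⟩, rfl⟩
      have hmL : (m.toAdd : M) ∈ (L : Set M) \ N := by_contra fun h => hmN (hdiff.ge ⟨m.toAdd.2, h⟩)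
      have e := congrArg (fun q : MonoidAlgebra R (Multiplicative ↥L) => q.coeff (Multiplicative.ofAdd ⟨_, hmL.1⟩)) hba
      simp only [AlgHom.toRingHom_eq_coe, RingHom.coe_coe, coeff_face] at e
      refine Finsupp.mem_support_iff.1 hm (e.symm.trans ?_)
      refine Finsupp.mapDomain_notin_range b.coeff _ fun ⟨k, hk⟩ => hmL.2 ?_
      have := congrArg (fun q : Multiplicative ↥L => (q.toAdd : M)) hk
      exact this ▸ k.toAdd.2
    refine ⟨x, inclZ_injective R hNL ?_, hga⟩
    rw [← RingHom.comp_apply, hw, RingHom.comp_apply, hga, hba]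
  · induction y using MonoidAlgebra.induction_linear with
    | zero => exact ⟨0, map_zero _⟩
    | add a b ha hb =>
      obtain ⟨a', rfl⟩ := ha
      obtain ⟨b', rfl⟩ := hb
      exact ⟨a' + b', map_add _ _ _⟩
    | single m r =>
      exact ⟨MonoidAlgebra.single (Multiplicative.ofAdd (AddSubmonoid.inclusion hL.le m.toAdd)) r,
        faceAlgHom_single_of_mem R hL _ m.toAdd.2 r⟩

variable (S : Scheme.{u})

include hdiff in
theorem isPushout_face_scheme {W : Scheme.{u}} (c : W ⟶ Spec (CommRingCat.of (ULift.{u} ℤ))) :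
    IsPushout
      (pullback.map (AMon (ULift.{u} ℤ) L).hom c (AMon (ULift.{u} ℤ) L').hom c
        (AMon.faceMap (ULift.{u} ℤ) hL).left (𝟙 W) (𝟙 _) (by rw [Category.comp_id, Over.w]) (by simp))
      (pullback.map (AMon (ULift.{u} ℤ) L).hom c (AMon (ULift.{u} ℤ) N).hom c
        (AMon.map (ULift.{u} ℤ) (AddSubmonoid.inclusion hNL)).left (𝟙 W) (𝟙 _) (by rw [Category.comp_id, Over.w])
        (by simp))
      (pullback.map (AMon (ULift.{u} ℤ) L').hom c (AMon (ULift.{u} ℤ) N').hom c
        (AMon.map (ULift.{u} ℤ) (AddSubmonoid.inclusion hN'L')).left (𝟙 W) (𝟙 _) (by rw [Category.comp_id, Over.w])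
        (by simp))
      (pullback.map (AMon (ULift.{u} ℤ) N).hom c (AMon (ULift.{u} ℤ) N').hom c
        (AMon.faceMap (ULift.{u} ℤ) hN).left (𝟙 W) (𝟙 _) (by rw [Category.comp_id, Over.w]) (by simp)) := by
  have hsq := fibreSquare_face (ULift.{u} ℤ) hNL hN'L' hL hN hdiff
  have hpo : IsPushout (AMon.faceMap (ULift.{u} ℤ) hL).left (AMon.map (ULift.{u} ℤ) (AddSubmonoid.inclusion hNL)).left
      (AMon.map (ULift.{u} ℤ) (AddSubmonoid.inclusion hN'L')).left (AMon.faceMap (ULift.{u} ℤ) hN).left := by
    rw [AMon.faceMap_left, AMon.map_left, AMon.map_left, AMon.faceMap_left]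
    exact Misc6.isPushout_spec (f := CommRingCat.ofHom (faceAlgHom (ULift.{u} ℤ) hN).toRingHom)
      (g := CommRingCat.ofHom (inclZ (ULift.{u} ℤ) hN'L')) (q := CommRingCat.ofHom (inclZ (ULift.{u} ℤ) hNL))
      (p := CommRingCat.ofHom (faceAlgHom (ULift.{u} ℤ) hL).toRingHom) hsq
  haveI : IsClosedImmersion (AMon.faceMap (ULift.{u} ℤ) hL).left := by
    rw [AMon.faceMap_left]
    exact IsClosedImmersion.spec_of_surjective _ hsq.surj
  haveI : IsClosedImmersion (AMon.faceMap (ULift.{u} ℤ) hN).left := by
    rw [AMon.faceMap_left]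
    refine IsClosedImmersion.spec_of_surjective _ fun y => ?_
    induction y using MonoidAlgebra.induction_linear with
    | zero => exact ⟨0, map_zero _⟩
    | add a b ha hb =>
      obtain ⟨a', rfl⟩ := ha
      obtain ⟨b', rfl⟩ := hb
      exact ⟨a' + b', map_add _ _ _⟩
    | single m r =>
      exact ⟨MonoidAlgebra.single (Multiplicative.ofAdd (AddSubmonoid.inclusion hN.le m.toAdd)) r,
        faceAlgHom_single_of_mem (ULift.{u} ℤ) hN _ m.toAdd.2 r⟩
  have hpb : IsPullback (AMon.faceMap (ULift.{u} ℤ) hL).left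
      (AMon.map (ULift.{u} ℤ) (AddSubmonoid.inclusion hNL)).left
      (AMon.map (ULift.{u} ℤ) (AddSubmonoid.inclusion hN'L')).left (AMon.faceMap (ULift.{u} ℤ) hN).left := by
    rw [AMon.faceMap_left, AMon.map_left, AMon.map_left, AMon.faceMap_left]
    refine (FSchSys.isPullback_spec_iff (CommRingCat.ofHom (inclZ (ULift.{u} ℤ) hN'L'))
      (CommRingCat.ofHom (inclZ (ULift.{u} ℤ) hNL)) (CommRingCat.ofHom (faceAlgHom (ULift.{u} ℤ) hN).toRingHom)
      (CommRingCat.ofHom (faceAlgHom (ULift.{u} ℤ) hL).toRingHom) ?_ hsq.surj (CommRingCat.hom_ext hsq.w.symm)).2 ?_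
    · intro y
      induction y using MonoidAlgebra.induction_linear with
      | zero => exact ⟨0, map_zero _⟩
      | add a b ha hb =>
        obtain ⟨a', rfl⟩ := ha
        obtain ⟨b', rfl⟩ := hb
        exact ⟨a' + b', map_add _ _ _⟩
      | single m r =>
        exact ⟨MonoidAlgebra.single (Multiplicative.ofAdd (AddSubmonoid.inclusion hN.le m.toAdd)) r,
          faceAlgHom_single_of_mem (ULift.{u} ℤ) hN _ m.toAdd.2 r⟩
    · refine le_antisymm (Ideal.map_le_iff_le_comap.2 fun x hx => ?_) fun a ha => ?_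
      · have h := RingHom.congr_fun hsq.w x
        have hx' : (faceAlgHom (ULift.{u} ℤ) hN).toRingHom x = 0 := RingHom.mem_ker.1 hx
        rw [RingHom.comp_apply, RingHom.comp_apply, hx', map_zero] at h
        exact RingHom.mem_ker.2 h.symm
      · obtain ⟨x, hx, hxa⟩ := hsq.ex 0 a (by rw [map_zero]; exact (RingHom.mem_ker.1 ha).symm)
        exact hxa ▸ Ideal.mem_map_of_mem _ (RingHom.mem_ker.2 hx)
  let F := AMon.faceMap (ULift.{u} ℤ) hL
  let g := AMon.map (ULift.{u} ℤ) (AddSubmonoid.inclusion hNL)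
  let g' := AMon.map (ULift.{u} ℤ) (AddSubmonoid.inclusion hN'L')
  let F' := AMon.faceMap (ULift.{u} ℤ) hN
  let q := (AMon (ULift.{u} ℤ) N').hom
  have e₁ : g'.left ≫ q = (AMon (ULift.{u} ℤ) L').hom := Over.w g'
  have e₂ : F'.left ≫ q = (AMon (ULift.{u} ℤ) N).hom := Over.w F'
  have e₀ : (F.left ≫ g'.left) ≫ q = (AMon (ULift.{u} ℤ) L).hom := by rw [Category.assoc, e₁]; exact Over.w F
  haveI : Flat ((F.left ≫ g'.left) ≫ q) := by
    rw [e₀]
    change Flat (Spec.map (CommRingCat.ofHom
      (algebraMap (ULift.{u} ℤ) (MonoidAlgebra (ULift.{u} ℤ) (Multiplicative L)))))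
    rw [Flat.SpecMap_iff, CommRingCat.hom_ofHom, RingHom.flat_algebraMap_iff]
    infer_instance
  haveI hA : ∀ P : AddSubmonoid M, IsAffine (AMon (ULift.{u} ℤ) ↥P).left := fun P =>
    inferInstanceAs (IsAffine (Spec (CommRingCat.of (MonoidAlgebra (ULift.{u} ℤ) (Multiplicative ↥P)))))
  haveI : IsAffineHom g.left := by
    change IsAffineHom (AMon.map (ULift.{u} ℤ) (AddSubmonoid.inclusion hNL)).left
    rw [AMon.map_left]; exact isAffineHom_of_isAffine _
  haveI : IsAffineHom g'.left := by
    change IsAffineHom (AMon.map (ULift.{u} ℤ) (AddSubmonoid.inclusion hN'L')).left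
    rw [AMon.map_left]; exact isAffineHom_of_isAffine _
  have hbc := Groth.Agent.S16715.result F.left g.left g'.left F'.left hpo hpb q c
  refine hbc.of_iso (pullback.congrHom e₀ rfl) (pullback.congrHom e₁ rfl) (pullback.congrHom e₂ rfl)
    (Iso.refl _) ?_ ?_ ?_ ?_
  all_goals
    refine pullback.hom_ext ?_ ?_ <;> simp [F, g, g', F', q]

include hdiff in
theorem isPushout_face :
    IsPushout (AMonS.faceMap S hL) (AMonS.map S (AddSubmonoid.inclusion hNL))
      (AMonS.map S (AddSubmonoid.inclusion hN'L')) (AMonS.faceMap S hN) := by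
  refine IsPushout.of_map_of_faithful (Over.forget S) ?_
  refine (isPushout_face_scheme hNL hN'L' hL hN hdiff (Limits.IsTerminal.from specULiftZIsTerminal S)).of_iso
    (Iso.refl _) (Iso.refl _) (Iso.refl _) (Iso.refl _) ?_ ?_ ?_ ?_
  all_goals
    refine pullback.hom_ext ?_ ?_ <;> simp [AMonS.map, AMonS.faceMap]

open MonoidalCategory CartesianMonoidalCategory in
include hdiff in
theorem isPushout_face_whiskerRight (T : Over S) :
    IsPushout (AMonS.faceMap S hL ▷ T) (AMonS.map S (AddSubmonoid.inclusion hNL) ▷ T)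
      (AMonS.map S (AddSubmonoid.inclusion hN'L') ▷ T) (AMonS.faceMap S hN ▷ T) := by
  refine IsPushout.of_map_of_faithful (Over.forget S) ?_
  refine (isPushout_face_scheme hNL hN'L' hL hN hdiff (T.hom ≫ Limits.IsTerminal.from specULiftZIsTerminal S)).of_iso
    (pullbackLeftPullbackSndIso _ _ _).symm (pullbackLeftPullbackSndIso _ _ _).symm
    (pullbackLeftPullbackSndIso _ _ _).symm (pullbackLeftPullbackSndIso _ _ _).symm ?_ ?_ ?_ ?_
  all_goals
    refine pullback.hom_ext (pullback.hom_ext ?_ ?_) ?_ <;>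
      simp [AMonS.map, AMonS.faceMap, pullback.condition, Over.whiskerRight_left]

end GrothLib.MagnetGr
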