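import Groth.Agent.Lib.MagnetGr25.FppfComap

/-! # Fixed points as the attractor of the zero magnet -/

set_option autoImplicit false
set_option backward.isDefEq.respectTransparency false
set_option backward.isDefEq.respectTransparency.types false

universe u

open CategoryTheory MonoidalCategory CartesianMonoidalCategory MonObj AlgebraicGeometry Opposite

noncomputable section

namespace GrothLib.MagnetGr

open Magnet MagnetPts

variable {S : Scheme.{u}} {X : Over S}

theorem eq_one_of_subsingleton {N : Type} [AddCommMonoid N] [Subsingleton N] {T : Over S} (b : T ⟶ AMonS S N) :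
    b = toUnit T ≫ η[AMonS S N] := by
  rw [← toUnit_unique (b ≫ toUnit _) (toUnit T), Category.assoc, ← ams_map_zero (P := N)]
  rw [show (0 : N →+ N) = AddMonoidHom.id N from AddMonoidHom.ext fun n => Subsingleton.elim _ _, ams_map_id,
    Category.comp_id]

variable {Q : Type} [AddCommMonoid Q] (b : MonAct (AMonS S Q) X)

instance : Subsingleton ↥(⊥ : AddSubmonoid Q) :=
  ⟨fun x y => Subtype.ext (((AddSubmonoid.mem_bot).1 x.2).trans ((AddSubmonoid.mem_bot).1 y.2).symm)⟩

/-- The attractor of the zero magnet consists of the fixed points. -/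
def attrBotIso : attr b (⊥ : AddSubmonoid Q) ≅ MonAct.fixedPsh b :=
  NatIso.ofComponents (fun T =>
    Equiv.toIso
      { toFun := fun φ => ⟨lift (toUnit (unop T) ≫ η[AMonS S ↥(⊥ : AddSubmonoid Q)]) (𝟙 (unop T)) ≫ φ.1, fun T' t g => by
          have h := (MonAct.mem_eqvHom_iff φ.1).1 φ.2 T' g (toUnit T' ≫ η[AMonS S ↥(⊥ : AddSubmonoid Q)]) t
          rw [eq_one_of_subsingleton (lift g _ ≫ (subAct S Q (⊥ : AddSubmonoid Q)).act)] at h
          rw [comp_lift_assoc, Category.comp_id, ← Category.assoc t, toUnit_unique (t ≫ toUnit _) (toUnit T')]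
          exact h.symm⟩
        invFun := fun x => ⟨snd _ _ ≫ x.1, (MonAct.mem_eqvHom_iff (a := b) _).2 fun T' g c t => by
          rw [lift_snd_assoc, lift_snd_assoc]
          exact (x.2 T' t g).symm⟩
        left_inv := fun φ => Subtype.ext (Magnet.hom_ext_lift₂ fun T' c t => by
          change lift c t ≫ snd _ _ ≫ lift (toUnit (unop T) ≫ η[AMonS S ↥(⊥ : AddSubmonoid Q)]) (𝟙 (unop T)) ≫ φ.1 = _
          rw [lift_snd_assoc, comp_lift_assoc, Category.comp_id, ← Category.assoc t,
            toUnit_unique (t ≫ toUnit _) (toUnit T'), ← eq_one_of_subsingleton c])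
        right_inv := fun x => Subtype.ext (lift_snd_assoc _ _ x.1 |>.trans (Category.id_comp _)) })
    (fun {T T'} g => ConcreteCategory.hom_ext _ _ fun φ => Subtype.ext (by
      change lift (toUnit (unop T') ≫ η[AMonS S ↥(⊥ : AddSubmonoid Q)]) (𝟙 (unop T')) ≫ (_ ◁ g.unop) ≫ φ.1 =
        g.unop ≫ lift (toUnit (unop T) ≫ η[AMonS S ↥(⊥ : AddSubmonoid Q)]) (𝟙 (unop T)) ≫ φ.1
      rw [lift_whiskerLeft_assoc, Category.id_comp, comp_lift_assoc, Category.comp_id, ← Category.assoc g.unop,
        toUnit_unique (g.unop ≫ toUnit _) (toUnit _)]))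

theorem attrBotIso_hom_ι : (attrBotIso b).hom ≫ MonAct.fixedPshι b = attrToX b ⊥ := by
  refine NatTrans.ext (funext fun T => ConcreteCategory.hom_ext _ _ fun φ => ?_)
  rfl

variable {M Z : Type} [AddCommGroup M] [AddCommGroup Z]

theorem attrComap_comp_attrToX (a : MonAct (AMonS S M) X) (f : M →+ Z) (Y : AddSubmonoid Z) :
    attrComap a f Y ≫ attrToX (a.restrict (AMonS.map S f)) Y = attrToX a (Y.comap f) := by
  refine NatTrans.ext (funext fun T => ConcreteCategory.hom_ext _ _ fun φ => ?_)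
  change lift (toUnit (unop T) ≫ η[AMonS S ↥Y]) (𝟙 (unop T)) ≫ (AMonS.map S (fc f Y) ▷ unop T) ≫ φ.1 =
    lift (toUnit (unop T) ≫ η[AMonS S ↥(Y.comap f)]) (𝟙 (unop T)) ≫ φ.1
  rw [lift_whiskerRight_assoc, Category.assoc, IsMonHom.one_hom]

theorem exists_attr_iso_fixed (a : MonAct (AMonS S M) X) (f : M →+ Z) (N : AddSubmonoid M)
    (hN : N = (⊥ : AddSubmonoid Z).comap f) :
    ∃ e : attr a N ≅ MonAct.fixedPsh (a.restrict (AMonS.map S f)),
      e.hom ≫ MonAct.fixedPshι _ = attrToX a N := by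
  subst hN
  haveI := isIso_attrComap a (f := f) (Y := ⊥) bot_le
  refine ⟨asIso (attrComap a f ⊥) ≪≫ attrBotIso _, ?_⟩
  rw [Iso.trans_hom, asIso_hom, Category.assoc, attrBotIso_hom_ι, attrComap_comp_attrToX]

end GrothLib.MagnetGr
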