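import Groth.Agent.Lib.MagnetGr25.Attr
import Groth.Agent.Lib.MagnetBB25.Main

/-! # Points of attractors are determined by their formal neighbourhood of a face -/

set_option autoImplicit false
set_option backward.isDefEq.respectTransparency false
set_option backward.isDefEq.respectTransparency.types false

universe u

open CategoryTheory MonoidalCategory CartesianMonoidalCategory MonObj AlgebraicGeometry Opposite

noncomputable section

namespace GrothLib.MagnetGr

open Magnet MagnetPts MagnetBB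

variable {S : Scheme.{u}} {M : Type} [AddCommMonoid M] {X : Over S} {a : MonAct (AMonS S M) X}
variable {N : AddSubmonoid M} {d : M →+ ℤ} (hd : ∀ k ∈ N, 0 ≤ d k)

/-- The weight on the magnet, valued in the non-negative integers. -/
def dN : N →+ ↥N1 :=
  (d.comp N.subtype).codRestrict N1 fun k => ⟨(d k).toNat, by simp [Int.toNat_of_nonneg (hd k k.2)]⟩

theorem ch_dN {E : Type u} [CommRing E] (c : E) (k : Multiplicative N) :
    (ch c).comp (AddMonoidHom.toMultiplicative (dN hd)) k = c ^ (d (k.toAdd : M)).toNat := rfl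

/-- Scaling by the cocharacter. -/
def scaleMap (T : Over S) : AMonS S ↥N1 ⊗ (AMonS S N ⊗ T) ⟶ AMonS S N ⊗ T :=
  lift ((fst _ _ ≫ AMonS.map S (dN hd)) * (snd _ _ ≫ fst _ _)) (snd _ _ ≫ snd _ _)

theorem lift_scaleMap {T T' : Over S} (m : T' ⟶ AMonS S ↥N1) (z : T' ⟶ AMonS S N ⊗ T) :
    lift m z ≫ scaleMap hd T = lift ((m ≫ AMonS.map S (dN hd)) * (z ≫ fst _ _)) (z ≫ snd _ _) := by
  simp [scaleMap, comp_lift, MonObj.comp_mul]

theorem isEquivariant_scale {T : Over S} {φ : AMonS S N ⊗ T ⟶ X}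
    (h : MonAct.IsEquivariant ((subAct S M N).prod (MonAct.trivial (AMonS S M) T)) a φ) :
    MonAct.IsEquivariant ((subAct S ℤ N1).prod (MonAct.trivial (AMonS S ℤ) (AMonS S N ⊗ T)))
      (a.restrict (AMonS.map S d)) (scaleMap hd T ≫ φ) := by
  rw [MonAct.mem_eqvHom_iff] at h ⊢
  intro T' g m z
  change lift (lift g m ≫ ((MonAct.regular (AMonS S ↥N1)).restrict (AMonS.map S N1.subtype)).act) z ≫ _ = _
  rw [MonAct.lift_restrict_act, MonAct.lift_regular_act, reassoc_of% lift_scaleMap, reassoc_of% lift_scaleMap,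
    MonAct.lift_restrict_act]
  refine Eq.trans ?_ (h T' (g ≫ AMonS.map S d) ((m ≫ AMonS.map S (dN hd)) * (z ≫ fst _ _)) (z ≫ snd _ _))
  change _ = lift (lift _ _ ≫ ((MonAct.regular (AMonS S N)).restrict (AMonS.map S N.subtype)).act) _ ≫ φ
  rw [MonAct.lift_restrict_act, MonAct.lift_regular_act, MonObj.mul_comp, ← _root_.mul_assoc]
  congr 3
  rw [Category.assoc, Category.assoc, ← AMonS.map_comp, ← AMonS.map_comp]
  rfl

/-- The zero of the affine line at any point. -/
theorem exists_zero (T' : Over S) {C : Type u} [CommRing C] {p : Spec (CommRingCat.of C) ⟶ S} (v : Over.mk p ⟶ T') :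
    ∃ m' : T' ⟶ AMonS S ↥N1, v ≫ m' = amsPoint ↥N1 p (ch 0) := by
  let z : S ⟶ (AMon (ULift.{u} ℤ) ↥N1).left :=
    specULiftZIsTerminal.from S ≫
      Spec.map (CommRingCat.ofHom (evC (RingHom.id (ULift.{u} ℤ)) (ch (0 : ULift.{u} ℤ)) : MA (ULift.{u} ℤ) ↥N1 →+* _))
  let z0 : 𝟙_ (Over S) ⟶ AMonS S ↥N1 :=
    Over.homMk (Limits.pullback.lift z (𝟙 S) (specULiftZIsTerminal.hom_ext _ _)) (Limits.pullback.lift_snd _ _ _)
  refine ⟨toUnit T' ≫ z0, ?_⟩
  rw [← Category.assoc, toUnit_unique (v ≫ toUnit T') (toUnit _)]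
  apply hom_ext_fst
  rw [amsPoint_fst, Over.comp_left, Category.assoc]
  change p ≫ Limits.pullback.lift z (𝟙 S) _ ≫ _ = _
  rw [Limits.pullback.lift_fst]
  let u0 : ULift.{u} ℤ →+* C := (Int.castRingHom C).comp (ULift.ringEquiv (R := ℤ)).toRingHom
  rw [← Category.assoc, specULiftZIsTerminal.hom_ext (p ≫ specULiftZIsTerminal.from S)
    (Spec.map (CommRingCat.ofHom u0))]
  erw [← Spec.map_comp]
  congr 1
  apply CommRingCat.hom_ext
  refine MonoidAlgebra.ringHom_ext (fun r => ?_) fun k => ?_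
  · exact hz_ext _ _ r
  · refine Eq.trans ?_ (lift_ringHom_of _ k).symm
    change u0 (evC (RingHom.id _) (ch 0) (MonoidAlgebra.single k 1)) = ch 0 k
    rw [evC_single, map_one, _root_.one_mul]
    exact RingHom.congr_fun rfl _ |>.trans (DFunLike.congr_fun (comp_ch u0 0) k |>.trans (by rw [map_zero]))

variable {E : Type u} [CommRing E] {s : Spec (CommRingCat.of E) ⟶ S}

include hd in
theorem eq_of_formal {φ₁ φ₂ : AMonS S N ⊗ Over.mk s ⟶ X}
    (h₁ : MonAct.IsEquivariant ((subAct S M N).prod (MonAct.trivial (AMonS S M) (Over.mk s))) a φ₁)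
    (h₂ : MonAct.IsEquivariant ((subAct S M N).prod (MonAct.trivial (AMonS S M) (Over.mk s))) a φ₂)
    (hf : ∀ {E' : Type u} [CommRing E'] (n : ℕ) (j : E →+* E') (χ : Multiplicative N →* E'),
      (∀ k : Multiplicative N, (n : ℤ) < d (k.toAdd : M) → χ k = 0) → ev φ₁ j χ = ev φ₂ j χ) : φ₁ = φ₂ := by
  have key : scaleMap hd (Over.mk s) ≫ φ₁ = scaleMap hd (Over.mk s) ≫ φ₂ := by
    refine MagnetBB.eq_of_agree (a.restrict (AMonS.map S d)) (isEquivariant_scale hd h₁) (isEquivariant_scale hd h₂) ?_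
    intro T' m z hm
    obtain ⟨n, hn⟩ := hm
    rw [reassoc_of% lift_scaleMap, reassoc_of% lift_scaleMap]
    apply Over.OverMorphism.ext
    refine Scheme.Cover.hom_ext T'.left.affineCover _ _ fun i => ?_
    obtain ⟨φ, hφ⟩ := Spec.map_surjective (T'.left.affineCover.f i ≫ (z ≫ snd _ _).left :)
    have hstr : T'.left.affineCover.f i ≫ T'.hom = str s φ.hom := by
      rw [str, CommRingCat.ofHom_hom, hφ, Category.assoc]
      exact congrArg (T'.left.affineCover.f i ≫ ·) (Over.w (z ≫ snd _ _)).symm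
    let v : Over.mk (str s φ.hom) ⟶ T' := Over.homMk (T'.left.affineCover.f i) hstr
    have hvt : v ≫ z ≫ snd _ _ = toT s φ.hom := Over.OverMorphism.ext (by
      change T'.left.affineCover.f i ≫ (z ≫ snd _ _).left = Spec.map _
      rw [CommRingCat.ofHom_hom, hφ])
    obtain ⟨χ, hχ⟩ := (amsPoint ↥N (str s φ.hom)).surjective (v ≫ z ≫ fst _ _)
    obtain ⟨μ', hμ⟩ := (amsPoint ↥N1 (str s φ.hom)).surjective (v ≫ m)
    rw [ch_ext μ'] at hμ
    change (v ≫ lift _ _ ≫ φ₁).left = (v ≫ lift _ _ ≫ φ₂).left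
    rw [comp_lift_assoc, comp_lift_assoc, hvt, MonObj.comp_mul, ← Category.assoc v m, ← hμ, amsPoint_map, ← hχ,
      ← map_mul]
    refine hf n φ.hom _ fun k hk => ?_
    let c := μ' gen
    have hc : c ^ (n + 1) = 0 := by
      obtain ⟨m', hm'⟩ := exists_zero (S := S) T' v
      have h0 := congrArg (v ≫ ·) (hn m')
      rw [MonObj.comp_mul, MonObj.comp_pow, ← hμ, hm', ← map_pow, ← map_mul, ch_pow, ch_mul, mul_zero] at h0
      have h1 := congrArg (fun q => q gen) ((amsPoint ↥N1 (str s φ.hom)).injective h0)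
      simpa using h1.symm
    rw [MonoidHom.mul_apply, ch_dN]
    change c ^ _ * _ = 0
    obtain ⟨e, he⟩ : ∃ e, (d (k.toAdd : M)).toNat = n + 1 + e := Nat.exists_eq_add_of_le (by omega)
    rw [he, pow_add, hc, zero_mul, zero_mul]
  have h := congrArg ((lift (toUnit (AMonS S N ⊗ Over.mk s) ≫ η[AMonS S ↥N1]) (𝟙 _)) ≫ ·) key
  simp only [reassoc_of% lift_scaleMap, ← Hom.one_def, MonObj.one_comp, _root_.one_mul,
    Category.id_comp, lift_fst_snd] at h
  exact h

end GrothLib.MagnetGr
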