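import Groth.Agent.Lib.MagnetGr25.Space
import Groth.Agent.Lib.CartTorsor.OrbitStab
import Groth.Agent.Lib.MagnetSep25.Global
import Mathlib.AlgebraicGeometry.Sites.Fpqc
import Mathlib.RingTheory.Flat.FaithfullyFlat.Algebra
import Mathlib.Algebra.MonoidAlgebra.Basic

/-! # Faithfully flat morphisms of diagonalizable monoid schemes, and descent along them -/

set_option autoImplicit false
set_option backward.isDefEq.respectTransparency false
set_option backward.isDefEq.respectTransparency.types false

universe u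

open CategoryTheory CategoryTheory.Limits MonoidalCategory CartesianMonoidalCategory MonObj AlgebraicGeometry Opposite

noncomputable section

namespace GrothLib.MagnetGr

open Magnet MagnetPts

/-- A monoid algebra is faithfully flat over that of a monoid of which it is a disjoint union of free orbits. -/
theorem faithfullyFlat_mapDomain (R : Type u) [CommRing R] {H G : Type} [CommMonoid H] [CommMonoid G] (ρ : H →* G)
    {I : Type} [Nonempty I] [Nontrivial R] (d : I → G) (he : Function.Bijective fun p : I × H => d p.1 * ρ p.2) :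
    (MonoidAlgebra.mapDomainAlgHom R R ρ).toRingHom.FaithfullyFlat := by
  classical
  set f := MonoidAlgebra.mapDomainAlgHom R R ρ
  set A := MonoidAlgebra R H
  set B := MonoidAlgebra R G
  letI : Algebra A B := f.toRingHom.toAlgebra
  have : IsScalarTower R A B := IsScalarTower.of_algebraMap_eq fun r => (f.commutes r).symm
  let L : (I →₀ A) →ₗ[A] B := Finsupp.linearCombination A (fun q => MonoidAlgebra.single (d q) 1)
  let E : (I × H →₀ R) ≃ₗ[R] (I →₀ A) :=
    (Finsupp.finsuppProdLEquiv R).trans (Finsupp.mapRange.linearEquiv (MonoidAlgebra.coeffLinearEquiv R).symm)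
  let F : (I × H →₀ R) ≃ₗ[R] B :=
    (Finsupp.domLCongr (Equiv.ofBijective _ he)).trans (MonoidAlgebra.coeffLinearEquiv R).symm
  have hLE : (L.restrictScalars R).comp E.toLinearMap = F.toLinearMap := by
    refine Finsupp.lhom_ext fun p r => ?_
    have hE : E (Finsupp.single p r) = Finsupp.single p.1 (MonoidAlgebra.single p.2 r : A) := by
      simp [E, Finsupp.finsuppProdLEquiv, Finsupp.curry_single, Finsupp.mapRange_single]
      rfl
    change L (E (Finsupp.single p r)) = F (Finsupp.single p r)
    rw [hE]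
    simp only [L, Finsupp.linearCombination_single]
    change f (MonoidAlgebra.single p.2 r) * MonoidAlgebra.single (d p.1) 1 = _
    rw [show f (MonoidAlgebra.single p.2 r) = MonoidAlgebra.single (ρ p.2) r from by simp [f],
      MonoidAlgebra.single_mul_single, _root_.mul_one]
    simp [F, _root_.mul_comm]
    rfl
  have hL : Function.Bijective L := by
    have h4 : (L : (I →₀ A) → B) = F ∘ E.symm := funext fun x => by
      simpa using LinearMap.congr_fun hLE (E.symm x)
    rw [h4]
    exact F.bijective.comp E.symm.bijective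
  exact Module.FaithfullyFlat.of_linearEquiv A (I →₀ A) (LinearEquiv.ofBijective L hL).symm

variable {S : Scheme.{u}} {N P : Type} [AddCommMonoid N] [AddCommMonoid P]

/-- `A(P) → A(N)` is faithfully flat and quasi-compact when `P` is a disjoint union of free `N`-orbits. -/
theorem fpqc_map (g : N →+ P) {I : Type} [Nonempty I] (d : I → P)
    (he : Function.Bijective fun p : I × N => d p.1 + g p.2) :
    Flat (AMonS.map S g).left ∧ Surjective (AMonS.map S g).left ∧ QuasiCompact (AMonS.map S g).left := by
  haveI : Nontrivial (ULift.{u} ℤ) := inferInstance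
  have hff := faithfullyFlat_mapDomain (ULift.{u} ℤ) (AddMonoidHom.toMultiplicative g)
    (fun i => Multiplicative.ofAdd (d i))
    (show Function.Bijective fun p : I × Multiplicative N => Multiplicative.ofAdd (d p.1 + g p.2.toAdd) from
      Multiplicative.ofAdd.bijective.comp (he.comp
        (Function.bijective_id.prodMap Multiplicative.toAdd.bijective)))
  obtain ⟨hfl, hsu⟩ : Flat (AMon.map (ULift.{u} ℤ) g).left ∧ Surjective (AMon.map (ULift.{u} ℤ) g).left := by
    rw [AMon.map_left, Flat.SpecMap_iff, surjective_iff]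
    rw [RingHom.FaithfullyFlat.iff_flat_and_comap_surjective] at hff
    exact hff
  let c := Limits.IsTerminal.from specULiftZIsTerminal S
  have hsq : IsPullback (AMonS.map S g).left (pullback.fst (AMon (ULift.{u} ℤ) P).hom c)
      (pullback.fst (AMon (ULift.{u} ℤ) N).hom c) (AMon.map (ULift.{u} ℤ) g).left := by
    refine IsPullback.of_right (h₁₂ := (AMonS S N).hom) (v₁₃ := c) (h₂₂ := (AMon (ULift.{u} ℤ) N).hom) ?_
      (pullback.lift_fst _ _ _) (IsPullback.of_hasPullback _ _).flip
    rw [Over.w (AMon.map (ULift.{u} ℤ) g), Over.w (AMonS.map S g)]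
    exact (IsPullback.of_hasPullback _ _).flip
  exact ⟨MorphismProperty.of_isPullback hsq.flip hfl, MorphismProperty.of_isPullback hsq.flip hsu, inferInstance⟩

/-- The same after a product with `T`. -/
theorem fpqc_whiskerRight {A B : Over S} (c : A ⟶ B)
    (h : Flat c.left ∧ Surjective c.left ∧ QuasiCompact c.left) (T : Over S) :
    Flat (c ▷ T).left ∧ Surjective (c ▷ T).left ∧ QuasiCompact (c ▷ T).left := by
  obtain ⟨h₁, h₂, h₃⟩ := h
  have sq := CartTorsor.isPullback_whiskerRight_fst c T
  exact ⟨MorphismProperty.of_isPullback sq.flip h₁, MorphismProperty.of_isPullback sq.flip h₂,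
    MorphismProperty.of_isPullback sq.flip h₃⟩

/-- The same after a product with `T` on the left. -/
theorem fpqc_whiskerLeft {A B : Over S} (c : A ⟶ B)
    (h : Flat c.left ∧ Surjective c.left ∧ QuasiCompact c.left) (T : Over S) :
    Flat (T ◁ c).left ∧ Surjective (T ◁ c).left ∧ QuasiCompact (T ◁ c).left := by
  obtain ⟨h₁, h₂, h₃⟩ := fpqc_whiskerRight c h T
  have e : T ◁ c = (β_ T A).hom ≫ (c ▷ T) ≫ (β_ B T).hom := by ext <;> simp
  have : IsIso (β_ T A).hom.left := inferInstanceAs (IsIso ((Over.forget S).map (β_ T A).hom))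
  have : IsIso (β_ B T).hom.left := inferInstanceAs (IsIso ((Over.forget S).map (β_ B T).hom))
  rw [e, Over.comp_left, Over.comp_left]
  exact ⟨inferInstance, inferInstance, inferInstance⟩

theorem cancel_fpqc {A B Q : Over S} {c : A ⟶ B} (h : Flat c.left ∧ Surjective c.left ∧ QuasiCompact c.left)
    {u v : B ⟶ Q} (e : c ≫ u = c ≫ v) : u = v := by
  obtain ⟨h₁, h₂, h₃⟩ := h
  refine Over.OverMorphism.ext ((cancel_epi c.left).1 ?_)
  rw [← Over.comp_left, ← Over.comp_left, e]

/-- Descent of a morphism, checked on points. -/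
theorem exists_desc_fpqc {A B Q : Over S} {c : A ⟶ B} (h : Flat c.left ∧ Surjective c.left ∧ QuasiCompact c.left)
    (l : A ⟶ Q) (w : ∀ (T : Over S) (a a' : T ⟶ A), a ≫ c = a' ≫ c → a ≫ l = a' ≫ l) :
    ∃ d : B ⟶ Q, c ≫ d = l := by
  obtain ⟨h₁, h₂, h₃⟩ := h
  let d₀ : B.left ⟶ Q.left := EffectiveEpi.desc c.left l.left fun {Z} g₁ g₂ hg => by
    let T : Over S := Over.mk (g₁ ≫ A.hom)
    have h2 : g₂ ≫ A.hom = g₁ ≫ A.hom := by rw [← Over.w c, ← reassoc_of% hg]
    exact congrArg (fun t => t.left) (w T (Over.homMk g₁ rfl) (Over.homMk g₂ h2) (Over.OverMorphism.ext hg))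
  have hd : c.left ≫ d₀ = l.left := EffectiveEpi.fac _ _ _
  refine ⟨Over.homMk d₀ ?_, Over.OverMorphism.ext hd⟩
  rw [← cancel_epi c.left, reassoc_of% hd, Over.w l]
  exact (Over.w c).symm

/-- Morphisms over `S` agree if they agree on affine points. -/
theorem hom_ext_affine {A W : Over S} (u v : A ⟶ W)
    (h : ∀ (E : Type u) [CommRing E] (p : Spec (CommRingCat.of E) ⟶ S) (z : Over.mk p ⟶ A), z ≫ u = z ≫ v) :
    u = v := by
  refine Over.OverMorphism.ext (Scheme.Cover.hom_ext A.left.affineCover _ _ fun l => ?_)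
  exact congrArg CommaMorphism.left
    (h _ (A.left.affineCover.f l ≫ A.hom) (Over.homMk (A.left.affineCover.f l) rfl))

theorem exists_amsPoint {E : Type u} [CommRing E] {p : Spec (CommRingCat.of E) ⟶ S} (z : Over.mk p ⟶ AMonS S N) :
    ∃ χ : Multiplicative N →* E, amsPoint N p χ = z :=
  (amsPoint N p).surjective z

theorem ams_map_add (g g' : N →+ P) :
    AMonS.map S (g + g') = AMonS.map S g * AMonS.map S g' := by
  refine hom_ext_affine _ _ fun E _ p z => ?_
  obtain ⟨χ, rfl⟩ := exists_amsPoint z
  rw [MonObj.comp_mul, amsPoint_map, amsPoint_map, amsPoint_map, ← map_mul]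
  refine congrArg _ (MonoidHom.ext fun m => ?_)
  exact map_mul χ (AddMonoidHom.toMultiplicative g m) (AddMonoidHom.toMultiplicative g' m)

theorem ams_map_zero : AMonS.map S (0 : N →+ P) = toUnit _ ≫ η[AMonS S N] := by
  refine hom_ext_affine _ _ fun E _ p z => ?_
  obtain ⟨χ, rfl⟩ := exists_amsPoint z
  rw [amsPoint_map, ← Category.assoc, toUnit_unique (_ ≫ toUnit _) (toUnit _)]
  have h1 := (amsPoint (S := S) N p).map_one
  rw [Hom.one_def] at h1
  refine Eq.trans (congrArg _ ?_) h1
  exact MonoidHom.ext fun m => χ.map_one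

theorem ams_map_id : AMonS.map S (AddMonoidHom.id N) = 𝟙 _ := by
  refine hom_ext_affine _ _ fun E _ p z => ?_
  obtain ⟨χ, rfl⟩ := exists_amsPoint z
  rw [amsPoint_map, Category.comp_id]
  rfl

end GrothLib.MagnetGr
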