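import Groth.Agent.Lib.MagnetGr25.Fppf
import Groth.Agent.Lib.MagnetGr25.Attr
import Groth.Prelude.Def_Magnet3

/-! # Change of group for attractors by descent along the orbit map -/

set_option autoImplicit false
set_option backward.isDefEq.respectTransparency false
set_option backward.isDefEq.respectTransparency.types false

universe u

open CategoryTheory MonoidalCategory CartesianMonoidalCategory MonObj AlgebraicGeometry Opposite

noncomputable section

namespace GrothLib.MagnetGr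

open Magnet MagnetPts

variable {S : Scheme.{u}} {M Z : Type} [AddCommGroup M] [AddCommGroup Z] (f : M →+ Z) (Y : AddSubmonoid Z)

/-- The monoid map `f⁻¹Y → Y`. -/
abbrev fc : ↥(Y.comap f) →+ ↥Y := (f.comp (Y.comap f).subtype).codRestrict Y (fun x => x.2)

/-- The monoid map `f⁻¹Y → M × Y` of the orbit map. -/
def orbHom : ↥(Y.comap f) →+ M × ↥Y := (Y.comap f).subtype.prod (fc f Y)

theorem orbHom_eq : orbHom f Y =
    ((AddMonoidHom.inl M ↥Y).comp (Y.comap f).subtype) + ((AddMonoidHom.inr M ↥Y).comp (fc f Y)) := by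
  ext n
  · simp [orbHom]
  · simp [orbHom]

theorem bijective_orbit (hY : Y ≤ AddMonoidHom.mrange f) (d : f.range → M) (hd : ∀ z, f (d z) = z) :
    Function.Bijective fun p : f.range × ↥(Y.comap f) => ((d p.1, 0) : M × ↥Y) + orbHom f Y p.2 := by
  constructor
  · rintro ⟨z, n⟩ ⟨z', n'⟩ h
    simp only [orbHom, AddMonoidHom.prod_apply, Prod.mk_add_mk, zero_add, Prod.mk.injEq] at h
    obtain ⟨h₁, h₂⟩ := h
    have h₃ : f (n : M) = f (n' : M) := congrArg Subtype.val h₂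
    have h₄ : (z : Z) = z' := by
      have := congrArg f h₁
      simp only [map_add, hd, AddSubmonoid.coe_subtype, h₃, add_left_inj] at this
      exact this
    obtain rfl : z = z' := Subtype.ext h₄
    exact Prod.ext rfl (Subtype.ext (add_left_cancel h₁))
  · rintro ⟨m, v⟩
    obtain ⟨e, he⟩ := hY v.2
    let z : f.range := ⟨f m - v, ⟨m - e, by rw [map_sub, he]⟩⟩
    have hn : f (m - d z) = (v : Z) := by
      rw [map_sub, hd]
      exact sub_sub_cancel _ _
    refine ⟨(z, ⟨m - d z, show f (m - d z) ∈ Y from hn ▸ v.2⟩), Prod.ext ?_ (Subtype.ext ?_)⟩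
    · simp [orbHom]
    · simpa [orbHom] using hn

theorem bijective_cosets (R : AddSubgroup Z) :
    Function.Bijective fun p : (Z ⧸ R) × ↥R => Quotient.out p.1 + R.subtype p.2 := by
  have hmk : ∀ p : (Z ⧸ R) × ↥R, ((Quotient.out p.1 + R.subtype p.2 : Z) : Z ⧸ R) = p.1 := fun p => by
    rw [QuotientAddGroup.mk_add_of_mem (b := R.subtype p.2) _ p.2.2, QuotientAddGroup.out_eq']
  refine ⟨fun p p' h => ?_, fun g => ?_⟩
  · have h1 : p.1 = p'.1 := by rw [← hmk p, ← hmk p']; exact congrArg _ h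
    simp only [h1] at h
    exact Prod.ext h1 (Subtype.ext (add_left_cancel h))
  · have hn : -Quotient.out (g : Z ⧸ R) + g ∈ R := QuotientAddGroup.eq.mp (QuotientAddGroup.out_eq' (g : Z ⧸ R))
    exact ⟨((g : Z ⧸ R), ⟨_, hn⟩), by simp⟩

variable {X : Over S} (a : MonAct (AMonS S M) X)

/-- `(g, y, t) ↦ g • ψ (y, t)`. -/
def orbitFill {T : Over S} (ψ : AMonS S ↥Y ⊗ T ⟶ X) : AMonS S (M × ↥Y) ⊗ T ⟶ X :=
  lift (fst _ _ ≫ AMonS.map S (AddMonoidHom.inl M ↥Y)) ((AMonS.map S (AddMonoidHom.inr M ↥Y) ▷ T) ≫ ψ) ≫ a.act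

theorem lift_orbitFill {T T' : Over S} (ψ : AMonS S ↥Y ⊗ T ⟶ X) (p : T' ⟶ AMonS S (M × ↥Y)) (t : T' ⟶ T) :
    lift p t ≫ orbitFill Y a ψ =
      lift (p ≫ AMonS.map S (AddMonoidHom.inl M ↥Y))
        (lift (p ≫ AMonS.map S (AddMonoidHom.inr M ↥Y)) t ≫ ψ) ≫ a.act := by
  rw [orbitFill, comp_lift_assoc, ← Category.assoc (lift p t) (fst _ _), lift_fst, lift_whiskerRight_assoc]

theorem comp_map_orbHom {T' : Over S} (p : T' ⟶ AMonS S (M × ↥Y)) :
    p ≫ AMonS.map S (orbHom f Y) =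
      (p ≫ AMonS.map S (AddMonoidHom.inl M ↥Y) ≫ AMonS.map S (Y.comap f).subtype) *
        (p ≫ AMonS.map S (AddMonoidHom.inr M ↥Y) ≫ AMonS.map S (fc f Y)) := by
  rw [orbHom_eq, ams_map_add, AMonS.map_comp, AMonS.map_comp, MonObj.comp_mul]

variable (hY : Y ≤ AddMonoidHom.mrange f)

/-- `Y → f(M)`. -/
abbrev toRange : ↥Y →+ f.range :=
  Y.subtype.codRestrict f.range fun y => hY y.2

variable {f Y}

include hY in
/-- An `A(Z)`-equivariant map out of `A(Y)` is equivariant for the image of `A(Z)`. -/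
theorem equivariant_range {T : Over S} (ψ : (attr (a.restrict (AMonS.map S f)) Y).obj (op T)) {T' : Over S}
    (c : T' ⟶ AMonS S f.range) (b : T' ⟶ AMonS S ↥Y) (t : T' ⟶ T) :
    lift ((c ≫ AMonS.map S (toRange f Y hY)) * b) t ≫ ψ.1 =
      lift (c ≫ AMonS.map S f.rangeRestrict) (lift b t ≫ ψ.1) ≫ a.act := by
  let r : AMonS S Z ⟶ AMonS S f.range := AMonS.map S f.range.subtype
  let L : AMonS S f.range ⊗ (AMonS S ↥Y ⊗ T) ⟶ X :=
    lift (((fst _ _ : _ ⟶ AMonS S f.range) ≫ AMonS.map S (toRange f Y hY)) * (snd _ _ ≫ fst _ _)) (snd _ _ ≫ snd _ _) ≫ ψ.1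
  let R : AMonS S f.range ⊗ (AMonS S ↥Y ⊗ T) ⟶ X :=
    lift (fst _ _ ≫ AMonS.map S f.rangeRestrict) (snd _ _ ≫ ψ.1) ≫ a.act
  have hr := fpqc_whiskerRight r (fpqc_map f.range.subtype _ (bijective_cosets f.range)) (AMonS S ↥Y ⊗ T)
  have hLR : L = R := by
    refine cancel_fpqc hr (Magnet.hom_ext_lift₂ fun T'' g z => ?_)
    obtain ⟨b, t, rfl⟩ : ∃ (b : T'' ⟶ AMonS S ↥Y) (t : T'' ⟶ T), z = lift b t :=
      ⟨z ≫ fst _ _, z ≫ snd _ _, by rw [← comp_lift, lift_fst_snd, Category.comp_id]⟩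
    have h := (MonAct.mem_eqvHom_iff ψ.1).1 ψ.2 T'' g b t
    unfold subAct at h
    rw [MonAct.lift_restrict_act, MonAct.lift_regular_act, MonAct.lift_restrict_act] at h
    have e1 : r ≫ AMonS.map S (toRange f Y hY) = AMonS.map S Y.subtype := by
      rw [← AMonS.map_comp]
      rfl
    have e2 : r ≫ AMonS.map S f.rangeRestrict = AMonS.map S f := by
      rw [← AMonS.map_comp]
      rfl
    simp only [L, R, lift_whiskerRight_assoc, comp_lift_assoc, MonObj.comp_mul, lift_fst_assoc, lift_snd_assoc,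
      lift_fst, lift_snd, Category.assoc, e1, e2]
    exact h
  have := congrArg (lift c (lift b t) ≫ ·) hLR
  simpa only [L, R, comp_lift_assoc, MonObj.comp_mul, lift_fst_assoc, lift_snd_assoc, lift_fst, lift_snd,
    Category.assoc] using this

include hY in
theorem orbitFill_congr {T : Over S} (ψ : (attr (a.restrict (AMonS.map S f)) Y).obj (op T))
    {E : Type u} [CommRing E] {s : Spec (CommRingCat.of E) ⟶ S} (p p' : Over.mk s ⟶ AMonS S (M × ↥Y))
    (t : Over.mk s ⟶ T) (h : p ≫ AMonS.map S (orbHom f Y) = p' ≫ AMonS.map S (orbHom f Y)) :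
    lift p t ≫ orbitFill Y a ψ.1 = lift p' t ≫ orbitFill Y a ψ.1 := by
  obtain ⟨χ, rfl⟩ := exists_amsPoint p
  obtain ⟨χ', rfl⟩ := exists_amsPoint p'
  rw [amsPoint_map, amsPoint_map] at h
  let i₁ : Multiplicative M →* Multiplicative (M × ↥Y) := AddMonoidHom.toMultiplicative (AddMonoidHom.inl M ↥Y)
  let i₂ : Multiplicative ↥Y →* Multiplicative (M × ↥Y) := AddMonoidHom.toMultiplicative (AddMonoidHom.inr M ↥Y)
  have hdef : ∀ n : ↥(Y.comap f), χ (i₁ (.ofAdd (n : M))) * χ (i₂ (.ofAdd (fc f Y n))) =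
      χ' (i₁ (.ofAdd (n : M))) * χ' (i₂ (.ofAdd (fc f Y n))) := fun n => by
    have h' := DFunLike.congr_fun ((amsPoint ↥(Y.comap f) s).injective h) (.ofAdd n)
    rw [← map_mul, ← map_mul]
    have e : i₁ (.ofAdd (n : M)) * i₂ (.ofAdd (fc f Y n)) = Multiplicative.ofAdd (orbHom f Y n) :=
      congrArg Multiplicative.ofAdd (DFunLike.congr_fun (orbHom_eq f Y) n).symm
    rw [e]
    exact h'
  let g : Multiplicative M →* E := χ.comp i₁
  let g' : Multiplicative M →* E := χ'.comp i₁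
  let w : Multiplicative M →* E :=
    { toFun := fun m => g m⁻¹ * g' m
      map_one' := by simp
      map_mul' := fun m n => by
        rw [mul_inv, map_mul, map_mul]
        exact mul_mul_mul_comm _ _ _ _ }
  have hgg : ∀ m, g m * w m = g' m := fun m => by
    change g m * (g m⁻¹ * g' m) = g' m
    rw [← _root_.mul_assoc, ← map_mul, mul_inv_cancel, map_one, _root_.one_mul]
  have hker : ∀ k : M, f k = 0 → w (.ofAdd k) = 1 := fun k hk => by
    have hkY : k ∈ Y.comap f := by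
      change f k ∈ Y
      rw [hk]
      exact Y.zero_mem
    have h₀ := hdef ⟨k, hkY⟩
    have e : fc f Y ⟨k, hkY⟩ = 0 := Subtype.ext hk
    rw [e, ofAdd_zero, map_one, map_one, map_one, _root_.mul_one, _root_.mul_one] at h₀
    change g (Multiplicative.ofAdd k)⁻¹ * g' (Multiplicative.ofAdd k) = 1
    rw [show g' (Multiplicative.ofAdd k) = g (Multiplicative.ofAdd k) from h₀.symm, ← map_mul, inv_mul_cancel, map_one]
  have hw : ∀ m m' : M, f m = f m' → w (.ofAdd m) = w (.ofAdd m') := fun m m' e => by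
    have h₀ := hker (m - m') (by rw [map_sub, e, sub_self])
    rw [show Multiplicative.ofAdd m = Multiplicative.ofAdd (m - m') * Multiplicative.ofAdd m' by
      rw [← ofAdd_add, sub_add_cancel], map_mul, h₀, _root_.one_mul]
  choose d hd using fun z : f.range => z.2
  let wb : Multiplicative f.range →* E :=
    { toFun := fun z => w (.ofAdd (d z.toAdd))
      map_one' := hker _ (by rw [hd]; rfl)
      map_mul' := fun z z' => by
        rw [← map_mul, ← ofAdd_add]
        exact hw _ _ (by rw [map_add, hd, hd, hd]; rfl) }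
  have hwb : amsPoint M s w = amsPoint f.range s wb ≫ AMonS.map S f.rangeRestrict := by
    rw [amsPoint_map]
    refine congrArg _ (MonoidHom.ext fun m => ?_)
    exact hw m.toAdd _ (hd (f.rangeRestrict m.toAdd)).symm
  have e₁ : amsPoint (M × ↥Y) s χ' ≫ AMonS.map S (AddMonoidHom.inl M ↥Y) =
      (amsPoint (M × ↥Y) s χ ≫ AMonS.map S (AddMonoidHom.inl M ↥Y)) *
        (amsPoint f.range s wb ≫ AMonS.map S f.rangeRestrict) := by
    rw [← hwb, amsPoint_map, amsPoint_map, ← map_mul]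
    exact congrArg _ (MonoidHom.ext fun m => (hgg m).symm)
  have e₂ : amsPoint (M × ↥Y) s χ ≫ AMonS.map S (AddMonoidHom.inr M ↥Y) =
      (amsPoint f.range s wb ≫ AMonS.map S (toRange f Y hY)) *
        (amsPoint (M × ↥Y) s χ' ≫ AMonS.map S (AddMonoidHom.inr M ↥Y)) := by
    rw [amsPoint_map, amsPoint_map, amsPoint_map, ← map_mul]
    refine congrArg _ (MonoidHom.ext fun v => ?_)
    have hn : d (toRange f Y hY v.toAdd) ∈ Y.comap f := by
      change f _ ∈ Y
      rw [hd]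
      exact v.toAdd.2
    have h₀ := hdef ⟨_, hn⟩
    have e : fc f Y ⟨_, hn⟩ = v.toAdd := Subtype.ext (hd _)
    rw [e, ofAdd_toAdd] at h₀
    let x : Multiplicative M := Multiplicative.ofAdd (d (toRange f Y hY v.toAdd))
    change χ (i₂ v) = g x⁻¹ * g' x * χ' (i₂ v)
    rw [_root_.mul_assoc, show g' x * χ' (i₂ v) = g x * χ (i₂ v) from h₀.symm, ← _root_.mul_assoc, ← map_mul,
      inv_mul_cancel, map_one, _root_.one_mul]
  refine (lift_orbitFill Y a ψ.1 (amsPoint (M × ↥Y) s χ) t).trans ?_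
  refine Eq.trans ?_ (lift_orbitFill Y a ψ.1 (amsPoint (M × ↥Y) s χ') t).symm
  have e₃ := equivariant_range a hY ψ (amsPoint f.range s wb)
    (amsPoint (M × ↥Y) s χ' ≫ AMonS.map S (AddMonoidHom.inr M ↥Y)) t
  refine (congrArg (fun q => lift (amsPoint (M × ↥Y) s χ ≫ AMonS.map S (AddMonoidHom.inl M ↥Y)) (lift q t ≫ ψ.1) ≫ a.act) e₂).trans ?_
  refine (congrArg (fun q => lift (amsPoint (M × ↥Y) s χ ≫ AMonS.map S (AddMonoidHom.inl M ↥Y)) q ≫ a.act) e₃).trans ?_
  refine (MonAct.lift_mul_act a _ _ _).symm.trans ?_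
  exact congrArg (fun q => lift q (lift (amsPoint (M × ↥Y) s χ' ≫ AMonS.map S (AddMonoidHom.inr M ↥Y)) t ≫ ψ.1) ≫ a.act) e₁.symm

variable (f Y)

include hY in
theorem fpqc_orbHom : Flat (AMonS.map S (orbHom f Y)).left ∧ Surjective (AMonS.map S (orbHom f Y)).left ∧
    QuasiCompact (AMonS.map S (orbHom f Y)).left := by
  choose d hd using fun z : f.range => z.2
  exact fpqc_map (orbHom f Y) (fun z => (d z, 0)) (bijective_orbit f Y hY d hd)

/-- The section `A(Y) → A(M × Y)`. -/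
abbrev secMap : AMonS S ↥Y ⟶ AMonS S (M × ↥Y) := AMonS.map S (AddMonoidHom.snd M ↥Y)

theorem whiskerRight_orbHom_comp {T : Over S} (φ : (attr a (Y.comap f)).obj (op T)) :
    (AMonS.map S (orbHom f Y) ▷ T) ≫ φ.1 = orbitFill Y a ((AMonS.map S (fc f Y) ▷ T) ≫ φ.1) := by
  refine Magnet.hom_ext_lift₂ fun T' p t => ?_
  rw [lift_whiskerRight_assoc, comp_map_orbHom]
  refine Eq.trans ?_ (lift_orbitFill Y a _ p t).symm
  rw [lift_whiskerRight_assoc]
  have h := (MonAct.mem_eqvHom_iff φ.1).1 φ.2 T' (p ≫ AMonS.map S (AddMonoidHom.inl M ↥Y))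
    (p ≫ AMonS.map S (AddMonoidHom.inr M ↥Y) ≫ AMonS.map S (fc f Y)) t
  unfold subAct at h
  rw [MonAct.lift_restrict_act, MonAct.lift_regular_act] at h
  simp only [Category.assoc] at h ⊢
  exact h

theorem orbitFill_sec {T : Over S} (ψ : AMonS S ↥Y ⊗ T ⟶ X) :
    (secMap Y ▷ T) ≫ orbitFill Y a ψ = ψ := by
  refine Magnet.hom_ext_lift₂ fun T' b t => ?_
  rw [lift_whiskerRight_assoc]
  refine (lift_orbitFill Y a ψ (b ≫ secMap Y) t).trans ?_
  rw [Category.assoc, Category.assoc, secMap, ← AMonS.map_comp, ← AMonS.map_comp,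
    show (AddMonoidHom.snd M ↥Y).comp (AddMonoidHom.inl M ↥Y) = 0 from rfl,
    show (AddMonoidHom.snd M ↥Y).comp (AddMonoidHom.inr M ↥Y) = AddMonoidHom.id ↥Y from rfl,
    ams_map_zero, ams_map_id, Category.comp_id, ← Category.assoc, toUnit_unique (b ≫ toUnit _) (toUnit _)]
  have h := MonAct.lift_one_act a (lift b t ≫ ψ)
  rw [Hom.one_def] at h
  exact h

variable {f Y}

include hY in
theorem exists_comap_preimage {T : Over S} (ψ : (attr (a.restrict (AMonS.map S f)) Y).obj (op T)) :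
    ∃ φ : (attr a (Y.comap f)).obj (op T), (attrComap a f Y).app (op T) φ = ψ := by
  have hq := fpqc_whiskerRight _ (fpqc_orbHom (S := S) f Y hY) T
  obtain ⟨l, hl⟩ := exists_desc_fpqc hq (orbitFill Y a ψ.1) fun T' z z' hz => by
    refine hom_ext_affine _ _ fun E _ s w => ?_
    obtain ⟨p, t, e⟩ : ∃ (p : Over.mk s ⟶ AMonS S (M × ↥Y)) (t : Over.mk s ⟶ T), w ≫ z = lift p t :=
      ⟨(w ≫ z) ≫ fst _ _, (w ≫ z) ≫ snd _ _, by rw [← comp_lift, lift_fst_snd, Category.comp_id]⟩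
    obtain ⟨p', t', e'⟩ : ∃ (p' : Over.mk s ⟶ AMonS S (M × ↥Y)) (t' : Over.mk s ⟶ T), w ≫ z' = lift p' t' :=
      ⟨(w ≫ z') ≫ fst _ _, (w ≫ z') ≫ snd _ _, by rw [← comp_lift, lift_fst_snd, Category.comp_id]⟩
    have h : lift p t ≫ (AMonS.map S (orbHom f Y) ▷ T) = lift p' t' ≫ (AMonS.map S (orbHom f Y) ▷ T) := by
      rw [← e, ← e', Category.assoc, Category.assoc, hz]
    rw [lift_whiskerRight, lift_whiskerRight] at h
    have h₁ := congrArg (· ≫ fst _ _) h
    have h₂ := congrArg (· ≫ snd _ _) h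
    simp only [lift_fst, lift_snd] at h₁ h₂
    rw [← Category.assoc, e, ← Category.assoc, e', ← h₂]
    exact orbitFill_congr a hY ψ p p' t h₁
  have hl' : (AMonS.map S (fc f Y) ▷ T) ≫ l = ψ.1 := by
    have e : fc f Y = (AddMonoidHom.snd M ↥Y).comp (orbHom f Y) := AddMonoidHom.ext fun n => rfl
    rw [e, AMonS.map_comp S (AddMonoidHom.snd M ↥Y) (orbHom f Y), MonoidalCategory.comp_whiskerRight,
      Category.assoc, hl]
    exact orbitFill_sec Y a ψ.1
  refine ⟨⟨l, ?_⟩, Subtype.ext hl'⟩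
  unfold MonAct.IsEquivariant
  refine cancel_fpqc (fpqc_whiskerLeft _ hq (AMonS S M)) (Magnet.hom_ext_lift₂ fun T' g z => ?_)
  obtain ⟨p, t, rfl⟩ : ∃ (p : T' ⟶ AMonS S (M × ↥Y)) (t : T' ⟶ T), z = lift p t :=
    ⟨z ≫ fst _ _, z ≫ snd _ _, by rw [← comp_lift, lift_fst_snd, Category.comp_id]⟩
  have hl₂ : ∀ (q : T' ⟶ AMonS S (M × ↥Y)),
      lift (q ≫ AMonS.map S (orbHom f Y)) t ≫ l = lift q t ≫ orbitFill Y a ψ.1 := fun q => by
    rw [← hl, lift_whiskerRight_assoc]
  rw [lift_whiskerLeft_assoc, lift_whiskerLeft_assoc, lift_whiskerRight, MonAct.lift_prod_act_assoc,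
    MonAct.lift_trivial_act, lift_whiskerLeft_assoc]
  change lift (lift g (p ≫ AMonS.map S (orbHom f Y)) ≫
      ((MonAct.regular (AMonS S ↥(Y.comap f))).restrict (AMonS.map S (Y.comap f).subtype)).act) t ≫ l = _
  rw [MonAct.lift_restrict_act, MonAct.lift_regular_act]
  let gM := g ≫ AMonS.map S (AddMonoidHom.fst M ↥Y)
  have eq : (g ≫ AMonS.map S (Y.comap f).subtype) * (p ≫ AMonS.map S (orbHom f Y)) =
      (gM * p) ≫ AMonS.map S (orbHom f Y) := by
    rw [MonObj.mul_comp, Category.assoc, ← AMonS.map_comp]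
    rfl
  rw [eq, hl₂, hl₂]
  refine (lift_orbitFill Y a ψ.1 (gM * p) t).trans ?_
  refine Eq.trans ?_ (congrArg (fun q => lift g q ≫ a.act) (lift_orbitFill Y a ψ.1 p t)).symm
  rw [← MonAct.lift_mul_act, MonObj.mul_comp, MonObj.mul_comp, Category.assoc, Category.assoc, ← AMonS.map_comp,
    ← AMonS.map_comp, show (AddMonoidHom.fst M ↥Y).comp (AddMonoidHom.inl M ↥Y) = AddMonoidHom.id M from rfl,
    show (AddMonoidHom.fst M ↥Y).comp (AddMonoidHom.inr M ↥Y) = 0 from rfl, ams_map_id, ams_map_zero,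
    Category.comp_id, ← Category.assoc, toUnit_unique (g ≫ toUnit _) (toUnit _), ← Hom.one_def, _root_.one_mul]

include hY in
theorem isIso_attrComap : IsIso (attrComap a f Y) := by
  haveI : ∀ T, IsIso ((attrComap a f Y).app T) := fun T => by
    obtain ⟨T, rfl⟩ : ∃ T', T = op T' := ⟨T.unop, rfl⟩
    rw [isIso_iff_bijective]
    refine ⟨fun φ φ' h => Subtype.ext ?_, fun ψ => exists_comap_preimage a hY ψ⟩
    refine cancel_fpqc (fpqc_whiskerRight _ (fpqc_orbHom (S := S) f Y hY) T) ?_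
    rw [whiskerRight_orbHom_comp, whiskerRight_orbHom_comp]
    exact congrArg (orbitFill Y a) (congrArg Subtype.val h)
  exact NatIso.isIso_of_isIso_app _

end GrothLib.MagnetGr
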