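import Groth.Prelude.Def_Magnet4
import Mathlib.GroupTheory.FiniteAbelian.Basic
import Mathlib.Algebra.Module.PID
import Mathlib.Algebra.Order.BigOperators.Group.Finset

/-! # Weights separating a face -/

set_option autoImplicit false

open scoped BigOperators

namespace GrothLib.MagnetGr

theorem exists_hom_ne_zero {G : Type} [AddCommGroup G] [AddGroup.FG G] {w : G} (hw : ∀ k : ℕ, k • w = 0 → k = 0) :
    ∃ g : G →+ ℤ, 0 < g w := by
  have : Module.Finite ℤ G := Module.Finite.iff_addGroup_fg.2 inferInstance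
  let T := Submodule.torsion ℤ G
  have : Module.Free ℤ (G ⧸ T) := Module.free_of_finite_type_torsion_free'
  have hne : Submodule.mkQ T w ≠ 0 := by
    intro h
    rw [Submodule.mkQ_apply, Submodule.Quotient.mk_eq_zero] at h
    obtain ⟨⟨k, hk⟩, hk'⟩ := h
    have hk0 : k ≠ 0 := nonZeroDivisors.ne_zero hk
    have hkw : k • w = 0 := hk'
    have : k.natAbs • w = 0 := by
      rcases Int.natAbs_eq k with h | h
      · rw [← natCast_zsmul, ← h, hkw]
      · rw [← natCast_zsmul, show ((k.natAbs : ℤ)) = -k by omega, neg_zsmul, hkw, neg_zero]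
    exact hk0 (Int.natAbs_eq_zero.1 (hw _ this))
  let b := Module.Free.chooseBasis ℤ (G ⧸ T)
  obtain ⟨i, hi⟩ : ∃ i, b.repr (Submodule.mkQ T w) i ≠ 0 := by
    by_contra h
    push Not at h
    exact hne (b.repr.injective (by ext i; rw [h i, map_zero]; rfl))
  let g : G →+ ℤ := (((Finsupp.lapply i).comp b.repr.toLinearMap).comp (Submodule.mkQ T)).toAddMonoidHom
  rcases lt_or_gt_of_ne hi with h | h
  · exact ⟨-g, neg_pos.2 h⟩
  · exact ⟨g, h⟩

/-- Gordan's alternative for a finite family in an abelian group. -/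
theorem exists_pos_of_no_relation {α : Type} (s : Finset α) :
    ∀ {G : Type} [AddCommGroup G] [AddGroup.FG G] (v : α → G),
      (∀ c : α → ℕ, ∑ i ∈ s, c i • v i = 0 → ∀ i ∈ s, c i = 0) → ∃ d : G →+ ℤ, ∀ i ∈ s, 0 < d (v i) := by
  classical
  induction s using Finset.induction_on with
  | empty => exact fun v _ => ⟨0, by simp⟩
  | @insert w s hws ih =>
    intro G _ _ v hrel
    have hrel' : ∀ c : α → ℕ, ∑ i ∈ s, c i • v i = 0 → ∀ i ∈ s, c i = 0 := by
      intro c hc i hi
      have := hrel (Function.update c w 0) (by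
        rw [Finset.sum_insert hws, Function.update_self, zero_smul, zero_add, ← hc]
        exact Finset.sum_congr rfl fun j hj => by
          rw [Function.update_of_ne (ne_of_mem_of_not_mem hj hws)]) i (Finset.mem_insert_of_mem hi)
      rwa [Function.update_of_ne (ne_of_mem_of_not_mem hi hws)] at this
    have hw : ∀ k : ℕ, k • v w = 0 → k = 0 := by
      intro k hk
      have := hrel (Function.update 0 w k) (by
        rw [Finset.sum_insert hws, Function.update_self, hk, zero_add]
        exact Finset.sum_eq_zero fun j hj => by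
          rw [Function.update_of_ne (ne_of_mem_of_not_mem hj hws), Pi.zero_apply, zero_smul]) w
        (Finset.mem_insert_self w s)
      rwa [Function.update_self] at this
    by_cases hq : ∀ c : α → ℕ, ∑ i ∈ s, c i • v i ∈ AddSubgroup.zmultiples (v w) → ∀ i ∈ s, c i = 0
    · let q := QuotientAddGroup.mk' (AddSubgroup.zmultiples (v w))
      obtain ⟨f, hf⟩ := ih (q ∘ v) (fun c hc => hq c (by
        rw [← QuotientAddGroup.eq_zero_iff]
        simpa [q, map_sum, map_nsmul] using hc))
      obtain ⟨g, hg⟩ := exists_hom_ne_zero hw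
      let K : ℤ := 1 + ∑ i ∈ s, |g (v i)|
      refine ⟨K • f.comp q + g, fun i hi => ?_⟩
      rcases Finset.mem_insert.1 hi with rfl | hi
      · have : q (v i) = 0 := (QuotientAddGroup.eq_zero_iff _).2 (AddSubgroup.mem_zmultiples _)
        simpa [this] using hg
      · have h1 : 1 ≤ f (q (v i)) := hf i hi
        have h2 : |g (v i)| ≤ ∑ j ∈ s, |g (v j)| :=
          Finset.single_le_sum (f := fun j => |g (v j)|) (fun j _ => abs_nonneg _) hi
        have h3 : K * 1 ≤ K * f (q (v i)) := mul_le_mul_of_nonneg_left h1 (by positivity)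
        have h4 := neg_abs_le (g (v i))
        simp only [AddMonoidHom.add_apply, AddMonoidHom.smul_apply, AddMonoidHom.comp_apply, smul_eq_mul]
        simp only [K] at h3 ⊢
        linarith
    · push Not at hq
      obtain ⟨c, hc, i₀, hi₀, hi₀'⟩ := hq
      obtain ⟨t, ht⟩ := AddSubgroup.mem_zmultiples_iff.1 hc
      obtain ⟨d, hd⟩ := ih v hrel'
      have hpos : 0 < t * d (v w) := by
        have : d (t • v w) = d (∑ i ∈ s, c i • v i) := congrArg d ht
        rw [map_zsmul, map_sum, smul_eq_mul] at this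
        rw [this]
        refine Finset.sum_pos' (fun i hi => ?_) ⟨i₀, hi₀, ?_⟩
        · rw [map_nsmul]; exact nsmul_nonneg (hd i hi).le _
        · rw [map_nsmul]; exact nsmul_pos (hd i₀ hi₀) hi₀'
      have htpos : 0 < t := by
        by_contra htn
        push Not at htn
        have hsum : ∑ i ∈ insert w s, (Function.update c w t.natAbs) i • v i = 0 := by
          rw [Finset.sum_insert hws, Function.update_self]
          have : ∑ i ∈ s, Function.update c w t.natAbs i • v i = t • v w := by
            rw [ht]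
            exact Finset.sum_congr rfl fun j hj => by rw [Function.update_of_ne (ne_of_mem_of_not_mem hj hws)]
          rw [this, ← natCast_zsmul, show ((t.natAbs : ℤ)) = -t by omega, neg_zsmul, neg_add_cancel]
        have := hrel _ hsum i₀ (Finset.mem_insert_of_mem hi₀)
        rw [Function.update_of_ne (ne_of_mem_of_not_mem hi₀ hws)] at this
        exact hi₀' this
      refine ⟨d, fun i hi => ?_⟩
      rcases Finset.mem_insert.1 hi with rfl | hi
      · exact pos_of_mul_pos_right hpos htpos.le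
      · exact hd i hi

/-- A weight vanishing exactly on a face of a finitely generated magnet. -/
theorem exists_weight {M : Type} [AddCommGroup M] [AddGroup.FG M] {N F : AddSubmonoid M} (hN : N.FG)
    (hF : Magnet.IsFace N F) : ∃ d : M →+ ℤ, ∀ n ∈ N, 0 ≤ d n ∧ (d n = 0 ↔ n ∈ F) := by
  classical
  obtain ⟨s, hs⟩ := hN
  have hsN : ∀ i ∈ s, i ∈ N := fun i hi => hs ▸ AddSubmonoid.subset_closure hi
  let G₀ : AddSubgroup M := AddSubgroup.closure (F : Set M)
  have hG₀ : ∀ m, m ∈ G₀ → ∃ x ∈ F, ∃ y ∈ F, m + x = y := by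
    intro m hm
    induction hm using AddSubgroup.closure_induction with
    | mem z hz => exact ⟨0, F.zero_mem, z, hz, add_zero z⟩
    | zero => exact ⟨0, F.zero_mem, 0, F.zero_mem, add_zero 0⟩
    | add z z' _ _ hz hz' =>
      obtain ⟨x, hx, y, hy, h⟩ := hz
      obtain ⟨x', hx', y', hy', h'⟩ := hz'
      exact ⟨x + x', F.add_mem hx hx', y + y', F.add_mem hy hy', by rw [add_add_add_comm, h, h']⟩
    | neg z _ hz =>
      obtain ⟨x, hx, y, hy, h⟩ := hz
      exact ⟨y, hy, x, hx, by rw [← h]; abel⟩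
  let q := QuotientAddGroup.mk' G₀
  obtain ⟨d, hd⟩ := exists_pos_of_no_relation (s.filter (· ∉ F)) q (fun c hc i hi => by
    rw [show (∑ j ∈ s.filter (· ∉ F), c j • q j) = q (∑ j ∈ s.filter (· ∉ F), c j • j) by simp] at hc
    obtain ⟨x, hx, y, hy, h⟩ := hG₀ _ ((QuotientAddGroup.eq_zero_iff _).1 hc)
    have hmemN : ∀ t ⊆ s.filter (· ∉ F), ∑ j ∈ t, c j • j ∈ N := fun t ht =>
      sum_mem fun j hj => N.nsmul_mem (hsN j (Finset.mem_filter.1 (ht hj)).1) _
    have hin : ∑ j ∈ s.filter (· ∉ F), c j • j ∈ F :=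
      (hF.mem_of_add_mem _ (hmemN _ subset_rfl) x (hF.le hx) (h ▸ hy)).1
    by_contra hci
    rw [← Finset.add_sum_erase _ _ hi] at hin
    have h1 := (hF.mem_of_add_mem _ (N.nsmul_mem (hsN i (Finset.mem_filter.1 hi).1) _) _
      (hmemN _ (Finset.erase_subset _ _)) hin).1
    obtain ⟨k, hk⟩ := Nat.exists_eq_succ_of_ne_zero hci
    rw [hk, succ_nsmul] at h1
    exact (Finset.mem_filter.1 hi).2
      (hF.mem_of_add_mem _ (N.nsmul_mem (hsN i (Finset.mem_filter.1 hi).1) _) _ (hsN i (Finset.mem_filter.1 hi).1) h1).2)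
  refine ⟨d.comp q, fun n hn => ?_⟩
  have hF0 : ∀ m ∈ F, d (q m) = 0 := fun m hm => by
    rw [show q m = 0 from (QuotientAddGroup.eq_zero_iff _).2 (AddSubgroup.subset_closure hm), map_zero]
  rw [← hs] at hn
  induction hn using AddSubmonoid.closure_induction with
  | mem z hz =>
    by_cases hzF : z ∈ F
    · simp [hF0 z hzF, hzF]
    · have := hd z (Finset.mem_filter.2 ⟨hz, hzF⟩)
      exact ⟨this.le, ⟨fun h => absurd h this.ne', fun h => absurd h hzF⟩⟩
  | zero => simp [F.zero_mem]
  | add z z' hz hz' ih ih' =>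
    refine ⟨by simpa using add_nonneg ih.1 ih'.1, ?_, fun h => ?_⟩
    · intro h
      rw [map_add, add_eq_zero_iff_of_nonneg ih.1 ih'.1] at h
      exact F.add_mem (ih.2.1 h.1) (ih'.2.1 h.2)
    · obtain ⟨h1, h2⟩ := hF.mem_of_add_mem z (hs ▸ hz) z' (hs ▸ hz') h
      rw [map_add, ih.2.2 h1, ih'.2.2 h2, add_zero]

end GrothLib.MagnetGr
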