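import Groth.Agent.Lib.MagnetGr25.Lift
import Groth.Agent.Lib.MagnetGr25.Weight
import Groth.Agent.Lib.MagnetSheaf25.Basic
import Mathlib.AlgebraicGeometry.Sites.BigZariski
import Mathlib.CategoryTheory.Limits.Types.Pullbacks

/-! # Cartesian squares of sheaves are checked locally -/

set_option autoImplicit false
set_option backward.isDefEq.respectTransparency false
set_option backward.isDefEq.respectTransparency.types false

universe v w u

open CategoryTheory MonoidalCategory CartesianMonoidalCategory AlgebraicGeometry Opposite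

noncomputable section

namespace GrothLib.MagnetGr

open Magnet

theorem isPullback_of_cover {C : Type u} [Category.{v} C] (J : GrothendieckTopology C) {P A B R : Cᵒᵖ ⥤ Type w}
    (t : P ⟶ A) (l : P ⟶ B) (r : A ⟶ R) (b : B ⟶ R) (hw : t ≫ r = l ≫ b) (hP : Presieve.IsSheaf J P)
    (hA : Presieve.IsSheaf J A) (hB : Presieve.IsSheaf J B) (good : C → Prop)
    (hcov : ∀ T : C, ∃ Z ∈ J T, ∀ {W : C} (g : W ⟶ T), Z g →
      ∃ (W' : C) (k : W ⟶ W') (g' : W' ⟶ T), good W' ∧ k ≫ g' = g)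
    (hinj : ∀ W : C, good W → ∀ x y, t.app (op W) x = t.app (op W) y → l.app (op W) x = l.app (op W) y → x = y)
    (hsurj : ∀ W : C, good W → ∀ x y, r.app (op W) x = b.app (op W) y →
      ∃ z, t.app (op W) z = x ∧ l.app (op W) z = y) : IsPullback t l r b := by
  have hall : ∀ (T : C) x y, t.app (op T) x = t.app (op T) y → l.app (op T) x = l.app (op T) y → x = y := by
    intro T x y h₁ h₂
    obtain ⟨Z, hZ, hfac⟩ := hcov T
    refine (hP Z hZ).isSeparatedFor.ext fun W g hg => ?_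
    obtain ⟨W', k, g', hW', rfl⟩ := hfac g hg
    rw [op_comp, Functor.map_comp, ConcreteCategory.comp_apply, ConcreteCategory.comp_apply]
    congr 1
    refine hinj W' hW' _ _ ?_ ?_
    · rw [NatTrans.naturality_apply, NatTrans.naturality_apply, h₁]
    · rw [NatTrans.naturality_apply, NatTrans.naturality_apply, h₂]
  refine IsPullback.of_forall_isPullback_app fun X => ?_
  obtain ⟨T⟩ := X
  rw [Limits.Types.isPullback_iff]
  refine ⟨by rw [← NatTrans.comp_app, hw, NatTrans.comp_app], fun x y h => hall T x y h.1 h.2, fun x y h => ?_⟩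
  obtain ⟨Z, hZ, hfac⟩ := hcov T
  have hloc : ∀ (W : C) (g : W ⟶ T), Z g →
      ∃ z, t.app (op W) z = A.map g.op x ∧ l.app (op W) z = B.map g.op y := by
    intro W g hg
    obtain ⟨W', k, g', hW', rfl⟩ := hfac g hg
    obtain ⟨z, hz₁, hz₂⟩ := hsurj W' hW' (A.map g'.op x) (B.map g'.op y)
      (by rw [NatTrans.naturality_apply, NatTrans.naturality_apply, h])
    refine ⟨P.map k.op z, ?_, ?_⟩
    · rw [NatTrans.naturality_apply, hz₁, op_comp, Functor.map_comp, ConcreteCategory.comp_apply]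
    · rw [NatTrans.naturality_apply, hz₂, op_comp, Functor.map_comp, ConcreteCategory.comp_apply]
  choose z hz₁ hz₂ using hloc
  have hcomp : Presieve.FamilyOfElements.Compatible (R := Z.arrows) (P := P) fun W g hg => z W g hg := by
    intro W₁ W₂ W g₁ g₂ f₁ f₂ h₁ h₂ e
    refine hall W _ _ ?_ ?_
    · rw [NatTrans.naturality_apply, NatTrans.naturality_apply, hz₁, hz₁, ← ConcreteCategory.comp_apply,
        ← ConcreteCategory.comp_apply, ← Functor.map_comp, ← Functor.map_comp, ← op_comp, ← op_comp, e]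
    · rw [NatTrans.naturality_apply, NatTrans.naturality_apply, hz₂, hz₂, ← ConcreteCategory.comp_apply,
        ← ConcreteCategory.comp_apply, ← Functor.map_comp, ← Functor.map_comp, ← op_comp, ← op_comp, e]
  obtain ⟨q, hq, -⟩ := hP Z hZ _ hcomp
  refine ⟨q, (hA Z hZ).isSeparatedFor.ext fun W g hg => ?_, (hB Z hZ).isSeparatedFor.ext fun W g hg => ?_⟩
  · rw [← NatTrans.naturality_apply, hq g hg, hz₁]
  · rw [← NatTrans.naturality_apply, hq g hg, hz₂]

variable {S : Scheme.{u}}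

/-- An affine scheme over an affine open of the base. -/
def GoodBase (T : Over S) : Prop :=
  ∃ (E : Type u) (_ : CommRing E) (s : Spec (CommRingCat.of E) ⟶ S) (W : S.Opens),
    IsAffineOpen W ∧ Set.range s.base ⊆ (W : Set S) ∧ T = Over.mk s

theorem exists_goodBase_cover (T : Over S) :
    ∃ Z ∈ (Scheme.zariskiTopology.over S) T, ∀ {W : Over S} (g : W ⟶ T), Z g →
      ∃ (W' : Over S) (k : W ⟶ W') (g' : W' ⟶ T), GoodBase W' ∧ k ≫ g' = g := by
  let Z : Sieve T :=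
    { arrows := fun {W} g => ∃ (W' : Over S) (k : W ⟶ W') (g' : W' ⟶ T), GoodBase W' ∧ k ≫ g' = g
      downward_closed := fun {W V g} hg h => by
        obtain ⟨W', k, g', hW', rfl⟩ := hg
        exact ⟨W', h ≫ k, g', hW', Category.assoc _ _ _⟩ }
  refine ⟨Z, ?_, fun g hg => hg⟩
  have hloc : ∀ p : T.left, ∃ (W : S.Opens) (V : T.left.Opens), IsAffineOpen W ∧ IsAffineOpen V ∧ p ∈ V ∧
      V ≤ T.hom ⁻¹ᵁ W := by
    intro p
    obtain ⟨W, hW, hpW, -⟩ := exists_isAffineOpen_mem_and_subset (x := T.hom.base p) (U := ⊤) trivial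
    obtain ⟨V, hV, hpV, hVW⟩ := exists_isAffineOpen_mem_and_subset (x := p) (U := T.hom ⁻¹ᵁ W) hpW
    exact ⟨W, V, hW, hV, hpV, hVW⟩
  choose W V hW hV hpV hVW using hloc
  let 𝒱 : T.left.OpenCover := Scheme.Cover.mkOfCovers T.left (fun p => Spec (CommRingCat.of Γ(T.left, V p)))
    (fun p => (hV p).fromSpec) (fun p => ⟨p, by
      have := (hV p).range_fromSpec.ge (hpV p)
      exact this⟩) (fun p => (hV p).isOpenImmersion_fromSpec)
  rw [GrothendieckTopology.mem_over_iff]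
  refine GrothendieckTopology.superset_covering _ ?_ 𝒱.mem_grothendieckTopology
  rw [Sieve.generate_le_iff]
  rintro _ _ ⟨p⟩
  rw [Sieve.overEquiv_iff]
  refine ⟨Over.mk ((hV p).fromSpec ≫ T.hom), Over.homMk (𝟙 _) (by exact Category.id_comp _),
    Over.homMk (hV p).fromSpec rfl, ⟨Γ(T.left, V p), inferInstance, (hV p).fromSpec ≫ T.hom, W p, hW p, ?_, rfl⟩, ?_⟩
  · rintro _ ⟨q, rfl⟩
    exact hVW p ((hV p).range_fromSpec.le ⟨q, rfl⟩)
  · exact Over.OverMorphism.ext (Category.id_comp _)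

variable {M : Type} [AddCommMonoid M] {X U : Over S} {aX : MonAct (AMonS S M) X} {aU : MonAct (AMonS S M) U}
  {f : U ⟶ X} {N F : AddSubmonoid M}

theorem isSheaf_attr (a : MonAct (AMonS S M) X) (N : AddSubmonoid M) :
    Presieve.IsSheaf (Scheme.zariskiTopology.over S) (attr a N) :=
  MagnetSheaf.isSheaf_eqvHom _ (MagnetSheaf.isSheaf_yoneda_over _ X) _ _

/-- The square of the attractors is cartesian as soon as it is so on good bases. -/
theorem isPullback_of_goodBase (hFN : IsFace N F) (hf : MonAct.IsEquivariant aU aX f)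
    (hinj : ∀ W : Over S, GoodBase W → ∀ x y : (attr aU N).obj (op W), x.1 ≫ f = y.1 ≫ f →
      (AMonS.faceMap S hFN ▷ W) ≫ x.1 = (AMonS.faceMap S hFN ▷ W) ≫ y.1 → x = y)
    (hsurj : ∀ W : Over S, GoodBase W → ∀ (φ : (attr aX N).obj (op W)) (ψ : (attr aU F).obj (op W)),
      ψ.1 ≫ f = (AMonS.faceMap S hFN ▷ W) ≫ φ.1 →
        ∃ Ψ : (attr aU N).obj (op W), Ψ.1 ≫ f = φ.1 ∧ (AMonS.faceMap S hFN ▷ W) ≫ Ψ.1 = ψ.1) :
    IsPullback (MonAct.eqvHom.postcomp (subAct S M N) f hf) (attrFace aU hFN) (attrFace aX hFN)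
      (MonAct.eqvHom.postcomp (subAct S M F) f hf) := by
  refine isPullback_of_cover (Scheme.zariskiTopology.over S) _ _ _ _ ?_ (isSheaf_attr aU N) (isSheaf_attr aX N)
    (isSheaf_attr aU F) GoodBase exists_goodBase_cover (fun W hW x y h₁ h₂ => ?_) (fun W hW φ ψ h => ?_)
  · ext T φ
    exact Subtype.ext (Category.assoc _ _ _).symm
  · exact hinj W hW x y (congrArg Subtype.val h₁) (congrArg Subtype.val h₂)
  · obtain ⟨Ψ, h₁, h₂⟩ := hsurj W hW φ ψ (congrArg Subtype.val h).symm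
    exact ⟨Ψ, Subtype.ext h₁, Subtype.ext h₂⟩

/-- The square is cartesian when a weight separates the face. -/
theorem hinj_of_weight [Etale f.left] (hFN : IsFace N F) {d : M →+ ℤ}
    (hd : ∀ n ∈ N, 0 ≤ d n ∧ (d n = 0 ↔ n ∈ F)) (W : Over S) (hW : GoodBase W) (x y : (attr aU N).obj (op W))
    (h₁ : x.1 ≫ f = y.1 ≫ f) (h₂ : (AMonS.faceMap S hFN ▷ W) ≫ x.1 = (AMonS.faceMap S hFN ▷ W) ≫ y.1) : x = y := by
  obtain ⟨E, _, s, W₀, -, -, rfl⟩ := hW
  exact Subtype.ext (eq_of_face_of_comp hFN (fun k => (hd _ k.toAdd.2).1) (fun k => (hd _ k.toAdd.2).2) x.2 y.2 h₁ h₂)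

theorem hsurj_of_weight [Etale f.left] [IsAffineHom U.hom] (hFN : IsFace N F) (hf : MonAct.IsEquivariant aU aX f)
    {d : M →+ ℤ} (hd : ∀ n ∈ N, 0 ≤ d n ∧ (d n = 0 ↔ n ∈ F)) (W : Over S) (hW : GoodBase W)
    (φ : (attr aX N).obj (op W)) (ψ : (attr aU F).obj (op W)) (h : ψ.1 ≫ f = (AMonS.faceMap S hFN ▷ W) ≫ φ.1) :
    ∃ Ψ : (attr aU N).obj (op W), Ψ.1 ≫ f = φ.1 ∧ (AMonS.faceMap S hFN ▷ W) ≫ Ψ.1 = ψ.1 := by
  obtain ⟨E, _, s, W₀, hW₀, hs, rfl⟩ := hW
  obtain ⟨C, hC⟩ := exists_chart_of_isAffineHom aU W₀ hW₀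
  exact exists_attr_lift hFN (fun k => (hd _ k.toAdd.2).1) (fun k => (hd _ k.toAdd.2).2) hf C hW₀ hC hs φ ψ h

end GrothLib.MagnetGr
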