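import Groth.Agent.Lib.MagnetGr25.SmoothLift
import Mathlib.AlgebraicGeometry.Morphisms.ClosedImmersion
import Mathlib.CategoryTheory.Limits.Over

/-! # Actions on push-outs along a face -/

set_option autoImplicit false
set_option backward.isDefEq.respectTransparency false
set_option backward.isDefEq.respectTransparency.types false

universe u v w

open CategoryTheory CategoryTheory.Limits MonoidalCategory CartesianMonoidalCategory AlgebraicGeometry

noncomputable section

namespace GrothLib.MagnetGr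

open Magnet

section Abstract

open scoped MonObj

variable {C : Type v} [Category.{w} C] [CartesianMonoidalCategory C] {G : C} [MonObj G]
variable {K A L P : C} {i : K ⟶ A} {j : K ⟶ L} {ν₁ : A ⟶ P} {ν₂ : L ⟶ P}

/-- An action on a push-out, from compatible actions on the corners. -/
theorem exists_act_pushout (hP : IsPushout i j ν₁ ν₂) (hG : IsPushout (G ◁ i) (G ◁ j) (G ◁ ν₁) (G ◁ ν₂))
    (hGG : IsPushout (G ◁ G ◁ i) (G ◁ G ◁ j) (G ◁ G ◁ ν₁) (G ◁ G ◁ ν₂))
    (sK : MonAct G K) (sA : MonAct G A) (sL : MonAct G L)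
    (hi : MonAct.IsEquivariant sK sA i) (hj : MonAct.IsEquivariant sK sL j) :
    ∃ aP : MonAct G P, MonAct.IsEquivariant sA aP ν₁ ∧ MonAct.IsEquivariant sL aP ν₂ ∧
      ∀ (X : C) (aX : MonAct G X) (f₁ : A ⟶ X) (f₂ : L ⟶ X) (w : i ≫ f₁ = j ≫ f₂),
        MonAct.IsEquivariant sA aX f₁ → MonAct.IsEquivariant sL aX f₂ →
          MonAct.IsEquivariant aP aX (hP.desc f₁ f₂ w) := by
  let act : G ⊗ P ⟶ P := hG.desc (sA.act ≫ ν₁) (sL.act ≫ ν₂) (by
    rw [← reassoc_of% (show sK.act ≫ i = (G ◁ i) ≫ sA.act from hi), hP.w,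
      reassoc_of% (show sK.act ≫ j = (G ◁ j) ≫ sL.act from hj)])
  have h₁ : (G ◁ ν₁) ≫ act = sA.act ≫ ν₁ := hG.inl_desc _ _ _
  have h₂ : (G ◁ ν₂) ≫ act = sL.act ≫ ν₂ := hG.inr_desc _ _ _
  have hone : lift (toUnit P ≫ η[G]) (𝟙 P) ≫ act = 𝟙 P := by
    have key : ∀ {Z : C} (s : MonAct G Z) (ν : Z ⟶ P), (G ◁ ν) ≫ act = s.act ≫ ν →
        ν ≫ lift (toUnit P ≫ η[G]) (𝟙 P) ≫ act = ν ≫ 𝟙 P := by
      intro Z s ν h
      rw [comp_lift_assoc, Category.comp_id, ← Category.assoc ν, show ν ≫ toUnit P = toUnit Z from toUnit_unique _ _,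
        ← Category.id_comp ν, ← lift_whiskerLeft, Category.assoc, h, ← Category.assoc, ← Hom.one_def,
        s.lift_one_act]
    exact hP.hom_ext (key sA ν₁ h₁) (key sL ν₂ h₂)
  have hmul : lift (fst G (G ⊗ P) * (snd G (G ⊗ P) ≫ fst G P)) (snd G (G ⊗ P) ≫ snd G P) ≫ act =
      (G ◁ act) ≫ act := by
    have key : ∀ {Z : C} (s : MonAct G Z) (ν : Z ⟶ P), (G ◁ ν) ≫ act = s.act ≫ ν →
        (G ◁ G ◁ ν) ≫ lift (fst G (G ⊗ P) * (snd G (G ⊗ P) ≫ fst G P)) (snd G (G ⊗ P) ≫ snd G P) ≫ act =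
          (G ◁ G ◁ ν) ≫ (G ◁ act) ≫ act := by
      intro Z s ν h
      rw [← MonoidalCategory.whiskerLeft_comp_assoc, h, MonoidalCategory.whiskerLeft_comp_assoc, h]
      apply Magnet.hom_ext_lift₂
      intro T g z
      obtain ⟨h', x, rfl⟩ : ∃ (h' : T ⟶ G) (x : T ⟶ Z), z = lift h' x :=
        ⟨z ≫ fst _ _, z ≫ snd _ _, by rw [← comp_lift, lift_fst_snd, Category.comp_id]⟩
      rw [lift_whiskerLeft_assoc, lift_whiskerLeft, lift_whiskerLeft_assoc, comp_lift_assoc, MonObj.comp_mul,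
        lift_fst, lift_snd_assoc, lift_snd_assoc, lift_fst, lift_snd, ← lift_whiskerLeft, Category.assoc, h,
        ← Category.assoc, s.lift_mul_act, Category.assoc]
    exact hGG.hom_ext (key sA ν₁ h₁) (key sL ν₂ h₂)
  let aP : MonAct G P := MonAct.mk' act
    (fun T x => by
      have := congrArg (x ≫ ·) hone
      simp only [comp_lift_assoc, Category.comp_id] at this
      rw [← Category.assoc x, show x ≫ toUnit P = toUnit T from toUnit_unique _ _, ← Hom.one_def] at this
      exact this)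
    (fun T g h x => by
      have := congrArg (lift g (lift h x) ≫ ·) hmul
      simp only [comp_lift_assoc, MonObj.comp_mul, lift_fst, lift_snd_assoc, lift_snd, lift_whiskerLeft_assoc] at this
      exact this)
  refine ⟨aP, h₁.symm, h₂.symm, fun X aX f₁ f₂ w e₁ e₂ => ?_⟩
  change act ≫ hP.desc f₁ f₂ w = (G ◁ hP.desc f₁ f₂ w) ≫ aX.act
  refine hG.hom_ext ?_ ?_
  · rw [reassoc_of% h₁, hP.inl_desc, ← MonoidalCategory.whiskerLeft_comp_assoc, hP.inl_desc]
    exact e₁
  · rw [reassoc_of% h₂, hP.inr_desc, ← MonoidalCategory.whiskerLeft_comp_assoc, hP.inr_desc]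
    exact e₂

end Abstract

open MagnetPts

variable {S : Scheme.{u}}

/-- The map of spectra over `S`. -/
abbrev ov {E E' : Type u} [CommRing E] [CommRing E'] {s : Spec (CommRingCat.of E) ⟶ S}
    {s' : Spec (CommRingCat.of E') ⟶ S} (φ : E →+* E') (h : Spec.map (CommRingCat.ofHom φ) ≫ s = s') :
    Over.mk s' ⟶ Over.mk s :=
  Over.homMk (Spec.map (CommRingCat.ofHom φ)) h

variable (L : Type) [AddCommMonoid L]

/-- `A(L) ×_S Spec E` is `Spec E[L]`. -/
def isoUniv {E : Type u} [CommRing E] (s : Spec (CommRingCat.of E) ⟶ S) :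
    Over.mk (str s (cst : E →+* MA E L)) ≅ AMonS S L ⊗ Over.mk s :=
  haveI := isIso_univ (N := L) s
  Over.isoMk (asIso (univ L s).left) (Over.w (univ L s))

theorem isoUniv_hom {E : Type u} [CommRing E] (s : Spec (CommRingCat.of E) ⟶ S) :
    (isoUniv L s).hom = univ L s := Over.OverMorphism.ext rfl

theorem pt_base' {E E' : Type u} [CommRing E] [CommRing E'] {s : Spec (CommRingCat.of E) ⟶ S}
    (i : E →+* E') {E'' : Type u} [CommRing E''] (j : E' →+* E'') (χ : Multiplicative L →* E'') :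
    @Eq (Spec (CommRingCat.of E'') ⟶ (AMonS S L ⊗ Over.mk s).left)
      ((pt (str s i) j χ).left ≫ (AMonS S L ◁ toT s i).left) (pt s (j.comp i) χ).left := by
  refine hom_ext_left _ _ ?_ ?_
  · rw [Category.assoc, ← Over.comp_left, whiskerLeft_snd, Over.comp_left, ← Category.assoc, ← Over.comp_left,
      pt_snd]
    refine Eq.trans ?_ (congrArg CommaMorphism.left (pt_snd s (j.comp i) χ)).symm
    change Spec.map _ ≫ Spec.map _ = Spec.map _
    rw [← Spec.map_comp]
    rfl
  · rw [Category.assoc]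
    erw [← Category.assoc (AMonS S L ◁ toT s i).left]
    rw [← Over.comp_left, whiskerLeft_fst, ← Category.assoc, ← Over.comp_left, pt_fst, amsPoint_fst,
      ← Category.assoc, ← Over.comp_left, pt_fst, amsPoint_fst]

theorem isoUniv_naturality {E E' : Type u} [CommRing E] [CommRing E'] {s : Spec (CommRingCat.of E) ⟶ S}
    {s' : Spec (CommRingCat.of E') ⟶ S} (φ : E →+* E') (h : Spec.map (CommRingCat.ofHom φ) ≫ s = s')
    (h' : Spec.map (CommRingCat.ofHom (MonoidAlgebra.mapRingHom (Multiplicative L) φ)) ≫ str s (cst : E →+* MA E L) =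
      str s' (cst : E' →+* MA E' L)) :
    ov (MonoidAlgebra.mapRingHom (Multiplicative L) φ) h' ≫ (isoUniv L s).hom =
      (isoUniv L s').hom ≫ (AMonS S L ◁ ov φ h) := by
  subst h
  apply Over.OverMorphism.ext
  rw [isoUniv_hom, isoUniv_hom, Over.comp_left, Over.comp_left]
  change Spec.map _ ≫ _ = _
  rw [pt_comp s (cst : E →+* MA E L) uni (MonoidAlgebra.mapRingHom (Multiplicative L) φ)
    ((cst : E' →+* MA E' L).comp φ) (RingHom.ext fun r => by simp [MonoidAlgebra.singleOneRingHom]),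
    show ((MonoidAlgebra.mapRingHom (Multiplicative L) φ : MA E L →+* MA E' L) : MA E L →* MA E' L).comp uni = uni
      from MonoidHom.ext fun m => by simp]
  refine Eq.trans ?_ (pt_base' L φ (cst : E' →+* MA E' L) uni).symm
  rfl

/-- A push-out square of spectra over `S` from a fibre square of rings. -/
theorem isPushout_ov {B₀ B A' C : Type u} [CommRing B₀] [CommRing B] [CommRing A'] [CommRing C]
    {f : B₀ →+* B} {g : B₀ →+* A'} {q : B →+* C} {p : A' →+* C} (hsq : Misc6.FibreSquare f g q p)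
    {s₀ : Spec (CommRingCat.of B₀) ⟶ S} {sB : Spec (CommRingCat.of B) ⟶ S} {sA : Spec (CommRingCat.of A') ⟶ S}
    {sC : Spec (CommRingCat.of C) ⟶ S} (hp : Spec.map (CommRingCat.ofHom p) ≫ sA = sC)
    (hq : Spec.map (CommRingCat.ofHom q) ≫ sB = sC) (hg : Spec.map (CommRingCat.ofHom g) ≫ s₀ = sA)
    (hf : Spec.map (CommRingCat.ofHom f) ≫ s₀ = sB) :
    IsPushout (ov p hp) (ov q hq) (ov g hg) (ov f hf) :=
  IsPushout.of_map_of_faithful (Over.forget S) (Misc6.isPushout_spec (f := CommRingCat.ofHom f)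
    (g := CommRingCat.ofHom g) (q := CommRingCat.ofHom q) (p := CommRingCat.ofHom p) hsq)

/-- Such a square stays a push-out after multiplying with a diagonalizable monoid scheme. -/
theorem isPushout_whisker {B₀ B A' C : Type u} [CommRing B₀] [CommRing B] [CommRing A'] [CommRing C]
    {f : B₀ →+* B} {g : B₀ →+* A'} {q : B →+* C} {p : A' →+* C} (hsq : Misc6.FibreSquare f g q p)
    {s₀ : Spec (CommRingCat.of B₀) ⟶ S} {sB : Spec (CommRingCat.of B) ⟶ S} {sA : Spec (CommRingCat.of A') ⟶ S}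
    {sC : Spec (CommRingCat.of C) ⟶ S} (hp : Spec.map (CommRingCat.ofHom p) ≫ sA = sC)
    (hq : Spec.map (CommRingCat.ofHom q) ≫ sB = sC) (hg : Spec.map (CommRingCat.ofHom g) ≫ s₀ = sA)
    (hf : Spec.map (CommRingCat.ofHom f) ≫ s₀ = sB) :
    IsPushout (AMonS S L ◁ ov p hp) (AMonS S L ◁ ov q hq) (AMonS S L ◁ ov g hg) (AMonS S L ◁ ov f hf) ∧
    IsPushout (AMonS S L ◁ AMonS S L ◁ ov p hp) (AMonS S L ◁ AMonS S L ◁ ov q hq)
      (AMonS S L ◁ AMonS S L ◁ ov g hg) (AMonS S L ◁ AMonS S L ◁ ov f hf) := by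
  have h' : ∀ {E E' : Type u} [CommRing E] [CommRing E'] {s : Spec (CommRingCat.of E) ⟶ S}
      {s' : Spec (CommRingCat.of E') ⟶ S} (φ : E →+* E'), Spec.map (CommRingCat.ofHom φ) ≫ s = s' →
      Spec.map (CommRingCat.ofHom (MonoidAlgebra.mapRingHom (Multiplicative L) φ)) ≫ str s (cst : E →+* MA E L) =
        str s' (cst : E' →+* MA E' L) := by
    intro E E' _ _ s s' φ h
    subst h
    simp only [str, specMap_comp]
    congr 3
    exact RingHom.ext fun r => by simp [MonoidAlgebra.singleOneRingHom]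
  constructor
  · exact (isPushout_ov (fibreSquare_MA hsq L) (h' p hp) (h' q hq) (h' g hg) (h' f hf)).of_iso
      (isoUniv L sC) (isoUniv L sA) (isoUniv L sB) (isoUniv L s₀) (isoUniv_naturality L p hp _)
      (isoUniv_naturality L q hq _) (isoUniv_naturality L g hg _) (isoUniv_naturality L f hf _)
  · have key : ∀ {E E' : Type u} [CommRing E] [CommRing E'] {s : Spec (CommRingCat.of E) ⟶ S}
        {s' : Spec (CommRingCat.of E') ⟶ S} (φ : E →+* E') (h : Spec.map (CommRingCat.ofHom φ) ≫ s = s'),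
        ov (MonoidAlgebra.mapRingHom (Multiplicative L) (MonoidAlgebra.mapRingHom (Multiplicative L) φ))
            (h' _ (h' φ h)) ≫ (isoUniv L _ ≪≫ whiskerLeftIso _ (isoUniv L s)).hom =
          (isoUniv L _ ≪≫ whiskerLeftIso _ (isoUniv L s')).hom ≫ (AMonS S L ◁ AMonS S L ◁ ov φ h) := by
      intro E E' _ _ s s' φ h
      rw [Iso.trans_hom, Iso.trans_hom, whiskerLeftIso_hom, whiskerLeftIso_hom, ← Category.assoc,
        isoUniv_naturality L _ (h' φ h) _, Category.assoc, Category.assoc, ← MonoidalCategory.whiskerLeft_comp,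
        ← MonoidalCategory.whiskerLeft_comp, isoUniv_naturality L φ h _]
    exact (isPushout_ov (fibreSquare_MA (fibreSquare_MA hsq L) L) (h' _ (h' p hp)) (h' _ (h' q hq))
      (h' _ (h' g hg)) (h' _ (h' f hf))).of_iso
      (isoUniv L _ ≪≫ whiskerLeftIso _ (isoUniv L sC)) (isoUniv L _ ≪≫ whiskerLeftIso _ (isoUniv L sA))
      (isoUniv L _ ≪≫ whiskerLeftIso _ (isoUniv L sB)) (isoUniv L _ ≪≫ whiskerLeftIso _ (isoUniv L s₀))
      (key p hp) (key q hq) (key g hg) (key f hf)

end GrothLib.MagnetGr
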