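import Groth.Agent.Lib.MagnetGr25.Glue
import Groth.Agent.Lib.MagnetGr25.Union
import Groth.Agent.Lib.MagnetGr25.Formal
import Groth.Agent.Lib.MagnetGr25.Face

/-! # The deformation retraction of an attractor onto the attractor of a face -/

set_option autoImplicit false
set_option backward.isDefEq.respectTransparency false
set_option backward.isDefEq.respectTransparency.types false

universe u

open CategoryTheory CategoryTheory.Limits MonoidalCategory CartesianMonoidalCategory MonObj AlgebraicGeometry Opposite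

noncomputable section

namespace GrothLib.MagnetGr

open Magnet MagnetPts MagnetBB

variable {S : Scheme.{u}} {M : Type} [AddCommMonoid M] {X : Over S} {a : MonAct (AMonS S M) X}
  {N F : AddSubmonoid M}

/-- Equality of points of attractors is local. -/
theorem eq_of_goodBase {T : Over S} (x y : (attr a N).obj (op T))
    (h : ∀ (W : Over S) (g : W ⟶ T), GoodBase W → (attr a N).map g.op x = (attr a N).map g.op y) : x = y := by
  obtain ⟨Z, hZ, hfac⟩ := exists_goodBase_cover T
  refine (isSheaf_attr a N Z hZ).isSeparatedFor.ext fun W g hg => ?_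
  obtain ⟨W', k, g', hW', rfl⟩ := hfac g hg
  rw [op_comp, Functor.map_comp, ConcreteCategory.comp_apply, ConcreteCategory.comp_apply, h W' g' hW']

/-- The map from `ℤ[t]` attached to an element. -/
def lineRing {C : Type u} [CommRing C] (c : C) : MA (ULift.{u} ℤ) ↥N1 →+* C :=
  evC ((Int.castRingHom C).comp (ULift.ringEquiv (R := ℤ)).toRingHom) (ch c)

theorem comp_lineRing {C C' : Type u} [CommRing C] [CommRing C'] (h : C →+* C') (c : C) :
    h.comp (lineRing c) = lineRing (h c) := by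
  rw [lineRing, lineRing, comp_evC, comp_ch, uz_hom_ext (h.comp _)]

/-- The point of the affine line attached to a function. -/
def cM (T : Over S) (c : Γ(T.left, ⊤)) : T ⟶ AMonS S ↥N1 :=
  Over.homMk (pullback.lift (T.left.toSpecΓ ≫ Spec.map (CommRingCat.ofHom (lineRing c))) T.hom
    (specULiftZIsTerminal.hom_ext _ _)) (pullback.lift_snd _ _ _)

theorem cM_fst (T : Over S) (c : Γ(T.left, ⊤)) :
    (cM T c).left ≫ pullback.fst _ _ = T.left.toSpecΓ ≫ Spec.map (CommRingCat.ofHom (lineRing c)) :=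
  pullback.lift_fst _ _ _

theorem comp_cM {T T' : Over S} (t : T' ⟶ T) (c : Γ(T.left, ⊤)) : t ≫ cM T c = cM T' (t.left.appTop c) := by
  apply hom_ext_fst
  rw [Over.comp_left, Category.assoc, cM_fst, cM_fst, Scheme.toSpecΓ_naturality_assoc, ← Spec.map_comp,
    ← comp_lineRing]
  rfl

theorem cM_spec {E : Type u} [CommRing E] (s : Spec (CommRingCat.of E) ⟶ S) (c : Γ(Spec (CommRingCat.of E), ⊤)) :
    cM (Over.mk s) c = amsPoint ↥N1 s (ch ((Scheme.ΓSpecIso (CommRingCat.of E)).hom c)) := by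
  apply hom_ext_fst
  rw [cM_fst, amsPoint_fst]
  change (Spec (CommRingCat.of E)).toSpecΓ ≫ _ = _
  rw [← SpecMap_ΓSpecIso_hom, ← Spec.map_comp]
  congr 1
  apply CommRingCat.hom_ext
  refine (comp_lineRing (Scheme.ΓSpecIso (CommRingCat.of E)).hom.hom c).trans ?_
  refine MonoidAlgebra.ringHom_ext (fun r => hz_ext _ _ r) fun k => ?_
  refine Eq.trans ?_ (lift_ringHom_of _ k).symm
  rw [lineRing, evC_single, map_one, _root_.one_mul]

variable {d : M →+ ℤ} (hd : ∀ k ∈ N, 0 ≤ d k)

/-- The homotopy before restricting to points of the attractor. -/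
def deltaMap {T : Over S} (x : AMonS S N ⊗ T ⟶ X) (c : Γ(T.left, ⊤)) : AMonS S N ⊗ T ⟶ X :=
  lift (snd _ _ ≫ cM T c) (𝟙 _) ≫ scaleMap hd T ≫ x

theorem lift_deltaMap {T T' : Over S} (x : AMonS S N ⊗ T ⟶ X) (c : Γ(T.left, ⊤)) (b : T' ⟶ AMonS S N)
    (t : T' ⟶ T) :
    lift b t ≫ deltaMap hd x c = lift ((t ≫ cM T c ≫ AMonS.map S (dN hd)) * b) t ≫ x := by
  rw [deltaMap, comp_lift_assoc, lift_snd_assoc, Category.comp_id, reassoc_of% lift_scaleMap, lift_fst, lift_snd,
    Category.assoc]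

theorem ams_mul_comm {P : Type} [AddCommMonoid P] {T : Over S} (p q : T ⟶ AMonS S P) : p * q = q * p := by
  apply Over.OverMorphism.ext
  refine Scheme.Cover.hom_ext T.left.affineCover _ _ fun i => ?_
  let s := T.left.affineCover.f i ≫ T.hom
  let v : Over.mk s ⟶ T := Over.homMk (T.left.affineCover.f i) rfl
  obtain ⟨α, hα⟩ := (amsPoint P s).surjective (v ≫ p)
  obtain ⟨β, hβ⟩ := (amsPoint P s).surjective (v ≫ q)
  change (v ≫ (p * q)).left = (v ≫ (q * p)).left
  rw [MonObj.comp_mul, MonObj.comp_mul, ← hα, ← hβ, ← map_mul, ← map_mul, _root_.mul_comm]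

theorem act_sub {T' : Over S} (g : T' ⟶ AMonS S M) (b : T' ⟶ AMonS S N) :
    lift g b ≫ (subAct S M N).act = (g ≫ AMonS.map S N.subtype) * b := by
  change lift g b ≫ ((MonAct.regular (AMonS S N)).restrict (AMonS.map S N.subtype)).act = _
  rw [MonAct.lift_restrict_act, MonAct.lift_regular_act]

theorem isEquivariant_deltaMap {T : Over S} {x : AMonS S N ⊗ T ⟶ X}
    (hx : MonAct.IsEquivariant ((subAct S M N).prod (MonAct.trivial (AMonS S M) T)) a x) (c : Γ(T.left, ⊤)) :
    MonAct.IsEquivariant ((subAct S M N).prod (MonAct.trivial (AMonS S M) T)) a (deltaMap hd x c) := by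
  rw [MonAct.mem_eqvHom_iff] at hx ⊢
  intro T' g b t
  let u : T' ⟶ AMonS S N := t ≫ cM T c ≫ AMonS.map S (dN hd)
  have h := hx T' g (u * b) t
  rw [act_sub] at h
  have e : u * ((g ≫ AMonS.map S N.subtype) * b) = (g ≫ AMonS.map S N.subtype) * (u * b) :=
    (_root_.mul_assoc u (g ≫ AMonS.map S N.subtype) b).symm.trans
      ((congrArg (fun z : T' ⟶ AMonS S N => z * b) (ams_mul_comm u (g ≫ AMonS.map S N.subtype))).trans
        (_root_.mul_assoc (g ≫ AMonS.map S N.subtype) u b))
  rw [act_sub, lift_deltaMap hd x c b t, lift_deltaMap hd x c _ t]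
  exact (congrArg (fun z : T' ⟶ AMonS S N => lift z t ≫ x) e).trans h

/-- The homotopy. -/
def delta (T : Over S) (x : (attr a N).obj (op T)) (c : Γ(T.left, ⊤)) : (attr a N).obj (op T) :=
  ⟨deltaMap hd x.1 c, isEquivariant_deltaMap hd x.2 c⟩

theorem delta_map {T T' : Over S} (t : T' ⟶ T) (x : (attr a N).obj (op T)) (c : Γ(T.left, ⊤)) :
    delta hd T' ((attr a N).map t.op x) (t.left.appTop c) = (attr a N).map t.op (delta hd T x c) := by
  refine Subtype.ext (hom_ext_lift₂ fun T'' b u => ?_)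
  change lift b u ≫ deltaMap hd ((AMonS S N ◁ t) ≫ x.1) _ = lift b u ≫ (AMonS S N ◁ t) ≫ deltaMap hd x.1 c
  rw [lift_whiskerLeft_assoc, lift_deltaMap, lift_deltaMap, lift_whiskerLeft_assoc, ← comp_cM, Category.assoc,
    Category.assoc]

theorem ev_delta {E : Type u} [CommRing E] {s : Spec (CommRingCat.of E) ⟶ S}
    (x : (attr a N).obj (op (Over.mk s))) (c : Γ(Spec (CommRingCat.of E), ⊤)) {E' : Type u} [CommRing E']
    (j : E →+* E') (χ : Multiplicative N →* E') :
    ev (delta hd (Over.mk s) x c).1 j χ =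
      ev x.1 j ((ch (j ((Scheme.ΓSpecIso (CommRingCat.of E)).hom c))).comp
        (AddMonoidHom.toMultiplicative (dN hd)) * χ) := by
  change (pt s j χ ≫ deltaMap hd x.1 c).left = _
  rw [pt, lift_deltaMap hd x.1 c, cM_spec, ← Category.assoc]
  have e : toT s j ≫ amsPoint ↥N1 s (ch ((Scheme.ΓSpecIso (CommRingCat.of E)).hom c)) =
      amsPoint ↥N1 (str s j) (ch (j ((Scheme.ΓSpecIso (CommRingCat.of E)).hom c))) :=
    (amsPoint_comp s (str s j) j _ rfl).trans (by rw [comp_ch])
  rw [e, amsPoint_map, ← map_mul]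
  rfl

include hd in
theorem char_zero {E : Type u} [CommRing E] (hdF : ∀ k ∈ N, d k = 0 ↔ k ∈ F) (hFN : IsFace N F)
    (χ : Multiplicative N →* E) :
    (ch (0 : E)).comp (AddMonoidHom.toMultiplicative (dN hd)) * χ =
      extChar hFN (χ.comp (AddMonoidHom.toMultiplicative (AddSubmonoid.inclusion hFN.le))) := by
  refine MonoidHom.ext fun k => ?_
  rw [MonoidHom.mul_apply, ch_dN]
  by_cases h : (k.toAdd : M) ∈ F
  · rw [(hdF _ k.toAdd.2).2 h, extChar_of_mem hFN _ _ h]
    simp
    rfl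
  · have : d (k.toAdd : M) ≠ 0 := fun e => h ((hdF _ k.toAdd.2).1 e)
    have := hd _ k.toAdd.2
    rw [extChar_of_not_mem hFN _ _ h, zero_pow (by omega), zero_mul]

theorem delta_one (T : Over S) (x : (attr a N).obj (op T)) : delta hd T x 1 = x := by
  refine eq_of_goodBase _ _ fun W g hW => ?_
  rw [← delta_map, map_one]
  obtain ⟨E, _, s, W₀, -, -, rfl⟩ := hW
  refine Subtype.ext (hom_ext_univ ?_)
  refine (ev_delta hd _ _ _ _).trans ?_
  rw [map_one, map_one]
  congr 1
  refine MonoidHom.ext fun k => ?_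
  rw [MonoidHom.mul_apply, ch_dN, one_pow, _root_.one_mul]

theorem delta_zero (hdF : ∀ k ∈ N, d k = 0 ↔ k ∈ F) (hFN : IsFace N F) (T : Over S) (x : (attr a N).obj (op T)) :
    delta hd T x 0 = (attrMap a hFN.le).app (op T) ((attrFace a hFN).app (op T) x) := by
  refine eq_of_goodBase _ _ fun W g hW => ?_
  rw [← delta_map, map_zero, ← NatTrans.naturality_apply, ← NatTrans.naturality_apply]
  obtain ⟨E, _, s, W₀, -, -, rfl⟩ := hW
  refine Subtype.ext (hom_ext_univ ?_)
  refine (ev_delta hd _ _ _ _).trans ?_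
  rw [map_zero, map_zero, char_zero hd hdF hFN, attrMap_app_val, attrFace_app_coe, ev_map, ev_face]

theorem delta_incl (hdF : ∀ k ∈ N, d k = 0 ↔ k ∈ F) (hFN : IsFace N F) (T : Over S) (y : (attr a F).obj (op T))
    (c : Γ(T.left, ⊤)) :
    delta hd T ((attrMap a hFN.le).app (op T) y) c = (attrMap a hFN.le).app (op T) y := by
  refine eq_of_goodBase _ _ fun W g hW => ?_
  rw [← delta_map, ← NatTrans.naturality_apply]
  obtain ⟨E, _, s, W₀, -, -, rfl⟩ := hW
  refine Subtype.ext (hom_ext_univ ?_)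
  refine (ev_delta hd _ _ _ _).trans ?_
  rw [attrMap_app_val, ev_map, ev_map]
  congr 1
  refine MonoidHom.ext fun k => ?_
  rw [MonoidHom.comp_apply, MonoidHom.mul_apply, ch_dN, MonoidHom.comp_apply]
  have : d ((AddMonoidHom.toMultiplicative (AddSubmonoid.inclusion hFN.le) k).toAdd : M) = 0 :=
    (hdF _ (hFN.le k.toAdd.2)).2 k.toAdd.2
  rw [this]
  simp

theorem delta_face (hdF : ∀ k ∈ N, d k = 0 ↔ k ∈ F) (hFN : IsFace N F) (T : Over S) (x : (attr a N).obj (op T))
    (c : Γ(T.left, ⊤)) :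
    (attrFace a hFN).app (op T) (delta hd T x c) = (attrFace a hFN).app (op T) x := by
  refine eq_of_goodBase _ _ fun W g hW => ?_
  rw [← NatTrans.naturality_apply, ← NatTrans.naturality_apply, ← delta_map]
  obtain ⟨E, _, s, W₀, -, -, rfl⟩ := hW
  refine Subtype.ext (hom_ext_univ ?_)
  rw [attrFace_app_coe, attrFace_app_coe, ev_face, ev_face]
  refine (ev_delta hd _ _ _ _).trans ?_
  congr 1
  refine MonoidHom.ext fun k => ?_
  rw [MonoidHom.mul_apply, ch_dN]
  by_cases h : (k.toAdd : M) ∈ F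
  · rw [(hdF _ k.toAdd.2).2 h]
    simp
  · rw [extChar_of_not_mem hFN _ _ h, mul_zero]

end GrothLib.MagnetGr
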