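import Groth.Agent.Lib.MagnetGr25.Thick
import Groth.Agent.Lib.MagnetGr25.Face
import Groth.Agent.Lib.MagnetGr25.Chart
import Groth.Agent.Lib.MagnetGr25.Formal
import Groth.Agent.Lib.EtaleThick26.Lift

/-! # Lifting equivariant families along equivariant étale morphisms -/

set_option autoImplicit false
set_option backward.isDefEq.respectTransparency false
set_option backward.isDefEq.respectTransparency.types false

universe u

open CategoryTheory MonoidalCategory CartesianMonoidalCategory MonObj AlgebraicGeometry Opposite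

noncomputable section

namespace GrothLib.MagnetGr

open Magnet MagnetPts

variable {S : Scheme.{u}} {M : Type} [AddCommMonoid M] {X U : Over S}
  {aX : MonAct (AMonS S M) X} {aU : MonAct (AMonS S M) U} {f : U ⟶ X} [Etale f.left]
  {N F : AddSubmonoid M} {d : M →+ ℤ}
  (hFN : IsFace N F) (hd : ∀ k : Multiplicative N, 0 ≤ wt d k)
  (hdF : ∀ k : Multiplicative N, wt d k = 0 ↔ (k.toAdd : M) ∈ F)
  {E : Type u} [CommRing E] {s : Spec (CommRingCat.of E) ⟶ S}

include hd hdF in
theorem ev_trunc_eq {Ψ₁ Ψ₂ : AMonS S N ⊗ Over.mk s ⟶ U}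
    (hf' : Ψ₁ ≫ f = Ψ₂ ≫ f)
    (hface : (AMonS.faceMap S hFN ▷ Over.mk s) ≫ Ψ₁ = (AMonS.faceMap S hFN ▷ Over.mk s) ≫ Ψ₂) (n : ℕ) :
    Spec.map (CommRingCat.ofHom (trq N d E n)) ≫ ev Ψ₁ (cst : E →+* MA E N) uni =
      Spec.map (CommRingCat.ofHom (trq N d E n)) ≫ ev Ψ₂ (cst : E →+* MA E N) uni := by
  obtain ⟨_, _⟩ := thick_of_surjective _ (trρ_surjective E hFN hd hdF n) (trρ_nil E hFN hd hdF n)
  refine GrothLib.EtaleThick.hom_ext (Spec.map (CommRingCat.ofHom (trρ E hFN hd hdF n))) f.left ?_ ?_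
  · rw [specMap_comp, specMap_comp, trρ_comp_trq, projF, ← ev_eq_univ, ← ev_eq_univ, ← ev_face, ← ev_face, hface]
  · rw [Category.assoc, Category.assoc, ← ev_comp, ← ev_comp, hf']

include hd hdF in
theorem eq_of_face_of_comp
    {Ψ₁ Ψ₂ : AMonS S N ⊗ Over.mk s ⟶ U}
    (h₁ : MonAct.IsEquivariant ((subAct S M N).prod (MonAct.trivial (AMonS S M) (Over.mk s))) aU Ψ₁)
    (h₂ : MonAct.IsEquivariant ((subAct S M N).prod (MonAct.trivial (AMonS S M) (Over.mk s))) aU Ψ₂)
    (hf' : Ψ₁ ≫ f = Ψ₂ ≫ f)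
    (hface : (AMonS.faceMap S hFN ▷ Over.mk s) ≫ Ψ₁ = (AMonS.faceMap S hFN ▷ Over.mk s) ≫ Ψ₂) : Ψ₁ = Ψ₂ := by
  refine eq_of_formal (d := d) (fun k hk => hd (Multiplicative.ofAdd ⟨k, hk⟩)) h₁ h₂ fun n j χ hχ => ?_
  have key : (Ideal.Quotient.lift _ (evC j χ) (wtIdeal_le_ker E j χ n hχ)).comp (trq N d E n) = evC j χ :=
    Ideal.Quotient.lift_comp_mk _ _ _
  rw [ev_eq_univ Ψ₁, ev_eq_univ Ψ₂, ← key, ← specMap_comp, ← specMap_comp,
    ev_trunc_eq hFN hd hdF hf' hface n]

include hd hdF in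
theorem exists_attr_lift (hf : MonAct.IsEquivariant aU aX f) (C : Chart aU) {W : S.Opens} (hW : IsAffineOpen W)
    (hC : Set.range C.inc.base = U.hom.base ⁻¹' (W : Set S)) (hs : Set.range s.base ⊆ (W : Set S))
    (φ : (attr aX N).obj (op (Over.mk s))) (ψ : (attr aU F).obj (op (Over.mk s)))
    (hc : ψ.1 ≫ f = (AMonS.faceMap S hFN ▷ Over.mk s) ≫ φ.1) :
    ∃ Ψ : (attr aU N).obj (op (Over.mk s)),
      Ψ.1 ≫ f = φ.1 ∧ (AMonS.faceMap S hFN ▷ Over.mk s) ≫ Ψ.1 = ψ.1 := by
  classical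
  let φu := ev φ.1 (cst : E →+* MA E N) uni
  let ψu := ev ψ.1 (cst : E →+* MA E F) uni
  have hw : ∀ n, Spec.map (CommRingCat.ofHom (trρ E hFN hd hdF n)) ≫ Spec.map (CommRingCat.ofHom (trq N d E n)) ≫ φu
      = ψu ≫ f.left := by
    intro n
    rw [specMap_comp, trρ_comp_trq, projF, ← ev_eq_univ, ← ev_face, ← hc, ev_comp]
  have hex : ∀ n, ∃ l : Spec (CommRingCat.of (Tr N d E n)) ⟶ U.left,
      Spec.map (CommRingCat.ofHom (trρ E hFN hd hdF n)) ≫ l = ψu ∧
        l ≫ f.left = Spec.map (CommRingCat.ofHom (trq N d E n)) ≫ φu := by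
    intro n
    obtain ⟨_, _⟩ := thick_of_surjective _ (trρ_surjective E hFN hd hdF n) (trρ_nil E hFN hd hdF n)
    exact (GrothLib.EtaleThick.existsUnique_lift (Spec.map (CommRingCat.ofHom (trρ E hFN hd hdF n))) f.left ψu
      (Spec.map (CommRingCat.ofHom (trq N d E n)) ≫ φu) (hw n)).exists
  choose l hl1 hl2 using hex
  have hstr : ∀ n, l n ≫ U.hom = str s ((trq N d E n).comp (cst : E →+* MA E N)) := by
    intro n
    rw [← Over.w f, ← Category.assoc, hl2, Category.assoc]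
    change _ ≫ ev φ.1 _ _ ≫ X.hom = _
    rw [ev_hom, str, str, specMap_comp]
  have hex : ∀ n, ∃ α : C.A →+* Tr N d E n, Spec.map (CommRingCat.ofHom α) ≫ C.inc = l n := by
    intro n
    refine C.exists_pt _ ?_
    rintro _ ⟨p, rfl⟩
    rw [hC]
    change (l n ≫ U.hom).base p ∈ W
    rw [hstr]
    exact hs ⟨_, rfl⟩
  choose α hα using hex
  have hπ : ∀ {n n' : ℕ} (h : n ≤ n'), (trπ E h).comp (α n') = α n := by
    intro n n' h
    refine specMap_inj C.inc ?_
    rw [← specMap_comp, hα, hα]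
    obtain ⟨_, _⟩ := thick_of_surjective _ (trρ_surjective E hFN hd hdF n) (trρ_nil E hFN hd hdF n)
    refine GrothLib.EtaleThick.hom_ext (Spec.map (CommRingCat.ofHom (trρ E hFN hd hdF n))) f.left ?_ ?_
    · rw [specMap_comp, trρ_comp_trπ, hl1, hl1]
    · rw [Category.assoc, hl2, hl2, specMap_comp, trπ_comp_trq]
  -- the lifts are equivariant
  have hγ : ∀ n, (MonoidAlgebra.mapRingHom (Multiplicative M) (α n)).comp C.δ = (trγ E n).comp (α n) := by
    intro n
    let c := (cst : Tr N d E n →+* MA (Tr N d E n) M)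
    let mρ := MonoidAlgebra.mapRingHom (Multiplicative M) (trρ E hFN hd hdF n)
    obtain ⟨hsurj, hnil⟩ := mapRingHom_thick _ (trρ_surjective E hFN hd hdF n) (trρ_nil E hFN hd hdF n) M
    obtain ⟨_, _⟩ := thick_of_surjective _ hsurj hnil
    have h1 : evC (c.comp (α n)) uni = MonoidAlgebra.mapRingHom (Multiplicative M) (α n) :=
      hom_ext_cst ((evC_comp_cst _ _).trans (RingHom.ext fun r => by simp [c, MonoidAlgebra.singleOneRingHom]))
        ((evC_comp_uni _ _).trans (MonoidHom.ext fun k => by simp))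
    rw [← h1]
    refine specMap_inj (φ := (evC (c.comp (α n)) uni).comp C.δ) (ψ := (trγ E n).comp (α n)) C.inc ?_
    rw [← C.orb_pt, ← specMap_comp (α n) c, ← specMap_comp (α n) (trγ E n), hα]
    refine GrothLib.EtaleThick.hom_ext (Spec.map (CommRingCat.ofHom mρ)) f.left ?_ ?_
    · have hc1 : mρ.comp c = (cst : MA E F →+* MA (MA E F) M).comp (trρ E hFN hd hdF n) :=
        RingHom.ext fun r => by simp [mρ, c, MonoidAlgebra.singleOneRingHom]
      have hc2 : (mρ : MA (Tr N d E n) M →* MA (MA E F) M).comp uni = uni :=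
        MonoidHom.ext fun k => by simp [mρ]
      rw [comp_orb, specMap_comp (R' := MA (Tr N d E n) M) (R'' := MA (MA E F) M) c mρ, hc1, ← specMap_comp, hl1, hc2, specMap_comp (R' := MA (Tr N d E n) M) (R'' := MA (MA E F) M) (trγ E n) mρ,
        mapRingHom_trρ_trγ, ← specMap_comp, hl1]
      change orb aU (_ ≫ ev ψ.1 _ _) _ = _ ≫ ev ψ.1 _ _
      rw [comp_ev, orb_ev aU ψ.2, ← ev_eq_univ]
    · rw [Category.assoc, orb_comp_equivariant aU hf, Category.assoc, hl2, specMap_comp (R' := Tr N d E n) (R'' := MA (Tr N d E n) M) (trq N d E n) (trγ E n)]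
      change orb aX (_ ≫ _ ≫ ev φ.1 _ _) _ = _ ≫ ev φ.1 _ _
      rw [comp_ev, comp_ev, orb_ev aX φ.2, show (trγ E n).comp (trq N d E n) = _ from Ideal.Quotient.lift_comp_mk _ _ _,
        ← ev_eq_univ]
  -- homogeneous components
  have hcomp : ∀ (n : ℕ) (b : C.A) (m : Multiplicative M), ∃ z : MA E N,
      α n ((C.δ b).coeff m) = trq N d E n (sec E m z) := by
    intro n b m
    obtain ⟨z, hz⟩ := Ideal.Quotient.mk_surjective (α n b)
    refine ⟨z, ?_⟩
    rw [← coeff_trγ, show trq N d E n z = α n b from hz, ← RingHom.comp_apply, ← hγ, RingHom.comp_apply,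
      MonoidAlgebra.coeff_mapRingHom]
  choose z hz using hcomp
  let cc : C.A → Multiplicative M → MA E N := fun b m => sec E m (z (d m.toAdd).toNat b m)
  have hcc : ∀ n b m, α n ((C.δ b).coeff m) = trq N d E n (cc b m) := by
    intro n b m
    have hπ' : ∀ {n n' : ℕ} (h : n ≤ n'),
        α n ((C.δ b).coeff m) = trq N d E n (sec E m (z n' b m)) := by
      intro n n' h
      rw [← hπ h, RingHom.comp_apply, hz, ← RingHom.comp_apply, trπ_comp_trq]
    rcases le_total n (d m.toAdd).toNat with h | h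
    · exact hπ' h
    · rw [hz]
      congr 1
      exact sec_eq_of_trq_eq E hd m _ _ (d m.toAdd).toNat (Int.self_le_toNat _) ((hπ' h).symm.trans (hz _ _ _))
  let θf : C.A → MA E N := fun b => ∑ m ∈ (C.δ b).coeff.support, cc b m
  have hθf : ∀ n b, trq N d E n (θf b) = α n b := by
    intro n b
    conv_rhs => rw [← C.sum_coeff b]
    rw [map_sum, map_sum]
    exact Finset.sum_congr rfl fun m _ => (hcc n b m).symm
  have hext : ∀ {x y : MA E N}, (∀ n, trq N d E n x = trq N d E n y) → x = y := by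
    intro x y h
    refine eq_of_forall_sub_mem E hd fun n hn => ?_
    obtain ⟨n, rfl⟩ := Nat.exists_eq_succ_of_ne_zero (show n ≠ 0 by omega)
    exact Ideal.Quotient.eq.1 (h n)
  let θ : C.A →+* MA E N :=
    { toFun := θf
      map_one' := hext fun n => by rw [hθf, map_one, map_one]
      map_mul' := fun x y => hext fun n => by rw [hθf, map_mul, map_mul, hθf, hθf]
      map_zero' := hext fun n => by rw [hθf, map_zero, map_zero]
      map_add' := fun x y => hext fun n => by rw [hθf, map_add, map_add, hθf, hθf] }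
  have hqθ : ∀ n, (trq N d E n).comp θ = α n := fun n => RingHom.ext (hθf n)
  have hlθ : ∀ n, Spec.map (CommRingCat.ofHom (trq N d E n)) ≫ Spec.map (CommRingCat.ofHom θ) ≫ C.inc = l n :=
    fun n => by rw [specMap_comp, hqθ, hα]
  have hθhom : ∀ b m, θ ((C.δ b).coeff m) = cc b m := fun b m => hext fun n => (hθf n _).trans (hcc n b m)
  -- the structure map
  have hU : Set.range (C.inc ≫ U.hom).base ⊆ (W : Set S) := by
    rintro _ ⟨p, rfl⟩
    exact (hC.le ⟨p, rfl⟩ :)
  have hθ : (Spec.map (CommRingCat.ofHom θ) ≫ C.inc) ≫ U.hom = str s (cst : E →+* MA E N) := by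
    have := hW.isOpenImmersion_fromSpec
    have hr1 : Set.range ((Spec.map (CommRingCat.ofHom θ) ≫ C.inc) ≫ U.hom).base ⊆ Set.range hW.fromSpec.base := by
      rw [hW.range_fromSpec]
      rintro _ ⟨p, rfl⟩
      exact hU ⟨_, rfl⟩
    have hr2 : Set.range (str s (cst : E →+* MA E N)).base ⊆ Set.range hW.fromSpec.base := by
      rw [hW.range_fromSpec]
      rintro _ ⟨p, rfl⟩
      exact hs ⟨_, rfl⟩
    obtain ⟨v, hv⟩ := Spec.map_surjective (IsOpenImmersion.lift hW.fromSpec _ hr1)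
    obtain ⟨w, hw'⟩ := Spec.map_surjective (IsOpenImmersion.lift hW.fromSpec _ hr2)
    have hv' := congrArg (· ≫ hW.fromSpec) hv
    have hw'' := congrArg (· ≫ hW.fromSpec) hw'
    simp only [IsOpenImmersion.lift_fac] at hv' hw''
    rw [← hv', ← hw'']
    congr 2
    refine CommRingCat.hom_ext (RingHom.ext fun r => hext fun n => ?_)
    have e : Spec.map (CommRingCat.ofHom (trq N d E n)) ≫ Spec.map v ≫ hW.fromSpec =
        Spec.map (CommRingCat.ofHom (trq N d E n)) ≫ Spec.map w ≫ hW.fromSpec := by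
      rw [hv', hw'', ← Category.assoc, specMap_comp, hqθ, hα, hstr, str, str, specMap_comp]
    rw [← Spec.map_comp_assoc, ← Spec.map_comp_assoc, cancel_mono] at e
    exact congrArg (fun g => g.hom r) (Spec.map_injective e)
  have heq : MonAct.IsEquivariant ((subAct S M N).prod (MonAct.trivial (AMonS S M) (Over.mk s))) aU
      (ofUniv (Spec.map (CommRingCat.ofHom θ) ≫ C.inc) hθ) := isEquivariant_of_orb_ev aU fun j χ g => ?_
  refine ⟨⟨ofUniv (Spec.map (CommRingCat.ofHom θ) ≫ C.inc) hθ, heq⟩, ?_, ?_⟩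
  rotate_left 2
  · rw [ev_ofUniv, ev_ofUniv, specMap_comp, C.orb_pt, specMap_comp]
    congr 3
    refine RingHom.ext fun b => ?_
    conv_lhs => rw [← C.sum_coeff b]
    conv_rhs => rw [← C.sum_coeff b]
    rw [map_sum, map_sum]
    refine Finset.sum_congr rfl fun m _ => ?_
    change evC ((evC j χ).comp θ) g (C.δ _) = evC j (res N g * χ) (θ _)
    rw [C.δ_coeff, evC_single, RingHom.comp_apply, hθhom]
    change evC j χ (sec E m _) * _ = evC j _ (sec E m _)
    by_cases hm : m.toAdd ∈ N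
    · rw [sec_of_mem E m _ hm, evC_single, evC_single, MonoidHom.mul_apply]
      change _ * _ * g m = _ * (g m * _)
      ring
    · rw [sec_of_not_mem E m _ hm, map_zero, map_zero, zero_mul]
  · refine eq_of_formal (a := aX) (d := d) (fun k hk => hd (Multiplicative.ofAdd ⟨k, hk⟩)) (heq.comp hf) φ.2
      fun n j χ hχ => ?_
    have key : (Ideal.Quotient.lift _ (evC j χ) (wtIdeal_le_ker E j χ n hχ)).comp (trq N d E n) = evC j χ :=
      Ideal.Quotient.lift_comp_mk _ _ _
    rw [ev_comp, ev_ofUniv, ev_eq_univ φ.1, ← key, ← specMap_comp, ← specMap_comp, hlθ, Category.assoc, hl2]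
  · refine hom_ext_univ ?_
    rw [ev_face, ev_ofUniv]
    change Spec.map (CommRingCat.ofHom (projF E hFN)) ≫ _ = ψu
    rw [← trρ_comp_trq E hFN hd hdF 0, ← specMap_comp, hlθ, hl1]

end GrothLib.MagnetGr
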