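import Groth.Agent.Lib.MagnetGr25.Average
import Groth.Agent.Lib.MagnetGr25.Unram
import Mathlib.AlgebraicGeometry.AffineTransitionLimit
import Mathlib.CategoryTheory.Limits.ConcreteCategory.Basic

/-! # Attractors commute with filtered colimits of rings -/

set_option autoImplicit false
set_option backward.isDefEq.respectTransparency false
set_option backward.isDefEq.respectTransparency.types false

universe u

open CategoryTheory CategoryTheory.Limits MonoidalCategory AlgebraicGeometry Opposite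

noncomputable section

namespace GrothLib.MagnetGr

open Magnet MagnetPts

/-- The monoid algebra, as a functor of the ring. -/
def maFunctor (N : Type) [AddCommMonoid N] : CommRingCat.{u} ⥤ CommRingCat.{u} where
  obj R := CommRingCat.of (MA R N)
  map φ := CommRingCat.ofHom (MonoidAlgebra.mapRingHom (Multiplicative N) φ.hom)
  map_id R := CommRingCat.hom_ext (RingHom.ext fun z => ext_coeff fun m => by simp)
  map_comp φ ψ := CommRingCat.hom_ext (RingHom.ext fun z => ext_coeff fun m => by simp)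

variable {J : Type u} [Preorder J] [IsDirected J (· ≤ ·)] [Nonempty J] {F : J ⥤ CommRingCat.{u}}
  {c : Cocone F} (hc : IsColimit c) (N : Type) [AddCommMonoid N]

include hc in
theorem maFunctor_rep (z : MA c.pt N) :
    ∃ (j : J) (x : MA (F.obj j) N), MonoidAlgebra.mapRingHom (Multiplicative N) (c.ι.app j).hom x = z := by
  induction z using MonoidAlgebra.induction_linear with
  | zero => exact ⟨Classical.arbitrary J, 0, map_zero _⟩
  | add a b ha hb =>
    obtain ⟨i, a', rfl⟩ := ha
    obtain ⟨j, b', rfl⟩ := hb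
    obtain ⟨k, hik, hjk⟩ := exists_ge_ge i j
    refine ⟨k, MonoidAlgebra.mapRingHom _ (F.map (homOfLE hik)).hom a' +
      MonoidAlgebra.mapRingHom _ (F.map (homOfLE hjk)).hom b', ?_⟩
    rw [map_add, ← RingHom.comp_apply, ← RingHom.comp_apply, ← MonoidAlgebra.mapRingHom_comp,
      ← MonoidAlgebra.mapRingHom_comp, ← CommRingCat.hom_comp, ← CommRingCat.hom_comp, c.w, c.w]
    rfl
  | single m r =>
    obtain ⟨j, r', rfl⟩ := Concrete.isColimit_exists_rep F hc r
    exact ⟨j, MonoidAlgebra.single m r', MonoidAlgebra.mapRingHom_single _ _ _⟩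

include hc in
theorem maFunctor_eq_zero {i : J} (z : MA (F.obj i) N)
    (hz : MonoidAlgebra.mapRingHom (Multiplicative N) (c.ι.app i).hom z = 0) :
    ∃ (k : J) (h : i ≤ k), MonoidAlgebra.mapRingHom (Multiplicative N) (F.map (homOfLE h)).hom z = 0 := by
  classical
  have h0 : ∀ m : Multiplicative N, ∃ (k : J) (h : i ≤ k), (F.map (homOfLE h)).hom (z.coeff m) = 0 := by
    intro m
    have hm : (c.ι.app i).hom (z.coeff m) = (c.ι.app i).hom 0 := by
      have := congrArg (fun w : MA c.pt N => w.coeff m) hz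
      rw [map_zero]
      simpa using this
    obtain ⟨k, f, g, hk⟩ := Concrete.isColimit_exists_of_rep_eq F hc _ _ hm
    refine ⟨k, leOfHom f, ?_⟩
    rw [show homOfLE (leOfHom f) = f from Subsingleton.elim _ _]
    exact hk.trans (map_zero _)
  choose k hk hk0 using h0
  obtain ⟨K, hK⟩ := (insert i (z.coeff.support.image k)).exists_le
  refine ⟨K, hK i (Finset.mem_insert_self _ _), ext_coeff fun m => ?_⟩
  rw [MonoidAlgebra.coeff_mapRingHom, MonoidAlgebra.coeff_zero, Finsupp.zero_apply]
  by_cases hm : m ∈ z.coeff.support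
  · have hle := hK (k m) (Finset.mem_insert_of_mem (Finset.mem_image_of_mem _ hm))
    rw [show homOfLE (hK i (Finset.mem_insert_self _ _)) = homOfLE (hk m) ≫ homOfLE hle from Subsingleton.elim _ _,
      F.map_comp, CommRingCat.hom_comp, RingHom.comp_apply, hk0 m, map_zero]
  · rw [Finsupp.notMem_support_iff.1 hm, map_zero]

/-- Monoid algebras commute with filtered colimits. -/
def isColimitMA : IsColimit ((maFunctor N).mapCocone c) := by
  haveI := reflectsColimit_of_reflectsIsomorphisms (F ⋙ maFunctor N) (forget CommRingCat.{u})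
  refine isColimitOfReflects (forget CommRingCat) (Types.FilteredColimit.isColimitOf _ _ (fun z => ?_) ?_)
  · obtain ⟨j, x, hx⟩ := maFunctor_rep hc N z
    exact ⟨j, x, hx.symm⟩
  · intro i j x y h
    obtain ⟨k, hik, hjk⟩ := exists_ge_ge i j
    let d : MA (F.obj k) N := MonoidAlgebra.mapRingHom _ (F.map (homOfLE hik)).hom x -
      MonoidAlgebra.mapRingHom _ (F.map (homOfLE hjk)).hom y
    have hd : MonoidAlgebra.mapRingHom (Multiplicative N) (c.ι.app k).hom d = 0 := by
      rw [map_sub, ← RingHom.comp_apply, ← RingHom.comp_apply, ← MonoidAlgebra.mapRingHom_comp,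
        ← MonoidAlgebra.mapRingHom_comp, ← CommRingCat.hom_comp, ← CommRingCat.hom_comp, c.w, c.w, sub_eq_zero]
      exact h
    obtain ⟨l, hkl, hl⟩ := maFunctor_eq_zero hc N d hd
    refine ⟨l, homOfLE (hik.trans hkl), homOfLE (hjk.trans hkl), ?_⟩
    rw [map_sub, sub_eq_zero, ← RingHom.comp_apply, ← RingHom.comp_apply, ← MonoidAlgebra.mapRingHom_comp,
      ← MonoidAlgebra.mapRingHom_comp, ← CommRingCat.hom_comp, ← CommRingCat.hom_comp, ← F.map_comp,
      ← F.map_comp] at hl
    exact hl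

end GrothLib.MagnetGr

namespace GrothLib.MagnetGr

open Magnet MagnetPts

section Stage

variable {S : Scheme.{u}} {M : Type} [AddCommGroup M] {X : Over S} (a : MonAct (AMonS S M) X) {N : AddSubmonoid M}

theorem evC_cst_comp_uni {R E : Type u} [CommRing R] [CommRing E] (i : R →+* E) (N : Type) [AddCommMonoid N] :
    evC ((cst : E →+* MA E N).comp i) uni = MonoidAlgebra.mapRingHom (Multiplicative N) i :=
  hom_ext_cst (RingHom.ext fun r => by simp [MonoidAlgebra.singleOneRingHom]) (MonoidHom.ext fun m => by simp)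

theorem mapRingHom_twist {A B : Type u} [CommRing A] [CommRing B] (i : A →+* B) :
    (MonoidAlgebra.mapRingHom (Multiplicative M) (MonoidAlgebra.mapRingHom (Multiplicative N) i)).comp (twist A N) =
      (twist B N).comp (MonoidAlgebra.mapRingHom (Multiplicative N) i) := by
  refine hom_ext_cst (RingHom.ext fun r => ?_) (MonoidHom.ext fun m => ?_) <;>
    simp [twist, MonoidAlgebra.singleOneRingHom]

theorem mapRingHom_cst {A B : Type u} [CommRing A] [CommRing B] (i : A →+* B) (L : Type) [AddCommMonoid L] :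
    (MonoidAlgebra.mapRingHom (Multiplicative L) i).comp (cst : A →+* MA A L) = (cst : B →+* MA B L).comp i :=
  RingHom.ext fun r => by simp [MonoidAlgebra.singleOneRingHom]

/-- The universal value of a restricted family. -/
theorem ev_restrict_cst {E E' : Type u} [CommRing E] [CommRing E'] {s : Spec (CommRingCat.of E) ⟶ S} (i : E →+* E')
    (γ : AMonS S N ⊗ Over.mk s ⟶ X) :
    ev (s := str s i) ((AMonS S N ◁ toT s i) ≫ γ) (cst : E' →+* MA E' N) uni =
      Spec.map (CommRingCat.ofHom (MonoidAlgebra.mapRingHom (Multiplicative N) i)) ≫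
        ev γ (cst : E →+* MA E N) uni := by
  rw [ev_base, ev_eq_univ, evC_cst_comp_uni]

/-- Equivariance only needs to be checked at the universal translate. -/
theorem orb_of_twist {A : Type u} [CommRing A] (θ : Spec (CommRingCat.of (MA A N)) ⟶ X.left)
    (h : orb a (Spec.map (CommRingCat.ofHom (cst : MA A N →+* MA (MA A N) M)) ≫ θ) uni =
      Spec.map (CommRingCat.ofHom (twist A N)) ≫ θ)
    {E : Type u} [CommRing E] (j : A →+* E) (χ : Multiplicative N →* E) (g : Multiplicative M →* E) :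
    orb a (Spec.map (CommRingCat.ofHom (evC j χ)) ≫ θ) g =
      Spec.map (CommRingCat.ofHom (evC j (res N g * χ))) ≫ θ := by
  have h' := congrArg (Spec.map (CommRingCat.ofHom (evC (evC j χ) g)) ≫ ·) h
  simp only [comp_orb, specMap_comp, evC_comp_uni, evC_comp_cst] at h'
  rw [h']
  congr 3
  refine hom_ext_cst (RingHom.ext fun r => ?_) (MonoidHom.ext fun m => ?_) <;>
    simp [twist, MonoidAlgebra.singleOneRingHom, mul_comm]

/-- A family over a filtered colimit of rings comes from a stage, along a finitely presented map. -/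
theorem exists_stage {Y₀ : Scheme.{u}} (f₀ : X.left ⟶ Y₀) [LocallyOfFinitePresentation f₀]
    {J : Type u} [Preorder J] [IsDirected J (· ≤ ·)] [Nonempty J] {F : J ⥤ CommRingCat.{u}}
    {c : Cocone F} (hc : IsColimit c) (sF : ∀ j, Spec (F.obj j) ⟶ S) {s : Spec (CommRingCat.of c.pt) ⟶ S}
    (x : (attr a N).obj (op (Over.mk s)))
    (t : ∀ j, Spec (CommRingCat.of (MA (F.obj j) N)) ⟶ Y₀)
    (ht : ∀ {i j : J} (h : i ⟶ j), Spec.map (CommRingCat.ofHom
      (MonoidAlgebra.mapRingHom (Multiplicative N) (F.map h).hom)) ≫ t i = t j)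
    (htx : ∀ j, Spec.map (CommRingCat.ofHom (MonoidAlgebra.mapRingHom (Multiplicative N) (c.ι.app j).hom)) ≫ t j =
      ev x.1 (cst : c.pt →+* MA c.pt N) uni ≫ f₀)
    (hts : ∀ (j : J) (g : Spec (CommRingCat.of (MA (F.obj j) N)) ⟶ X.left), g ≫ f₀ = t j →
      g ≫ X.hom = str (sF j) (cst : F.obj j →+* MA (F.obj j) N))
    (hte : ∀ (j : J) (g : Spec (CommRingCat.of (MA (F.obj j) N)) ⟶ X.left), g ≫ f₀ = t j →
      orb a (Spec.map (CommRingCat.ofHom (cst : MA (F.obj j) N →+* MA (MA (F.obj j) N) M)) ≫ g) uni ≫ f₀ =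
        Spec.map (CommRingCat.ofHom (twist (F.obj j) N)) ≫ t j) :
    ∃ (j : J) (l : (attr a N).obj (op (Over.mk (sF j)))),
      ev l.1 (cst : F.obj j →+* MA (F.obj j) N) uni ≫ f₀ = t j ∧
      Spec.map (CommRingCat.ofHom (MonoidAlgebra.mapRingHom (Multiplicative N) (c.ι.app j).hom)) ≫
        ev l.1 (cst : F.obj j →+* MA (F.obj j) N) uni = ev x.1 (cst : c.pt →+* MA c.pt N) uni := by
  let D : Jᵒᵖ ⥤ Scheme.{u} := (F ⋙ maFunctor ↥N).op ⋙ Scheme.Spec
  let cD : Cone D := Scheme.Spec.mapCone ((maFunctor ↥N).mapCocone c).op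
  have hcD : IsLimit cD := isLimitOfPreserves Scheme.Spec (isColimitMA hc ↥N).op
  haveI : ∀ {i j : Jᵒᵖ} (ψ : i ⟶ j), IsAffineHom (D.map ψ) := fun {i j} ψ =>
    inferInstanceAs (IsAffineHom (Spec.map _))
  haveI : ∀ i, CompactSpace (D.obj i) := fun i => inferInstanceAs (CompactSpace (Spec _))
  haveI : ∀ i, QuasiSeparatedSpace (D.obj i) := fun i => inferInstanceAs (QuasiSeparatedSpace (Spec _))
  let τ : D ⟶ (Functor.const Jᵒᵖ).obj Y₀ :=
    { app := fun i => t i.unop
      naturality := fun i j ψ => (ht ψ.unop).trans (Category.comp_id _).symm }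
  obtain ⟨i, g, hg, hgt⟩ := Scheme.exists_π_app_comp_eq_of_locallyOfFinitePresentation D τ f₀ cD hcD
    (ev x.1 (cst : c.pt →+* MA c.pt N) uni) (NatTrans.ext (funext fun i => htx i.unop))
  -- equivariance at a later stage
  let D2 : Jᵒᵖ ⥤ Scheme.{u} := ((F ⋙ maFunctor ↥N) ⋙ maFunctor M).op ⋙ Scheme.Spec
  let cD2 : Cone D2 := Scheme.Spec.mapCone ((maFunctor M).mapCocone ((maFunctor ↥N).mapCocone c)).op
  have hcD2 : IsLimit cD2 := isLimitOfPreserves Scheme.Spec (isColimitMA (isColimitMA hc ↥N) M).op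
  haveI : ∀ {i j : Jᵒᵖ} (ψ : i ⟶ j), IsAffineHom (D2.map ψ) := fun {i j} ψ =>
    inferInstanceAs (IsAffineHom (Spec.map _))
  haveI : ∀ i, CompactSpace (D2.obj i) := fun i => inferInstanceAs (CompactSpace (Spec _))
  let τ2 : D2 ⟶ (Functor.const Jᵒᵖ).obj Y₀ :=
    { app := fun i => Spec.map (CommRingCat.ofHom (twist (F.obj i.unop) N)) ≫ t i.unop
      naturality := fun i j ψ => by
        refine Eq.trans ?_ (Category.comp_id _).symm
        change Spec.map (CommRingCat.ofHom _) ≫ Spec.map _ ≫ _ = _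
        rw [← ht ψ.unop, specMap_comp, specMap_comp]
        exact congrArg (fun φ => Spec.map (CommRingCat.ofHom φ) ≫ t j.unop) (mapRingHom_twist _) }
  have htrans : ∀ {A B : Type u} [CommRing A] [CommRing B] (ψ : A →+* B)
      (θ : Spec (CommRingCat.of (MA A N)) ⟶ X.left),
      (Spec.map (CommRingCat.ofHom (MonoidAlgebra.mapRingHom (Multiplicative M)
          (MonoidAlgebra.mapRingHom (Multiplicative N) ψ))) ≫
          orb a (Spec.map (CommRingCat.ofHom (cst : MA A N →+* MA (MA A N) M)) ≫ θ) uni =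
        orb a (Spec.map (CommRingCat.ofHom (cst : MA B N →+* MA (MA B N) M)) ≫
          Spec.map (CommRingCat.ofHom (MonoidAlgebra.mapRingHom (Multiplicative N) ψ)) ≫ θ) uni) ∧
      Spec.map (CommRingCat.ofHom (MonoidAlgebra.mapRingHom (Multiplicative M)
          (MonoidAlgebra.mapRingHom (Multiplicative N) ψ))) ≫ Spec.map (CommRingCat.ofHom (twist A N)) ≫ θ =
        Spec.map (CommRingCat.ofHom (twist B N)) ≫
          Spec.map (CommRingCat.ofHom (MonoidAlgebra.mapRingHom (Multiplicative N) ψ)) ≫ θ := by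
    intro A B _ _ ψ θ
    refine ⟨?_, by rw [specMap_comp, specMap_comp, mapRingHom_twist]⟩
    rw [comp_orb, specMap_comp, specMap_comp, mapRingHom_cst]
    congr 1
    exact MonoidHom.ext fun m => by simp
  obtain ⟨k, ψ, hk⟩ := Scheme.exists_hom_comp_eq_comp_of_locallyOfFiniteType D2 τ2 f₀ cD2 hcD2 (i := i)
    (orb a (Spec.map (CommRingCat.ofHom (cst : MA (F.obj i.unop) N →+* MA (MA (F.obj i.unop) N) M)) ≫ g) uni)
    (Spec.map (CommRingCat.ofHom (twist (F.obj i.unop) N)) ≫ g)
    (hte _ g hgt).symm (by rw [Category.assoc]; exact congrArg (_ ≫ ·) hgt.symm) (by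
      have hg' : Spec.map (CommRingCat.ofHom (MonoidAlgebra.mapRingHom (Multiplicative N) (c.ι.app i.unop).hom)) ≫ g =
          ev x.1 (cst : c.pt →+* MA c.pt N) uni := hg
      change Spec.map (CommRingCat.ofHom _) ≫ _ = Spec.map (CommRingCat.ofHom _) ≫ _
      refine ((htrans (c.ι.app i.unop).hom g).1.trans ?_).trans (htrans (c.ι.app i.unop).hom g).2.symm
      rw [hg', comp_ev, comp_ev, orb_ev a x.2]
      congr 1
      · exact RingHom.ext fun r => by simp [twist, MonoidAlgebra.singleOneRingHom]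
      · exact MonoidHom.ext fun m => by simp [twist, MonoidAlgebra.singleOneRingHom])
  let θ : Spec (CommRingCat.of (MA (F.obj k.unop) N)) ⟶ X.left :=
    Spec.map (CommRingCat.ofHom (MonoidAlgebra.mapRingHom (Multiplicative N) (F.map ψ.unop).hom)) ≫ g
  have hθ : θ ≫ f₀ = t k.unop := by
    rw [Category.assoc, hgt]
    exact ht ψ.unop
  have hk' : orb a (Spec.map (CommRingCat.ofHom (cst : MA (F.obj k.unop) N →+* MA (MA (F.obj k.unop) N) M)) ≫ θ) uni =
      Spec.map (CommRingCat.ofHom (twist (F.obj k.unop) N)) ≫ θ :=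
    ((htrans (F.map ψ.unop).hom g).1.symm.trans hk).trans (htrans (F.map ψ.unop).hom g).2
  refine ⟨k.unop, ⟨ofUniv θ (hts _ θ hθ), isEquivariant_of_orb_ev a fun {E} _ j χ g' => ?_⟩, ?_, ?_⟩
  · rw [ev_ofUniv, ev_ofUniv]
    exact orb_of_twist a θ hk' j χ g'
  · rw [ev_ofUniv, evC_cst_uni, show CommRingCat.ofHom (RingHom.id (MA (F.obj k.unop) N)) = 𝟙 _ from rfl,
      Spec.map_id, Category.id_comp, hθ]
  · rw [ev_ofUniv, evC_cst_uni, show CommRingCat.ofHom (RingHom.id (MA (F.obj k.unop) N)) = 𝟙 _ from rfl,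
      Spec.map_id, Category.id_comp, specMap_comp, ← MonoidAlgebra.mapRingHom_comp, ← CommRingCat.hom_comp, c.w]
    exact hg

end Stage

end GrothLib.MagnetGr
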