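import Groth.Agent.Lib.MagnetGr25.RepSmooth
import Groth.Agent.Lib.MagnetGr25.Fixed
import Groth.Agent.Lib.DiagGrp.Charts
import Groth.Prelude.Def_ActBC
import Groth.Prelude.Def_SGA3x
import Mathlib.AlgebraicGeometry.Morphisms.LocalFlatDescent

/-! # Smoothness of fixed points of groups of multiplicative type -/

set_option autoImplicit false
set_option backward.isDefEq.respectTransparency false
set_option backward.isDefEq.respectTransparency.types false

universe u

open CategoryTheory CategoryTheory.Limits MonoidalCategory CartesianMonoidalCategory MonObj AlgebraicGeometry Opposite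

noncomputable section

namespace GrothLib.MagnetGr

open Magnet MagnetPts

variable {S : Scheme.{u}} {G X : Over S} [GrpObj G]

/-- An action of a group as an action of the underlying monoid. -/
def monActOfAction (a : AlgGrp.Action G X) : MonAct G X := ⟨a.act, a.one_act, a.mul_act⟩

@[simp] theorem monActOfAction_act (a : AlgGrp.Action G X) : (monActOfAction a).act = a.act := rfl

/-- In a chart, the fixed points of an action of a group of multiplicative type on a smooth scheme are smooth. -/
theorem smooth_fixed_chart [Smooth X.hom] (a : AlgGrp.Action G X) {FS : Over S} (i : FS ⟶ X) [Mono i]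
    (hF : ∀ (T : Over S) (x : T ⟶ X), (∃ y : T ⟶ FS, y ≫ i = x) ↔
        ∀ (T' : Over S) (t : T' ⟶ T) (g : T' ⟶ G), lift g (t ≫ x) ≫ a.act = t ≫ x)
    {W : Scheme.{u}} (g : W ⟶ S) {M : Type} [AddCommGroup M]
    (e : Grp.mk (Red.bc g G) ≅ Grp.mk (Red.DS W M)) :
    Smooth (Red.bc g FS).hom := by
  let eo : Red.bc g G ≅ Red.DS W M := (Grp.forget (Over W)).mapIso e
  let φ : AMonS W M ⟶ Red.bc g G := eo.inv
  haveI : IsMonHom φ := inferInstanceAs (IsMonHom e.inv.hom.hom)
  let b : MonAct (AMonS W M) (Red.bc g X) := (monActOfAction (a.bc g)).restrict φ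
  haveI : Mono ((Over.pullback g).map i) :=
    haveI := (Over.mapPullbackAdj g).isRightAdjoint
    inferInstance
  haveI : Smooth (Red.bc g X).hom := inferInstanceAs (Smooth (pullback.snd X.hom g))
  let he := fun (T' : Over W) (A : Over S) => (Over.mapPullbackAdj g).homEquiv T' A
  have key : ∀ (T' : Over W) (x : T' ⟶ Red.bc g X),
      (∃ y : T' ⟶ Red.bc g FS, y ≫ (Over.pullback g).map i = x) ↔
        ∀ (T'' : Over W) (t : T'' ⟶ T') (q : T'' ⟶ AMonS W M), lift q (t ≫ x) ≫ b.act = t ≫ x := by
    intro T' x
    obtain ⟨x0, rfl⟩ := (he T' X).surjective x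
    constructor
    · rintro ⟨y, hy⟩ T'' t q
      obtain ⟨y0, rfl⟩ := (he T' FS).surjective y
      rw [← Adjunction.homEquiv_naturality_right] at hy
      have h0 := (hF _ x0).1 ⟨y0, (he T' X).injective hy⟩
      rw [MonAct.lift_restrict_act]
      obtain ⟨q0, hq⟩ := (he T'' G).surjective (q ≫ φ)
      rw [← hq, ← Adjunction.homEquiv_naturality_left]
      exact (AlgGrp.Action.lift_homEquiv_bc_act g a q0 _).trans (congrArg _ (h0 _ ((Over.map g).map t) q0))
    · intro h
      obtain ⟨y0, hy0⟩ := (hF _ x0).2 fun T t q => by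
        let T'' : Over W := Over.mk (t.left ≫ T'.hom)
        let j : (Over.map g).obj T'' ≅ T :=
          Over.isoMk (Iso.refl _) (by
            change 𝟙 _ ≫ T.hom = (t.left ≫ T'.hom) ≫ g
            rw [Category.id_comp, Category.assoc]
            exact (Over.w t).symm)
        let t'' : T'' ⟶ T' := Over.homMk t.left rfl
        have hj : (Over.map g).map t'' = j.hom ≫ t := by
          refine Over.OverMorphism.ext ?_
          change t.left = 𝟙 _ ≫ t.left
          rw [Category.id_comp]
        have h1 := h T'' t'' (he T'' G (j.hom ≫ q) ≫ eo.hom)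
        rw [MonAct.lift_restrict_act, Category.assoc, Iso.hom_inv_id, Category.comp_id,
          ← Adjunction.homEquiv_naturality_left] at h1
        have h2 := (he T'' X).injective ((AlgGrp.Action.lift_homEquiv_bc_act g a _ _).symm.trans h1)
        rw [hj, Category.assoc, ← comp_lift, Category.assoc] at h2
        exact (cancel_epi j.hom).1 h2
      refine ⟨he T' FS y0, ?_⟩
      rw [← Adjunction.homEquiv_naturality_right, hy0]
  let rep : (MonAct.fixedPsh b).RepresentableBy (Red.bc g FS) :=
    { homEquiv := fun {T'} => Equiv.ofBijective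
        (fun y => ⟨y ≫ (Over.pullback g).map i, (key T' _).1 ⟨y, rfl⟩⟩)
        ⟨fun y z h => (cancel_mono ((Over.pullback g).map i)).1 (congrArg Subtype.val h),
          fun x => ((key T' x.1).2 x.2).imp fun y hy => Subtype.ext hy⟩
      homEquiv_comp := fun f y => Subtype.ext (Category.assoc _ _ _) }
  exact smooth_of_representsAttr b (rep.ofIso (attrBotIso b).symm)

/-- The fixed points of a group of multiplicative type acting on a smooth scheme are smooth. -/
theorem smooth_fixed_of_isMultTypeFT (hG : SGA3x.IsMultTypeFT G) [Smooth X.hom] (a : AlgGrp.Action G X)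
    {FS : Over S} (i : FS ⟶ X) [Mono i]
    (hF : ∀ (T : Over S) (x : T ⟶ X), (∃ y : T ⟶ FS, y ≫ i = x) ↔
        ∀ (T' : Over S) (t : T' ⟶ T) (g : T' ⟶ G), lift g (t ≫ x) ≫ a.act = t ≫ x) :
    Smooth FS.hom := by
  obtain ⟨S', f, h1, h2, h3, h4⟩ := hG
  have h : Smooth (toUnit FS).left :=
    GrothLib.DiagGrp.of_charts @Smooth (G := G) (fun M inst => @AddGroup.FG M (inst.toAddGroup))
      ⟨S', f, h1, h2, h3, h4⟩ (toUnit FS) fun {W} _ g {M} _ _ e => by
        haveI : IsIso (pullback.snd (𝟙_ (Over S)).hom g) := inferInstanceAs (IsIso (pullback.snd (𝟙 S) g))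
        rw [← MorphismProperty.cancel_right_of_respectsIso @Smooth _ (pullback.snd (𝟙_ (Over S)).hom g)]
        have : ((Over.pullback g).map (toUnit FS)).left ≫ pullback.snd (𝟙_ (Over S)).hom g = (Red.bc g FS).hom :=
          pullback.lift_snd _ _ _
        rw [this]
        exact smooth_fixed_chart a i hF g e
  rw [← Over.w (toUnit FS)]
  exact (MorphismProperty.cancel_right_of_respectsIso @Smooth _ (𝟙 S)).mpr h

end GrothLib.MagnetGr
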