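import Groth.Agent.Lib.MagnetGr25.MultTypeFixed
import Groth.Agent.Lib.EssFree.Transporter

/-! # Representability of fixed points by smooth closed subschemes -/

set_option autoImplicit false

universe u

open CategoryTheory CategoryTheory.Limits MonoidalCategory CartesianMonoidalCategory MonObj AlgebraicGeometry

noncomputable section

namespace GrothLib.MagnetGr

variable {S : Scheme.{u}} {G X : Over S} [GrpObj G]

/-- The fixed points of an action of an essentially free group on a separated scheme form a closed subscheme. -/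
theorem exists_closed_fixed_essFree (hG : SGA3x.IsEssentiallyFree G.hom) [IsSeparated X.hom]
    (a : AlgGrp.Action G X) :
    ∃ (Z : Over S) (z : Z ⟶ X), IsClosedImmersion z.left ∧
      ∀ (T : Over S) (x : T ⟶ X), (∃ y : T ⟶ Z, y ≫ z = x) ↔
        ∀ (T' : Over S) (t : T' ⟶ T) (g : T' ⟶ G), lift g (t ≫ x) ≫ a.act = t ≫ x := by
  let Δ : X ⟶ X ⊗ X := lift (𝟙 X) (𝟙 X)
  let c : X ⊗ G ⟶ X ⊗ X := lift (lift (snd X G) (fst X G) ≫ a.act) (fst X G)
  have hΔ : IsClosedImmersion Δ.left := by
    rw [Over.lift_left]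
    exact inferInstanceAs (IsClosedImmersion (pullback.diagonal X.hom))
  haveI : IsClosedImmersion (pullback.fst c Δ).left :=
    MorphismProperty.of_isPullback (((IsPullback.of_hasPullback c Δ).map (Over.forget S))).flip hΔ
  obtain ⟨Z, z, hz, -, hZ⟩ := GrothLib.EssFree.exists_closed_forall_points_essFree (pullback.fst c Δ) hG
  refine ⟨Z, z, hz, fun T x => (hZ T x).trans (forall₃_congr fun T' t g => ?_)⟩
  have hc : lift (t ≫ x) g ≫ c = lift (lift g (t ≫ x) ≫ a.act) (t ≫ x) := by
    simp [c, comp_lift_assoc]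
  constructor
  · rintro ⟨l, hl⟩
    have h : lift (t ≫ x) g ≫ c = (l ≫ pullback.snd c Δ) ≫ Δ := by
      rw [← hl, Category.assoc, Category.assoc, pullback.condition]
    rw [hc] at h
    have h1 := congrArg (· ≫ fst X X) h
    have h2 := congrArg (· ≫ snd X X) h
    simp [Δ] at h1 h2
    exact h1.trans h2.symm
  · intro h
    refine ⟨pullback.lift (lift (t ≫ x) g) (t ≫ x) ?_, pullback.lift_fst _ _ _⟩
    rw [hc, h]
    apply CartesianMonoidalCategory.hom_ext <;> simp [Δ]

/-- The fixed points of a group of multiplicative type on a smooth separated scheme form a smooth closed subscheme. -/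
theorem exists_smooth_closed_fixed (hG : SGA3x.IsMultTypeFT G) [Smooth X.hom] [IsSeparated X.hom]
    (a : AlgGrp.Action G X) :
    ∃ (Z : Over S) (z : Z ⟶ X), IsClosedImmersion z.left ∧ Smooth Z.hom ∧
      ∀ (T : Over S) (x : T ⟶ X), (∃ y : T ⟶ Z, y ≫ z = x) ↔
        ∀ (T' : Over S) (t : T' ⟶ T) (g : T' ⟶ G), lift g (t ≫ x) ≫ a.act = t ≫ x := by
  obtain ⟨Z, z, hz, hZ⟩ := exists_closed_fixed_essFree (GrothLib.EssFree.of_multTypeFT G hG) a
  haveI := hz
  haveI : Mono z := Over.mono_of_mono_left _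
  exact ⟨Z, z, hz, smooth_fixed_of_isMultTypeFT hG a z hZ, hZ⟩

end GrothLib.MagnetGr
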