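import Mathlib.AlgebraicGeometry.PullbackCarrier
import Mathlib.AlgebraicGeometry.ResidueField
import Mathlib.RingTheory.Polynomial.Basic
import Mathlib.Topology.Connected.Clopen

/-! # Morphisms which are deformation retractions along the affine line have connected fibres -/

set_option autoImplicit false

universe u

open CategoryTheory CategoryTheory.Limits AlgebraicGeometry

noncomputable section

namespace GrothLib.MagnetGr

theorem preconnectedSpace_spec (R : Type u) [CommRing R] [IsDomain R] :
    PreconnectedSpace ↥(Spec (CommRingCat.of R)) :=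
  inferInstanceAs (PreconnectedSpace (PrimeSpectrum R))

variable {S : Scheme.{u}} {Z Y : Over S} (j : Z ⟶ Y) (σ : Y ⟶ Z)
  (H : ∀ T : Over S, (T ⟶ Z) → Γ(T.left, ⊤) → (T ⟶ Z))
  (hnat : ∀ (T T' : Over S) (t : T' ⟶ T) (z : T ⟶ Z) (c : Γ(T.left, ⊤)),
    H T' (t ≫ z) (t.left.appTop c) = t ≫ H T z c)
  (h0 : ∀ (T : Over S) (z : T ⟶ Z), H T z 0 = z ≫ j ≫ σ)
  (h1 : ∀ (T : Over S) (z : T ⟶ Z), H T z 1 = z)
  (hj : ∀ (T : Over S) (z : T ⟶ Z) (c : Γ(T.left, ⊤)), H T z c ≫ j = z ≫ j)

include hnat h0 h1 hj in
/-- The line joining a point to its retraction. -/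
theorem exists_line (L : Type u) [Field L] (u : Spec (CommRingCat.of L) ⟶ Z.left) :
    ∃ g : Spec (CommRingCat.of (Polynomial L)) ⟶ Z.left,
      Spec.map (CommRingCat.ofHom (Polynomial.evalRingHom (1 : L))) ≫ g = u ∧
      Spec.map (CommRingCat.ofHom (Polynomial.evalRingHom (0 : L))) ≫ g = u ≫ j.left ≫ σ.left ∧
      g ≫ j.left = Spec.map (CommRingCat.ofHom (Polynomial.C : L →+* Polynomial L)) ≫ u ≫ j.left := by
  let π := Spec.map (CommRingCat.ofHom (Polynomial.C : L →+* Polynomial L))
  let T : Over S := Over.mk (π ≫ u ≫ Z.hom)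
  let z : T ⟶ Z := Over.homMk (π ≫ u) (Category.assoc _ _ _)
  let c : Γ(T.left, ⊤) := (Scheme.ΓSpecIso (CommRingCat.of (Polynomial L))).inv Polynomial.X
  let e : L → (Spec (CommRingCat.of L) ⟶ Spec (CommRingCat.of (Polynomial L))) := fun r =>
    Spec.map (CommRingCat.ofHom (Polynomial.evalRingHom r))
  have he : ∀ r, e r ≫ π = 𝟙 _ := fun r => by
    rw [← Spec.map_comp, ← CommRingCat.ofHom_comp,
      show (Polynomial.evalRingHom r).comp Polynomial.C = RingHom.id L from RingHom.ext fun x => by simp]
    exact Spec.map_id _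
  have hc : ∀ r, (e r).appTop c = (Scheme.ΓSpecIso (CommRingCat.of L)).inv r := fun r => by
    rw [← ConcreteCategory.comp_apply, ← Scheme.ΓSpecIso_inv_naturality, ConcreteCategory.comp_apply]
    simp
  have key : ∀ r, H (Over.mk (e r ≫ T.hom)) ((Over.homMk (e r) rfl : Over.mk (e r ≫ T.hom) ⟶ T) ≫ z)
      ((Scheme.ΓSpecIso (CommRingCat.of L)).inv r) = (Over.homMk (e r) rfl : Over.mk (e r ≫ T.hom) ⟶ T) ≫ H T z c := by
    intro r
    rw [← hnat]
    congr 1
    exact (hc r).symm
  refine ⟨(H T z c).left, ?_, ?_, ?_⟩
  · have h := key 1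
    rw [map_one] at h
    have h' := congrArg CommaMorphism.left ((h1 _ _).symm.trans h)
    refine (h'.symm.trans ?_ :)
    change e 1 ≫ π ≫ u = u
    rw [reassoc_of% (he 1)]
  · have h := key 0
    rw [map_zero] at h
    have h' := congrArg CommaMorphism.left ((h0 _ _).symm.trans h)
    refine (h'.symm.trans ?_ :)
    change (e 0 ≫ π ≫ u) ≫ j.left ≫ σ.left = u ≫ j.left ≫ σ.left
    rw [reassoc_of% (he 0)]
  · exact (congrArg CommaMorphism.left (hj T z c)).trans (Category.assoc _ _ _)

include hnat h0 h1 hj in
/-- Every point is connected to its retraction. -/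
theorem mem_connectedComponent (p : Z.left) : p ∈ connectedComponent (σ.left (j.left p)) := by
  obtain ⟨g, hg1, hg0, -⟩ := exists_line j σ H hnat h0 h1 hj (Z.left.residueField p) (Z.left.fromSpecResidueField p)
  let o : Spec (CommRingCat.of (Z.left.residueField p)) := default
  have hp : p ∈ Set.range g := ⟨Spec.map (CommRingCat.ofHom (Polynomial.evalRingHom 1)) o,
    (Scheme.Hom.comp_apply _ _ _).symm.trans ((congrArg (fun q => q o) hg1).trans (Scheme.fromSpecResidueField_apply _ _))⟩
  have hq : σ.left (j.left p) ∈ Set.range g := ⟨Spec.map (CommRingCat.ofHom (Polynomial.evalRingHom 0)) o, by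
    have h := congrArg (fun q => q o) hg0
    simp only [Scheme.Hom.comp_apply, Scheme.fromSpecResidueField_apply] at h
    exact h.trans (congrArg (fun x => σ.left (j.left x)) (Scheme.fromSpecResidueField_apply _ _))⟩
  haveI := preconnectedSpace_spec (Polynomial (Z.left.residueField p))
  exact (isPreconnected_range g.continuous).subset_connectedComponent hq hp

variable (hσ : σ ≫ j = 𝟙 Y)

include hnat h0 h1 hj hσ in
/-- The fibres over field valued points are connected. -/
theorem connectedSpace_fibre (K : Type u) [Field K] (k : Spec (CommRingCat.of K) ⟶ Y.left) :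
    ConnectedSpace ↥(pullback j.left k) := by
  have hσ' : σ.left ≫ j.left = 𝟙 _ := congrArg CommaMorphism.left hσ
  let sec : Spec (CommRingCat.of K) ⟶ pullback j.left k :=
    pullback.lift (k ≫ σ.left) (𝟙 _) (by rw [Category.assoc, hσ', Category.comp_id, Category.id_comp])
  let q₀ : ↥(pullback j.left k) := sec default
  have key : ∀ p : ↥(pullback j.left k), p ∈ connectedComponent q₀ := by
    intro p
    let P := pullback j.left k
    let L := P.residueField p
    let w := P.fromSpecResidueField p
    obtain ⟨g, hg1, hg0, hgj⟩ := exists_line j σ H hnat h0 h1 hj L (w ≫ pullback.fst _ _)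
    let G : Spec (CommRingCat.of (Polynomial L)) ⟶ P :=
      pullback.lift g (Spec.map (CommRingCat.ofHom (Polynomial.C : L →+* Polynomial L)) ≫ w ≫ pullback.snd _ _) (by
        rw [hgj, Category.assoc, Category.assoc, Category.assoc, pullback.condition])
    have hC : ∀ r : L, Spec.map (CommRingCat.ofHom (Polynomial.evalRingHom r)) ≫
        Spec.map (CommRingCat.ofHom (Polynomial.C : L →+* Polynomial L)) = 𝟙 _ := fun r => by
      rw [← Spec.map_comp, ← CommRingCat.ofHom_comp,
        show (Polynomial.evalRingHom r).comp Polynomial.C = RingHom.id L from RingHom.ext fun x => by simp]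
      exact Spec.map_id _
    have e1 : Spec.map (CommRingCat.ofHom (Polynomial.evalRingHom (1 : L))) ≫ G = w := by
      apply pullback.hom_ext
      · rw [Category.assoc, pullback.lift_fst, hg1]
      · rw [Category.assoc, pullback.lift_snd, reassoc_of% (hC 1)]
    have e0 : Spec.map (CommRingCat.ofHom (Polynomial.evalRingHom (0 : L))) ≫ G = (w ≫ pullback.snd _ _) ≫ sec := by
      apply pullback.hom_ext
      · rw [Category.assoc, pullback.lift_fst, hg0, Category.assoc, Category.assoc, Category.assoc,
          pullback.lift_fst, pullback.condition_assoc]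
      · rw [Category.assoc, pullback.lift_snd, reassoc_of% (hC 0), Category.assoc, Category.assoc,
          pullback.lift_snd, Category.comp_id]
    let o : Spec (CommRingCat.of L) := default
    have hp : p ∈ Set.range G := ⟨Spec.map (CommRingCat.ofHom (Polynomial.evalRingHom 1)) o,
      (Scheme.Hom.comp_apply _ _ _).symm.trans ((congrArg (fun q => q o) e1).trans (Scheme.fromSpecResidueField_apply _ _))⟩
    have hq : q₀ ∈ Set.range G := ⟨Spec.map (CommRingCat.ofHom (Polynomial.evalRingHom 0)) o,
      (Scheme.Hom.comp_apply _ _ _).symm.trans ((congrArg (fun q => q o) e0).trans ((Scheme.Hom.comp_apply _ _ _).trans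
        (congrArg sec (Subsingleton.elim _ _))))⟩
    haveI := preconnectedSpace_spec (Polynomial L)
    exact (isPreconnected_range G.continuous).subset_connectedComponent hq hp
  exact connectedSpace_iff_connectedComponent.2 ⟨q₀, Set.eq_univ_of_forall key⟩

include hnat h0 h1 hj hσ in
/-- The retraction is bijective on connected components. -/
theorem bijective_components : Function.Bijective (Continuous.connectedComponentsMap (Scheme.Hom.continuous j.left)) := by
  have hσ' : ∀ y, j.left (σ.left y) = y := fun y =>
    (Scheme.Hom.comp_apply _ _ _).symm.trans (congrArg (fun q : Y.left ⟶ Y.left => q y) (congrArg CommaMorphism.left hσ))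
  have hp : ∀ p : Z.left, (ConnectedComponents.mk p : ConnectedComponents Z.left) =
      Continuous.connectedComponentsMap σ.left.continuous
        (Continuous.connectedComponentsMap (Scheme.Hom.continuous j.left) (ConnectedComponents.mk p)) := fun p =>
    ConnectedComponents.coe_eq_coe'.2 (mem_connectedComponent j σ H hnat h0 h1 hj p)
  refine ⟨fun a b h => ?_, fun b => ?_⟩
  · obtain ⟨a, rfl⟩ := ConnectedComponents.surjective_coe a
    obtain ⟨b, rfl⟩ := ConnectedComponents.surjective_coe b
    rw [hp a, hp b, h]
  · obtain ⟨y, rfl⟩ := ConnectedComponents.surjective_coe b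
    exact ⟨ConnectedComponents.mk (σ.left y), congrArg ConnectedComponents.mk (hσ' y)⟩

end GrothLib.MagnetGr
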