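import Groth.Agent.Lib.MagnetGr25.Alg
import Groth.Agent.Lib.MagnetPts25.Basic

/-! # `A(N)_S ×_S Spec E` is the spectrum of `E[N]` -/

set_option autoImplicit false
-- set_option profiler true
set_option backward.isDefEq.respectTransparency false
set_option backward.isDefEq.respectTransparency.types false

universe u

open CategoryTheory MonoidalCategory CartesianMonoidalCategory MonObj AlgebraicGeometry
open scoped TensorProduct

noncomputable section

namespace GrothLib.MagnetGr

open Magnet MagnetPts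

variable {S : Scheme.{u}} {N : Type} [AddCommMonoid N] {E : Type u} [CommRing E]
variable (s : Spec (CommRingCat.of E) ⟶ S)

/-- `Spec E'` over `S` through a map from `E`. -/
abbrev str {E' : Type u} [CommRing E'] (j : E →+* E') : Spec (CommRingCat.of E') ⟶ S :=
  Spec.map (CommRingCat.ofHom j) ≫ s

/-- The structure map. -/
abbrev toT {E' : Type u} [CommRing E'] (j : E →+* E') : Over.mk (str s j) ⟶ Over.mk s :=
  Over.homMk (Spec.map (CommRingCat.ofHom j)) rfl

/-- The point `(χ, j)` of `A(N)_S ×_S Spec E`. -/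
def pt {E' : Type u} [CommRing E'] (j : E →+* E') (χ : Multiplicative N →* E') :
    Over.mk (str s j) ⟶ AMonS S N ⊗ Over.mk s :=
  lift (amsPoint N (str s j) χ) (toT s j)

variable (N) in
/-- The universal point. -/
abbrev univ : Over.mk (str s (cst : E →+* MA E N)) ⟶ AMonS S N ⊗ Over.mk s :=
  pt (E' := MA E N) s (cst : E →+* MA E N) (uni : Multiplicative N →* MA E N)

theorem pt_snd {E' : Type u} [CommRing E'] (j : E →+* E') (χ : Multiplicative N →* E') :
    pt s j χ ≫ snd _ _ = toT s j := lift_snd _ _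

theorem pt_fst {E' : Type u} [CommRing E'] (j : E →+* E') (χ : Multiplicative N →* E') :
    pt s j χ ≫ fst _ _ = amsPoint N (str s j) χ := lift_fst _ _

theorem pt_comp {E' E'' : Type u} [CommRing E'] [CommRing E''] (j : E →+* E') (χ : Multiplicative N →* E')
    (φ : E' →+* E'') (j' : E →+* E'') (hj : φ.comp j = j') :
    Spec.map (CommRingCat.ofHom φ) ≫ (pt s j χ).left = (pt s j' ((φ : E' →* E'').comp χ)).left := by
  have hp : Spec.map (CommRingCat.ofHom φ) ≫ str s j = str s j' := by
    subst hj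
    simp [str]
  have key : (Over.homMk (Spec.map (CommRingCat.ofHom φ)) hp : Over.mk (str s j') ⟶ Over.mk (str s j)) ≫ pt s j χ =
      pt s j' ((φ : E' →* E'').comp χ) := by
    rw [pt, pt, comp_lift, amsPoint_comp]
    congr 1
    apply Over.OverMorphism.ext
    subst hj
    change Spec.map _ ≫ Spec.map _ = Spec.map _
    rw [← Spec.map_comp]
    rfl
  exact congrArg CommaMorphism.left key

theorem univ_comp {E' : Type u} [CommRing E'] (j : E →+* E') (χ : Multiplicative N →* E') :
    Spec.map (CommRingCat.ofHom (evC j χ)) ≫ (univ N s).left = (pt s j χ).left := by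
  rw [pt_comp s (cst : E →+* MA E N) (uni : Multiplicative N →* MA E N) (evC j χ) j (evC_comp_cst j χ), evC_comp_uni]

attribute [local instance 2000] Algebra.toModule

theorem lift_ringHom_of {A : Type u} [CommRing A] {P : Type} [AddCommMonoid P] {inst : Algebra (ULift.{u} ℤ) A}
    (χ : Multiplicative P →* A) (m : Multiplicative P) :
    (MonoidAlgebra.lift (ULift.{u} ℤ) A (Multiplicative P) χ).toRingHom (MonoidAlgebra.single m 1) = χ m :=
  MonoidAlgebra.lift_of χ m

theorem hz_ext {A : Type u} [CommRing A] {P : Type} [AddCommMonoid P] (φ ψ : MagnetSep.MAlg.{u} P →+* A)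
    (r : ULift.{u} ℤ) : φ (MonoidAlgebra.single 1 r) = ψ (MonoidAlgebra.single 1 r) :=
  RingHom.congr_fun (uz_hom_ext (φ.comp (MonoidAlgebra.singleOneRingHom (R := ULift.{u} ℤ) (M := Multiplicative P)))
    (ψ.comp (MonoidAlgebra.singleOneRingHom (R := ULift.{u} ℤ) (M := Multiplicative P)))) r

theorem isIso_univ : IsIso (univ N s).left := by
  let : Algebra (ULift.{u} ℤ) E := ULift.algebra' ℤ E
  obtain ⟨e, he₁, he₂⟩ := MagnetSep.exists_spec_square (S := S) N (CommRingCat.of E) s
  have : IsScalarTower (ULift.{u} ℤ) (ULift.{u} ℤ) E := ⟨fun a b c => mul_smul a.down b.down c⟩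
  let : Algebra (ULift.{u} ℤ) (MA E N) := ULift.algebra' ℤ (MA E N)
  have : IsScalarTower (ULift.{u} ℤ) (ULift.{u} ℤ) (MA E N) := ⟨fun a b c => mul_smul a.down b.down c⟩
  let jL : E →ₐ[ULift.{u} ℤ] MA E N := ⟨cst, fun r => RingHom.congr_fun (uz_hom_ext
    ((cst : E →+* MA E N).comp (algebraMap (ULift.{u} ℤ) E)) (algebraMap (ULift.{u} ℤ) (MA E N))) r⟩
  let θ : E ⊗[ULift.{u} ℤ] MagnetSep.MAlg.{u} N →ₐ[ULift.{u} ℤ] MA E N :=
    Algebra.TensorProduct.lift jL (MonoidAlgebra.lift (ULift.{u} ℤ) (MA E N) _ uni) fun _ _ => .all _ _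
  let incl : E →+* E ⊗[ULift.{u} ℤ] MagnetSep.MAlg.{u} N := Algebra.TensorProduct.includeLeftRingHom
  let inr : MagnetSep.MAlg.{u} N →ₐ[ULift.{u} ℤ] E ⊗[ULift.{u} ℤ] MagnetSep.MAlg.{u} N :=
    Algebra.TensorProduct.includeRight
  let θ' : MA E N →+* E ⊗[ULift.{u} ℤ] MagnetSep.MAlg.{u} N :=
    MonoidAlgebra.liftNCRingHom incl (inr.toMonoidHom.comp (MonoidAlgebra.of (ULift.{u} ℤ) (Multiplicative N)))
      fun x y => by
        change incl x * inr (MonoidAlgebra.of _ _ y) = inr (MonoidAlgebra.of _ _ y) * incl x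
        simp only [incl, inr, Algebra.TensorProduct.includeLeftRingHom_apply, Algebra.TensorProduct.includeRight_apply,
          Algebra.TensorProduct.tmul_mul_tmul, _root_.one_mul, _root_.mul_one]
  have hc1 : ∀ r, θ' (cst r) = incl r := fun r =>
    (MonoidAlgebra.liftNCRingHom_single _ _ _ _ _).trans (by rw [MonoidHom.map_one]; exact _root_.mul_one _)
  have hc2 : ∀ m, θ' (uni m) = inr (MonoidAlgebra.of _ _ m) := fun m =>
    (MonoidAlgebra.liftNCRingHom_single _ _ _ _ _).trans (by rw [RingHom.map_one]; exact _root_.one_mul _)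
  have hl : ∀ r : E, θ (incl r) = cst r := fun r => by
    simp [θ, incl, jL, Algebra.TensorProduct.includeLeftRingHom]
  have hr : ∀ m, θ (inr m) = MonoidAlgebra.lift (ULift.{u} ℤ) (MA E N) _ uni m := fun m => by
    simp [θ, inr]
  have h1 : θ'.comp θ.toRingHom = RingHom.id _ := by
    refine Algebra.TensorProduct.ringHom_ext ?_ ?_
    · refine RingHom.ext fun r => ?_
      change θ' (θ (incl r)) = incl r
      rw [hl]
      exact hc1 r
    · refine MonoidAlgebra.ringHom_ext (fun r => ?_) fun m => ?_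
      · exact hz_ext (A := E ⊗[ULift.{u} ℤ] MagnetSep.MAlg.{u} N) _ _ r
      · change θ' (θ (inr (MonoidAlgebra.of _ _ m))) = inr (MonoidAlgebra.of _ _ m)
        rw [hr, MonoidAlgebra.lift_of]
        exact hc2 m
  have h2 : θ.toRingHom.comp θ' = RingHom.id _ := by
    refine hom_ext_cst (RingHom.ext fun r => ?_) (MonoidHom.ext fun m => ?_)
    · change θ (θ' (cst r)) = cst r
      rw [hc1, hl]
    · change θ (θ' (uni m)) = uni m
      rw [hc2, hr,
        MonoidAlgebra.lift_of]
  let eθ : CommRingCat.of (E ⊗[ULift.{u} ℤ] MagnetSep.MAlg.{u} N) ≅ CommRingCat.of (MA E N) :=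
    { hom := CommRingCat.ofHom θ.toRingHom
      inv := CommRingCat.ofHom θ'
      hom_inv_id := CommRingCat.hom_ext h1
      inv_hom_id := CommRingCat.hom_ext h2 }
  have key : ((univ N s).left : _ ⟶ _) = Spec.map eθ.hom ≫ e.hom := by
    refine hom_ext_left _ _ ?_ ?_
    · rw [Category.assoc, he₁, ← Over.comp_left, pt_snd]
      change Spec.map _ = _
      rw [← Spec.map_comp, ← CommRingCat.ofHom_comp]
      congr 2
      exact RingHom.ext fun r => (hl r).symm
    · rw [Category.assoc, he₂, ← Category.assoc, ← Over.comp_left, pt_fst, amsPoint_fst]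
      erw [← Spec.map_comp]
      rw [← CommRingCat.ofHom_comp]
      congr 2
      refine MonoidAlgebra.ringHom_ext (fun r => ?_) fun m => ?_
      · exact hz_ext (A := MA E N) _ _ r
      · have hR : θ (inr (MonoidAlgebra.of _ _ m)) = uni m := (hr _).trans (MonoidAlgebra.lift_of _ _)
        refine Eq.trans ?_ hR.symm
        exact lift_ringHom_of _ _
  rw [key]
  exact (Scheme.Spec.mapIso eθ.op ≪≫ e).isIso_hom

end GrothLib.MagnetGr
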