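import Groth.Agent.Lib.MagnetGr25.Attr
import Groth.Agent.Lib.MagnetGr25.Face
import Groth.Agent.Lib.MagnetGr25.Global
import Groth.Agent.Lib.MagnetGr25.Thick
import Mathlib.AlgebraicGeometry.ResidueField
import Mathlib.RingTheory.Spectrum.Prime.Topology
import Mathlib.RingTheory.LocalRing.ResidueField.Basic

/-! # Stable opens containing the limit point contain everything -/

set_option autoImplicit false
set_option backward.isDefEq.respectTransparency false
set_option backward.isDefEq.respectTransparency.types false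

universe u

open CategoryTheory CategoryTheory.Limits MonoidalCategory CartesianMonoidalCategory MonObj AlgebraicGeometry Opposite

noncomputable section

namespace GrothLib.MagnetGr

open Magnet MagnetPts

variable {S : Scheme.{u}} {M : Type} [AddCommGroup M] {X Y : Over S} {aX : MonAct (AMonS S M) X}
  {aY : MonAct (AMonS S M) Y} {f : X ⟶ Y} {N : AddSubmonoid M}

theorem ev_id {E : Type u} [CommRing E] {s : Spec (CommRingCat.of E) ⟶ S} (γ : AMonS S N ⊗ Over.mk s ⟶ Y)
    (χ : Multiplicative N →* E) : ev γ (RingHom.id E) χ = (lift (amsPoint ↥N s χ) (𝟙 _) ≫ γ).left := by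
  have hs : s = str s (RingHom.id E) := by
    rw [str, show CommRingCat.ofHom (RingHom.id E) = 𝟙 _ from rfl, Spec.map_id, Category.id_comp]
  let w : Over.mk (str s (RingHom.id E)) ⟶ Over.mk s := toT s (RingHom.id E)
  have hw : w.left = 𝟙 _ := Spec.map_id _
  have key : w ≫ lift (amsPoint ↥N s χ) (𝟙 _) = pt s (RingHom.id E) χ := by
    rw [pt, comp_lift, Category.comp_id]
    congr 1
    exact amsPoint_comp s (str s (RingHom.id E)) (RingHom.id E) χ rfl
  rw [ev, ← key, Category.assoc, Over.comp_left, hw]
  exact Category.id_comp _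

theorem range_orb_subset (hf : MonAct.IsEquivariant aX aY f) [IsOpenImmersion f.left] {E : Type u} [CommRing E]
    (x : Spec (CommRingCat.of E) ⟶ Y.left) (g : Multiplicative M →* E)
    (hx : Set.range x ⊆ Set.range f.left) : Set.range (orb aY x g) ⊆ Set.range f.left := by
  have hl := IsOpenImmersion.lift_fac f.left x hx
  rw [← hl, ← orb_comp_equivariant aX hf]
  rintro _ ⟨p, rfl⟩
  exact ⟨_, (Scheme.Hom.comp_apply _ _ _).symm⟩

theorem range_subset_of_orb (hf : MonAct.IsEquivariant aX aY f) [IsOpenImmersion f.left] {E : Type u} [CommRing E]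
    (x : Spec (CommRingCat.of E) ⟶ Y.left) (g : Multiplicative M →* E)
    (hx : Set.range (orb aY x g) ⊆ Set.range f.left) : Set.range x ⊆ Set.range f.left := by
  let g' : Multiplicative M →* E := g.comp (invMonoidHom : Multiplicative M →* Multiplicative M)
  have h := range_orb_subset hf (orb aY x g) g' hx
  rwa [orb_orb, show g' * g = 1 from MonoidHom.ext fun m => by simp [g', ← map_mul], orb_one] at h

variable {O : Y.left.Opens} (hO : ∀ {E : Type u} [CommRing E] (x : Spec (CommRingCat.of E) ⟶ Y.left)
  (g : Multiplicative M →* E), Set.range x ⊆ (O : Set Y.left) → Set.range (orb aY x g) ⊆ (O : Set Y.left))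

include hO in
theorem range_subset_of_orb' {E : Type u} [CommRing E] (x : Spec (CommRingCat.of E) ⟶ Y.left)
    (g : Multiplicative M →* E) (hx : Set.range (orb aY x g) ⊆ (O : Set Y.left)) : Set.range x ⊆ (O : Set Y.left) := by
  let g' : Multiplicative M →* E := g.comp (invMonoidHom : Multiplicative M →* Multiplicative M)
  have h := hO (orb aY x g) g' hx
  rwa [orb_orb, show g' * g = 1 from MonoidHom.ext fun m => by simp [g', ← map_mul], orb_one] at h

/-- The support of a point of `A(N)` over a field is a face. -/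
def suppFace {K : Type u} [Field K] (χ : Multiplicative N →* K) : AddSubmonoid M where
  carrier := {m | ∃ h : m ∈ N, χ (Multiplicative.ofAdd ⟨m, h⟩) ≠ 0}
  zero_mem' := ⟨N.zero_mem, by rw [show Multiplicative.ofAdd (⟨0, N.zero_mem⟩ : N) = 1 from rfl, map_one]; exact one_ne_zero⟩
  add_mem' := by
    rintro x y ⟨hx, hx'⟩ ⟨hy, hy'⟩
    refine ⟨N.add_mem hx hy, ?_⟩
    rw [show Multiplicative.ofAdd (⟨x + y, N.add_mem hx hy⟩ : N) =
      Multiplicative.ofAdd ⟨x, hx⟩ * Multiplicative.ofAdd ⟨y, hy⟩ from rfl, map_mul]
    exact mul_ne_zero hx' hy'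

theorem isFace_suppFace {K : Type u} [Field K] (χ : Multiplicative N →* K) : IsFace N (suppFace χ) where
  le := fun _ h => h.1
  mem_of_add_mem x hx y hy := by
    rintro ⟨hxy, h⟩
    rw [show Multiplicative.ofAdd (⟨x + y, hxy⟩ : N) =
      Multiplicative.ofAdd ⟨x, hx⟩ * Multiplicative.ofAdd ⟨y, hy⟩ from rfl, map_mul] at h
    exact ⟨⟨hx, left_ne_zero_of_mul h⟩, hy, right_ne_zero_of_mul h⟩

theorem unitFace_le_suppFace {K : Type u} [Field K] (χ : Multiplicative N →* K) :
    unitFace N ≤ suppFace χ := by
  rintro x ⟨hx, y, hy, hxy⟩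
  refine ⟨hx, left_ne_zero_of_mul (b := χ (Multiplicative.ofAdd ⟨y, hy⟩)) ?_⟩
  rw [← map_mul, show Multiplicative.ofAdd (⟨x, hx⟩ : N) * Multiplicative.ofAdd ⟨y, hy⟩ = 1 from
    Multiplicative.toAdd.injective (Subtype.ext hxy), map_one]
  exact one_ne_zero

include hO in
/-- A stable open subset of `A(N)_K` containing the limit point contains every rational point. -/
theorem range_ev_subset' {K : Type u} [Field K]
    {s : Spec (CommRingCat.of K) ⟶ S} (γ : (attr aY N).obj (op (Over.mk s)))
    (h0 : Set.range (ev γ.1 (RingHom.id K) (extChar (isFace_unitFace N) (1 : Multiplicative (unitFace N) →* K))) ⊆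
      (O : Set Y.left))
    (χ : Multiplicative N →* K) : Set.range (ev γ.1 (RingHom.id K) χ) ⊆ (O : Set Y.left) := by
  classical
  let G := suppFace χ
  have hG := isFace_suppFace χ
  let χG : Multiplicative G →* K := χ.comp (AddMonoidHom.toMultiplicative (AddSubmonoid.inclusion hG.le))
  let φ : MA K G →+* MA K M := evC (cst : K →+* MA K M)
    (((cst : K →+* MA K M) : K →* MA K M).comp χG *
      (uni : Multiplicative M →* MA K M).comp (AddMonoidHom.toMultiplicative G.subtype))
  have hφ : ∀ z m, (φ z).coeff (AddMonoidHom.toMultiplicative G.subtype m) = z.coeff m * χG m := by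
    intro z m
    induction z using MonoidAlgebra.induction_linear with
    | zero => simp
    | add x y hx hy => rw [map_add, MonoidAlgebra.coeff_add, Finsupp.add_apply, hx, hy, MonoidAlgebra.coeff_add, Finsupp.add_apply, add_mul]
    | single k r =>
      simp only [φ, evC_single, MonoidHom.mul_apply, MonoidHom.coe_comp, Function.comp_apply, MonoidHom.coe_coe,
        cst_apply, MonoidAlgebra.of_apply, MonoidAlgebra.single_mul_single, _root_.one_mul, _root_.mul_one,
        MonoidAlgebra.coeff_single]
      by_cases hk : k = m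
      · subst hk; simp
      · rw [Finsupp.single_eq_of_ne (Ne.symm hk), Finsupp.single_eq_of_ne, zero_mul]
        intro e
        apply hk
        apply Multiplicative.toAdd.injective
        apply Subtype.ext
        exact (congrArg Multiplicative.toAdd e).symm
  have hinj : Function.Injective φ := by
    rw [injective_iff_map_eq_zero]
    intro z hz
    refine ext_coeff fun m => ?_
    have h := hφ z m
    rw [hz, MonoidAlgebra.coeff_zero, Finsupp.zero_apply] at h
    have hne : χG m ≠ 0 := by
      obtain ⟨_, h'⟩ := m.toAdd.2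
      exact h'
    simpa using (mul_eq_zero.1 h.symm).resolve_right hne
  -- the restriction to the support
  let ψ := ev γ.1 (cst : K →+* MA K G) (extChar hG uni)
  let V : Set (PrimeSpectrum (MA K G)) := (fun q : Spec (CommRingCat.of (MA K G)) => ψ q) ⁻¹' (O : Set Y.left)
  have hV : IsOpen V := O.isOpen.preimage ψ.continuous
  let e0 : MA K G →+* K := evC (RingHom.id K) (extChar (N := G) (F := unitFace N)
    ⟨unitFace_le_suppFace χ, fun x hx y hy => (isFace_unitFace N).mem_of_add_mem x (hG.le hx) y (hG.le hy)⟩ 1)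
  have hV0 : V.Nonempty := by
    refine ⟨PrimeSpectrum.comap e0 default, h0 ?_⟩
    refine ⟨default, ?_⟩
    have hψ : Spec.map (CommRingCat.ofHom e0) ≫ ψ =
        ev γ.1 (RingHom.id K) (extChar (isFace_unitFace N) (1 : Multiplicative (unitFace N) →* K)) := by
      rw [comp_ev, evC_comp_cst, comp_extChar, evC_comp_uni]
      congr 1
      refine MonoidHom.ext fun k => ?_
      by_cases hk : (k.toAdd : M) ∈ unitFace N
      · rw [extChar_of_mem _ _ _ hk, extChar_of_mem hG _ _ (unitFace_le_suppFace χ hk),
          extChar_of_mem _ _ _ (show ((Multiplicative.ofAdd (⟨_, unitFace_le_suppFace χ hk⟩ : G)).toAdd : M) ∈ unitFace N from hk)]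
        rfl
      · rw [extChar_of_not_mem _ _ _ hk]
        by_cases hk' : (k.toAdd : M) ∈ G
        · rw [extChar_of_mem hG _ _ hk', extChar_of_not_mem _ _ _
            (show ((Multiplicative.ofAdd (⟨_, hk'⟩ : G)).toAdd : M) ∉ unitFace N from hk)]
        · rw [extChar_of_not_mem hG _ _ hk']
    rw [← hψ, Scheme.Hom.comp_apply]
    exact congrArg (fun q : PrimeSpectrum K => ψ (PrimeSpectrum.comap e0 q)) (Subsingleton.elim _ _)
  obtain ⟨P, hP⟩ := ((PrimeSpectrum.denseRange_comap_iff_ker_le_nilRadical φ).2
    ((RingHom.injective_iff_ker_eq_bot _).1 hinj ▸ bot_le)).exists_mem_open hV hV0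
  let L := P.asIdeal.ResidueField
  let res' : MA K M →+* L := algebraMap (MA K M) L
  let jL : K →+* L := res'.comp cst
  let g : Multiplicative M →* L := (res' : MA K M →* L).comp uni
  let χL : Multiplicative N →* L := (jL : K →* L).comp χ
  have hrange : Set.range (ev γ.1 jL (res N g * χL)) ⊆ (O : Set Y.left) := by
    have e : Spec.map (CommRingCat.ofHom (res'.comp φ)) ≫ ψ = ev γ.1 jL (res N g * χL) := by
      rw [comp_ev, RingHom.comp_assoc, evC_comp_cst, comp_extChar]
      congr 1
      refine MonoidHom.ext fun k => ?_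
      by_cases hk : (k.toAdd : M) ∈ G
      · rw [extChar_of_mem hG _ _ hk, MonoidHom.comp_apply, MonoidHom.coe_coe, RingHom.comp_apply]
        change res' (evC _ _ (MonoidAlgebra.single _ 1)) = _
        rw [evC_single, map_one, _root_.one_mul, MonoidHom.mul_apply, map_mul, MonoidHom.mul_apply, _root_.mul_comm]
        rfl
      · rw [extChar_of_not_mem hG _ _ hk]
        have : χ k = 0 := by
          by_contra hne
          exact hk ⟨k.toAdd.2, hne⟩
        simp [χL, this]
    rintro _ ⟨p, rfl⟩
    rw [← e, Scheme.Hom.comp_apply]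
    have hp : PrimeSpectrum.comap res' p = P := by
      apply PrimeSpectrum.ext
      have : p.asIdeal = ⊥ := (Ideal.eq_bot_or_top p.asIdeal).resolve_right p.isPrime.ne_top
      rw [PrimeSpectrum.comap_asIdeal, this, ← RingHom.ker_eq_comap_bot]
      exact Ideal.ker_algebraMap_residueField _
    change ψ (PrimeSpectrum.comap (res'.comp φ) p) ∈ (O : Set Y.left)
    rw [PrimeSpectrum.comap_comp_apply, hp]
    exact hP
  rw [← orb_ev aY γ.2] at hrange
  have h := range_subset_of_orb' hO _ g hrange
  have e : Spec.map (CommRingCat.ofHom jL) ≫ ev γ.1 (RingHom.id K) χ = ev γ.1 jL χL := by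
    rw [comp_ev, RingHom.comp_id]
  rintro _ ⟨p, rfl⟩
  refine h ⟨default, ?_⟩
  rw [← e, Scheme.Hom.comp_apply]
  exact congrArg _ (Subsingleton.elim _ _)

/-- A stable open of `A(N)_K` containing the limit point contains every rational point. -/
theorem range_ev_subset (hf : MonAct.IsEquivariant aX aY f) [IsOpenImmersion f.left] {K : Type u} [Field K]
    {s : Spec (CommRingCat.of K) ⟶ S} (γ : (attr aY N).obj (op (Over.mk s)))
    (h0 : Set.range (ev γ.1 (RingHom.id K) (extChar (isFace_unitFace N) (1 : Multiplicative (unitFace N) →* K))) ⊆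
      Set.range f.left)
    (χ : Multiplicative N →* K) : Set.range (ev γ.1 (RingHom.id K) χ) ⊆ Set.range f.left :=
  range_ev_subset' (O := f.left.opensRange) (fun x g hx => range_orb_subset hf x g hx) γ h0 χ

include hO in
/-- An equivariant family whose limit lands in a stable open subset lands in it entirely. -/
theorem range_subset_of_limit' {T : Over S}
    (y : (attr aY N).obj (op T))
    (h : Set.range ((attrToX aY (unitFace N)).app (op T) ((attrFace aY (isFace_unitFace N)).app (op T) y)).left ⊆
      (O : Set Y.left)) : Set.range y.1.left ⊆ (O : Set Y.left) := by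
  rintro _ ⟨q, rfl⟩
  let Q := (AMonS S N ⊗ T).left
  let s : Spec (CommRingCat.of (Q.residueField q)) ⟶ S := Q.fromSpecResidueField q ≫ (AMonS S N ⊗ T).hom
  let v : Over.mk s ⟶ AMonS S N ⊗ T := Over.homMk (Q.fromSpecResidueField q) rfl
  obtain ⟨χ, hχ⟩ := (amsPoint ↥N s).surjective (v ≫ fst _ _)
  let t : Over.mk s ⟶ T := v ≫ snd _ _
  let γ := (attr aY N).map t.op y
  have h0 : ev γ.1 (RingHom.id _) (extChar (isFace_unitFace N) 1) =
      (t ≫ (attrToX aY (unitFace N)).app (op T) ((attrFace aY (isFace_unitFace N)).app (op T) y)).left := by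
    rw [← attrToX_map, ← NatTrans.naturality_apply, attrToX_app, attrFace_app_coe, ev_face]
  have hsub := range_ev_subset' hO γ (by
    rw [h0, Over.comp_left]
    rintro _ ⟨p, rfl⟩
    rw [Scheme.Hom.comp_apply]
    exact h ⟨_, rfl⟩) χ
  refine hsub ⟨default, ?_⟩
  have e : ev γ.1 (RingHom.id _) χ = (v ≫ y.1).left := by
    rw [ev_id]
    refine congrArg CommaMorphism.left ?_
    change lift (amsPoint ↥N s χ) (𝟙 _) ≫ (AMonS S N ◁ t) ≫ y.1 = _
    rw [lift_whiskerLeft_assoc, Category.id_comp, hχ]
    have : lift (v ≫ fst _ _) t = v := by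
      rw [← comp_lift, lift_fst_snd, Category.comp_id]
    rw [this]
  rw [e, Over.comp_left, Scheme.Hom.comp_apply]
  exact congrArg y.1.left (Scheme.fromSpecResidueField_apply _ _)

/-- An equivariant family whose limit lands in a stable open lands in it entirely. -/
theorem range_subset_of_limit (hf : MonAct.IsEquivariant aX aY f) [IsOpenImmersion f.left] {T : Over S}
    (y : (attr aY N).obj (op T))
    (h : Set.range ((attrToX aY (unitFace N)).app (op T) ((attrFace aY (isFace_unitFace N)).app (op T) y)).left ⊆
      Set.range f.left) : Set.range y.1.left ⊆ Set.range f.left :=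
  range_subset_of_limit' (O := f.left.opensRange) (fun x g hx => range_orb_subset hf x g hx) y h

end GrothLib.MagnetGr
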